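import Cfsg.Agent.LargeExtra.Nine.Iface
import Cfsg.Agent.LargeExtra.KillNine.PairConj

/-!
# Computing with the codes of `Nine.Iface` (helper441)

`ap L n` = the code of the image of `vec n` under `lin L`; `mulL L M` = the matrix "first `L`, then `M`";
`InH`, `InX`: matrices realised by elements of `p.H`, `p.X`.
-/

set_option autoImplicit false

namespace Cfsg.Agent.LargeExtra.KillNine.Codes

open Cfsg.Agent.Co2Type.Quad Cfsg.Agent.LargeExtra.Base Cfsg.Agent.LargeExtra.Nine

/-- image of the code `n` under the matrix `L` -/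
def ap (L : List ℕ) (n : ℕ) : ℕ :=
  (if n.testBit 0 then L.getD 0 0 else 0) ^^^ (if n.testBit 1 then L.getD 1 0 else 0) ^^^
  (if n.testBit 2 then L.getD 2 0 else 0) ^^^ (if n.testBit 3 then L.getD 3 0 else 0) ^^^
  (if n.testBit 4 then L.getD 4 0 else 0) ^^^ (if n.testBit 5 then L.getD 5 0 else 0) ^^^
  (if n.testBit 6 then L.getD 6 0 else 0) ^^^ (if n.testBit 7 then L.getD 7 0 else 0)

/-- first `L`, then `M` -/
def mulL (L M : List ℕ) : List ℕ := L.map (ap M)

/-- the identity matrix -/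
def idL : List ℕ := [1, 2, 4, 8, 16, 32, 64, 128]

/-- product of a word -/
def prodL (w : List (List ℕ)) : List ℕ := w.foldl mulL idL

theorem vec_zero : vec 0 = 0 := by
  funext i
  simp [vec]

theorem vec_xor (a b : ℕ) : vec (a ^^^ b) = vec a + vec b := by
  funext i
  simp only [vec, Pi.add_apply, Nat.testBit_xor]
  cases a.testBit i <;> cases b.testBit i <;> decide

theorem vec_ite (c : Prop) [Decidable c] (a : ℕ) :
    vec (if c then a else 0) = (if c then (1 : ZMod 2) else 0) • vec a := by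
  by_cases h : c
  · rw [if_pos h, if_pos h, one_smul]
  · rw [if_neg h, if_neg h, zero_smul, vec_zero]

theorem lin_vec (L : List ℕ) (n : ℕ) : lin L (vec n) = vec (ap L n) := by
  show ∑ i : Fin 8, vec n i • vec (L.getD i 0) = _
  rw [Fin.sum_univ_eight, ap]
  simp only [vec_xor, vec_ite]
  rfl

theorem vec_bits (v : F8) : v = vec (∑ i : Fin 8, if v i = 1 then 2 ^ (i : ℕ) else 0) := by
  revert v
  decide +kernel

theorem exists_code (v : F8) : ∃ n < 256, v = vec n := by
  refine ⟨∑ i : Fin 8, if v i = 1 then 2 ^ (i : ℕ) else 0, ?_, vec_bits v⟩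
  revert v
  decide +kernel

theorem vec_inj : ∀ n < 256, ∀ m < 256, vec n = vec m → n = m := by
  intro n hn m hm h
  apply Nat.eq_of_testBit_eq
  intro i
  by_cases hi : i < 8
  · have h1 := congrFun h ⟨i, hi⟩
    simp only [vec] at h1
    cases h2 : n.testBit i <;> cases h3 : m.testBit i <;> rw [h2, h3] at h1 <;> simp at h1 ⊢
  · have h8 : 256 ≤ 2 ^ i := by
      calc 256 = 2 ^ 8 := by norm_num
        _ ≤ 2 ^ i := Nat.pow_le_pow_right (by norm_num) (by omega)
    rw [Nat.testBit_lt_two_pow (by omega), Nat.testBit_lt_two_pow (by omega)]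

theorem basis_vec (i : Fin 8) : (Pi.single i 1 : F8) = vec (2 ^ (i : ℕ)) := by
  revert i; decide

theorem lin_ext {f g : F8 →ₗ[ZMod 2] F8} (h : ∀ n < 256, f (vec n) = g (vec n)) : f = g := by
  apply LinearMap.ext
  intro v
  obtain ⟨n, hn, rfl⟩ := exists_code v
  exact h n hn

theorem lin_mulL (L M : List ℕ) (v : F8) : lin (mulL L M) v = lin M (lin L v) := by
  obtain ⟨n, hn, rfl⟩ := exists_code v
  show ∑ i : Fin 8, vec n i • vec ((mulL L M).getD i 0) = lin M (∑ i : Fin 8, vec n i • vec (L.getD i 0))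
  rw [map_sum]
  apply Finset.sum_congr rfl
  intro i _
  rw [map_smul, lin_vec]
  congr 2
  show (L.map (ap M)).getD i 0 = ap M (L.getD i 0)
  have h0 : ap M 0 = 0 := by simp [ap]
  rw [List.getD_eq_getElem?_getD, List.getD_eq_getElem?_getD, List.getElem?_map]
  cases L[(i : ℕ)]? with
  | none => simp [h0]
  | some x => simp

theorem lin_id (v : F8) : lin idL v = v := by
  obtain ⟨n, hn, rfl⟩ := exists_code v
  rw [lin_vec]
  have : ∀ n < 256, ap idL n = n := by decide +kernel
  rw [this n hn]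

section

variable {G : Type*} [Group G] {Q A : Subgroup G} {z a : G}

theorem Acts.mul {h : Large Q z} {φ : Coord h} {L M : List ℕ} {f g : h.V ≃ₗ[ZMod 2] h.V}
    (hf : Acts φ L f) (hg : Acts φ M g) : Acts φ (mulL L M) (g * f) := by
  intro v
  rw [lin_mulL, ← hf v, ← hg (f v)]
  rfl

theorem Acts.one {h : Large Q z} {φ : Coord h} : Acts φ idL (1 : h.V ≃ₗ[ZMod 2] h.V) := by
  intro v
  rw [lin_id]
  rfl

theorem Acts.ext {h : Large Q z} {φ : Coord h} {L : List ℕ} {f g : h.V ≃ₗ[ZMod 2] h.V}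
    (hf : Acts φ L f) (hg : Acts φ L g) : f = g := by
  ext v
  apply φ.e.injective
  rw [hf v, hg v]

/-- `L` is realised by an element of `S` -/
def In {h : Large Q z} (φ : Coord h) (S : Subgroup (h.V ≃ₗ[ZMod 2] h.V)) (L : List ℕ) : Prop :=
  ∃ f ∈ S, Acts φ L f

theorem In.mul {h : Large Q z} {φ : Coord h} {S : Subgroup (h.V ≃ₗ[ZMod 2] h.V)} {L M : List ℕ}
    (hL : In φ S L) (hM : In φ S M) : In φ S (mulL L M) := by
  obtain ⟨f, hf, hf'⟩ := hL
  obtain ⟨g, hg, hg'⟩ := hM
  exact ⟨g * f, S.mul_mem hg hf, Acts.mul hf' hg'⟩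

theorem In.one {h : Large Q z} {φ : Coord h} {S : Subgroup (h.V ≃ₗ[ZMod 2] h.V)} :
    In φ S idL := ⟨1, S.one_mem, Acts.one⟩

theorem In.prod {h : Large Q z} {φ : Coord h} {S : Subgroup (h.V ≃ₗ[ZMod 2] h.V)}
    {w : List (List ℕ)} (hw : ∀ L ∈ w, In φ S L) : In φ S (prodL w) := by
  have key : ∀ (w : List (List ℕ)) (M : List ℕ), (∀ L ∈ w, In φ S L) → In φ S M →
      In φ S (w.foldl mulL M) := by
    intro w
    induction w with
    | nil => intro M _ hM; exact hM
    | cons L w ih =>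
      intro M hw hM
      exact ih _ (fun L' hL' => hw L' (List.mem_cons_of_mem _ hL')) (hM.mul (hw L (List.mem_cons_self ..)))
  exact key w idL hw In.one

end

end Cfsg.Agent.LargeExtra.KillNine.Codes
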