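import Cfsg.Agent.LargeExtra.KillNine.Pts

/-!
# The conjugates of `z` in `Q` for `confK2` (helper441, generated)
-/

set_option autoImplicit false
set_option maxRecDepth 1000000

namespace Cfsg.Agent.LargeExtra.KillNine.PtsK2

open Cfsg.Agent.Co2Type.Quad Cfsg.Agent.LargeExtra.Base Cfsg.Agent.LargeExtra.Nine
open Cfsg.Agent.LargeExtra.KillNine.Pts Cfsg.Agent.LargeExtra.KillNine.Codes

variable {G : Type*} [Group G] {Q A : Subgroup G} {z a : G}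

def g0 : List ℕ := [1,2,4,9,144,36,66,128]
def g1 : List ℕ := [1,2,5,8,80,40,64,130]
def g2 : List ℕ := [1,3,4,8,48,32,72,132]
def g3 : List ℕ := [75,2,146,64,16,120,8,22]
def g4 : List ℕ := [45,148,4,32,16,8,120,22]
def g5 : List ℕ := [237,90,186,80,16,104,24,118]
def g6 : List ℕ := [1,4,2,9,144,66,36,128]

/-- the points of `confK2` -/
def orb : List ℕ := [
    1, 6, 7, 8, 9, 10, 11, 12, 13, 16, 24, 32, 36, 40, 45, 48, 56, 64, 66, 72, 75, 80, 88, 96, 102,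
    104, 111, 112, 120, 144, 153, 180, 189, 210, 219, 224, 225, 230, 231, 234, 235, 236, 237, 246,
    255]

def s0_0 : List ℕ := [75,2,155,11,6,235,10,30]
def s0_1 : List ℕ := [75,2,208,64,80,48,8,87]

def T0 : List (ℕ × List ℕ × List ℕ) := [
  (2,idL,idL), (3,[1,3,4,8,48,32,72,132],[1,3,4,8,48,32,72,132]),
  (148,[45,148,4,32,16,8,120,22],[45,148,4,32,16,8,120,22]),
  (90,[237,90,186,80,16,104,24,118],[237,90,186,80,16,104,24,118]),
  (4,[1,4,2,9,144,66,36,128],[1,4,2,9,144,66,36,128]),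
  (73,[75,73,146,64,104,120,72,132],[66,3,183,72,48,80,8,55]),
  (185,[45,185,4,32,24,8,88,18],[45,176,4,32,48,8,80,55]),
  (183,[237,183,186,80,120,104,72,204],[225,115,159,120,48,96,56,95]),
  (5,[1,5,2,9,210,66,45,130],[1,4,3,9,180,75,36,132]),
  (20,[40,20,4,36,144,9,255,150],[45,148,4,13,6,12,236,22]),
  (215,[36,215,5,40,80,8,48,87],[45,148,41,32,104,40,120,130]),
  (176,[45,176,4,32,48,8,80,55],[45,185,4,32,24,8,88,18]),
  (220,[111,220,186,104,16,80,48,240],[111,220,186,104,16,80,48,240]),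
  (18,[72,18,2,66,144,9,255,150],[45,4,148,13,6,236,12,22]),
  (217,[234,217,63,210,144,111,153,240],[237,90,186,189,102,210,66,118]),
  (26,[230,26,240,16,80,96,88,63],[237,90,87,80,8,56,24,44]),
  (115,[225,115,159,120,48,96,56,95],[237,183,186,80,120,104,72,204]),
  (146,[75,146,2,11,6,10,234,22],[40,4,20,36,144,255,9,150]),
  (186,[237,186,90,189,102,66,210,118],[236,185,95,180,144,111,153,240]),
  (74,[72,74,18,66,111,255,75,132],[66,3,183,10,7,231,11,55]),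
  (65,[66,65,183,72,96,80,64,128],[66,65,183,72,96,80,64,128]),
  (117,[225,117,146,120,80,64,88,18],[237,176,183,80,48,72,32,132]),
  (165,[255,165,60,24,32,48,72,204],[210,115,28,56,48,16,120,220]),
  (44,[40,44,20,36,111,255,45,130],[66,183,3,10,7,11,231,55]),
  (60,[40,60,4,36,153,9,219,146],[45,176,4,13,7,12,224,55]),
  (243,[36,243,5,40,88,8,24,82],[45,176,41,32,96,40,80,135]),
  (157,[45,157,4,32,56,8,112,51],[45,157,4,32,56,8,112,51]),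
  (179,[111,179,186,104,64,80,88,74],[102,240,159,96,48,120,16,220]),
  (51,[234,51,63,210,255,111,75,207],[225,115,159,153,111,255,75,95]),
  (252,[230,252,240,16,48,96,72,207],[225,115,126,120,8,24,56,44]),
  (85,[236,85,95,180,255,111,45,175],[225,159,115,153,111,75,255,95]),
  (41,[45,41,148,13,234,236,1,130],[64,51,3,75,180,9,210,179]),
  (87,[237,87,90,189,36,66,111,44],[224,157,118,144,180,102,189,220]),
  (52,[40,52,4,36,180,9,210,179],[45,185,4,13,10,12,225,18]),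
  (130,[56,130,146,234,6,11,237,150],[88,148,132,236,6,235,13,150]),
  (170,[56,170,186,210,102,189,75,134],[210,115,133,234,6,237,11,118]),
  (250,[36,250,5,40,120,8,16,126],[45,185,41,32,64,40,88,171]),
  (213,[234,213,217,56,24,64,104,195],[225,148,126,120,104,24,32,213]),
  (195,[12,195,41,40,104,32,24,213],[12,195,41,40,104,32,24,213]),
  (126,[225,126,146,120,104,64,24,179],[236,185,179,88,24,104,32,165]),
  (14,[1,14,4,8,24,32,104,165],[1,14,4,8,24,32,104,165]),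
  (82,[72,82,2,66,210,9,180,213],[45,4,185,13,10,225,12,18]),
  (95,[104,95,63,111,144,210,180,118],[111,220,186,7,224,234,236,240]),
  (159,[102,159,240,96,80,16,120,186],[111,220,213,104,32,56,48,44]),
  (240,[102,240,159,96,48,120,16,220],[111,179,186,104,64,80,88,74]),
  (63,[104,63,95,111,144,180,210,118],[111,186,220,7,224,236,234,240]),
  (132,[88,132,148,236,6,13,235,150],[88,132,148,236,6,13,235,150]),
  (155,[224,155,118,144,210,102,219,186],[237,90,87,189,36,111,66,44]),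
  (245,[231,245,30,255,180,102,189,220],[237,183,186,189,180,210,255,204]),
  (59,[235,59,220,48,120,104,112,30],[237,183,87,80,48,56,72,123]),
  (164,[246,164,118,16,104,112,72,133],[210,115,87,56,8,80,120,5]),
  (208,[75,208,2,11,7,10,224,87],[40,4,60,36,153,219,9,146]),
  (67,[64,67,51,75,102,210,66,128],[66,65,183,10,224,231,1,128]),
  (204,[88,204,132,236,237,235,225,18],[24,135,183,231,7,10,225,179]),
  (37,[32,37,85,45,102,180,36,128],[66,183,65,10,224,1,231,128]),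
  (93,[237,93,183,80,120,72,112,51],[237,93,183,80,120,72,112,51]),
  (55,[235,55,60,48,8,24,88,74],[230,240,28,16,48,56,96,95]),
  (161,[120,161,185,153,36,180,75,207],[210,115,28,234,236,12,11,220]),
  (174,[180,174,117,88,40,120,72,207],[210,115,206,56,72,40,120,175]),
  (193,[120,193,217,153,66,210,45,175],[210,28,115,234,236,11,12,220]),
  (28,[40,28,4,36,189,9,246,183],[45,157,4,13,11,12,237,51]),
  (222,[36,222,5,40,112,8,56,123],[45,157,41,32,72,40,112,174]),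
  (207,[12,207,41,40,72,32,48,252],[12,206,41,40,96,32,56,249]),
  (15,[1,15,4,8,56,32,96,161],[1,15,4,8,56,32,96,161]),
  (97,[111,97,186,104,40,80,96,207],[66,245,190,72,56,88,24,217]),
  (249,[102,249,240,96,64,16,24,74],[102,240,249,96,32,24,16,44]),
  (150,[102,150,159,96,72,120,112,67],[102,150,159,96,72,120,112,67]),
  (123,[224,123,118,144,180,102,75,204],[225,115,126,153,36,102,75,44]),
  (33,[36,33,243,12,237,235,1,133],[64,115,67,75,111,66,153,131]),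
  (125,[224,125,118,144,210,102,45,170],[225,126,115,153,36,75,102,44]),
  (22,[230,22,26,246,45,66,102,37],[224,157,150,144,9,246,189,65]),
  (194,[56,194,186,210,180,189,36,185],[219,95,160,235,10,224,7,90]),
  (128,[112,128,208,224,7,11,230,213],[88,148,220,236,11,7,13,2]),
  (135,[24,135,183,231,7,10,225,179],[88,204,132,236,237,235,225,18]),
  (175,[189,175,63,80,96,56,72,134],[210,115,133,56,112,104,120,118]),
  (160,[112,160,240,144,111,246,75,133],[210,115,87,234,13,7,11,5]),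
  (206,[12,206,41,40,96,32,56,249],[12,207,41,40,72,32,48,252]),
  (30,[96,30,118,102,210,144,255,63],[111,220,213,7,12,237,236,44]),
  (118,[96,118,30,102,180,255,144,95],[111,179,186,7,10,234,235,74]),
  (131,[48,131,243,235,6,12,236,240],[88,220,204,236,224,225,7,134]),
  (133,[80,133,245,237,6,10,234,240],[88,204,220,236,224,7,225,134]),
  (190,[236,190,95,180,255,111,246,159],[237,183,87,189,75,111,255,123]),
  (129,[6,129,128,102,36,144,153,4],[6,129,128,102,36,144,153,4]),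
  (192,[112,192,240,144,111,246,45,131],[210,87,115,234,13,11,7,5]),
  (171,[48,171,243,219,45,255,75,204],[210,115,206,234,231,230,11,175]),
  (205,[80,205,245,189,75,255,45,170],[210,206,115,234,231,11,230,175]),
  (103,[104,103,63,111,45,210,102,204],[66,245,190,10,225,230,237,217]),
  (105,[102,105,240,96,32,16,104,204],[66,245,252,72,32,16,24,44]),
  (134,[144,134,59,112,72,48,96,175],[210,206,133,56,72,104,40,73]),
  (110,[96,110,118,6,235,230,1,207],[64,115,123,11,13,235,234,41])]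

def L0 : List (List ℕ × List (List ℕ)) := [
  (idL,[]), ([75,2,155,11,6,235,10,30],[s0_0]), ([75,2,208,64,80,48,8,87],[s0_1]),
  ([72,2,90,66,153,189,9,148],[s0_0,s0_0]), ([72,2,18,10,12,237,11,222],[s0_1,s0_0]),
  ([1,2,14,9,210,102,66,194],[s0_0,s0_1]), ([1,2,15,8,88,96,64,193],[s0_1,s0_1]),
  ([1,2,4,9,144,36,66,128],[s0_1,s0_0,s0_0]), ([72,2,26,10,12,236,11,215],[s0_0,s0_0,s0_1]),
  ([75,2,146,11,13,234,10,93],[s0_0,s0_1,s0_1]), ([75,2,146,64,16,120,8,22],[s0_0,s0_1,s0_0]),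
  ([75,2,217,64,24,56,8,20],[s0_1,s0_1,s0_1]), ([75,2,217,11,7,225,10,95],[s0_1,s0_1,s0_0]),
  ([1,2,5,8,88,40,64,131],[s0_0,s0_0,s0_0]), ([72,2,82,66,144,180,9,157],[s0_1,s0_0,s0_1]),
  ([1,2,5,8,80,40,64,130],[s0_0,s0_1,s0_0,s0_1]),
  ([72,2,18,66,144,255,9,150],[s0_0,s0_0,s0_1,s0_1]),
  ([72,2,26,66,219,246,9,215],[s0_0,s0_1,s0_1,s0_0]),
  ([72,2,82,10,13,230,11,157],[s0_1,s0_1,s0_1,s0_0]),
  ([72,2,90,10,7,231,11,220],[s0_1,s0_0,s0_1,s0_1]),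
  ([1,2,15,9,144,111,66,192],[s0_0,s0_0,s0_1,s0_0]),
  ([1,2,4,9,153,36,66,129],[s0_1,s0_1,s0_0,s0_1]), ([1,2,5,9,219,45,66,131],[s0_0,s0_1,s0_1,s0_1]),
  ([72,2,26,10,6,236,11,159],[s0_0,s0_1,s0_0,s0_0]),
  ([72,2,82,66,210,180,9,213],[s0_1,s0_1,s0_0,s0_0]),
  ([1,2,14,8,24,104,64,195],[s0_1,s0_0,s0_1,s0_0]),
  ([75,2,208,11,7,224,10,87],[s0_0,s0_0,s0_0,s0_0]),
  ([75,2,155,64,24,112,8,30],[s0_0,s0_0,s0_0,s0_1]),
  ([1,2,5,9,210,45,66,130],[s0_1,s0_0,s0_1,s0_1,s0_0]),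
  ([72,2,90,66,219,189,9,220],[s0_1,s0_1,s0_1,s0_0,s0_1]),
  ([1,2,14,9,219,102,66,195],[s0_1,s0_1,s0_1,s0_0,s0_0]),
  ([1,2,15,9,153,111,66,193],[s0_0,s0_0,s0_0,s0_0,s0_1]),
  ([72,2,18,10,6,237,11,150],[s0_0,s0_1,s0_1,s0_0,s0_1]),
  ([72,2,82,10,7,230,11,213],[s0_0,s0_0,s0_1,s0_1,s0_1]),
  ([1,2,14,8,16,104,64,194],[s0_0,s0_0,s0_0,s0_1,s0_1]),
  ([75,2,155,64,88,112,8,85],[s0_0,s0_1,s0_0,s0_1,s0_1]),
  ([1,2,15,8,80,96,64,192],[s0_0,s0_1,s0_1,s0_0,s0_0]),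
  ([1,2,4,8,24,32,64,129],[s0_0,s0_0,s0_1,s0_1,s0_0]),
  ([72,2,18,66,210,255,9,222],[s0_0,s0_0,s0_0,s0_0,s0_0]),
  ([75,2,208,11,12,224,10,28],[s0_0,s0_1,s0_0,s0_1,s0_0]),
  ([72,2,90,10,13,231,11,148],[s0_0,s0_0,s0_0,s0_1,s0_0]),
  ([72,2,26,66,153,246,9,159],[s0_1,s0_0,s0_1,s0_1,s0_1]),
  ([75,2,146,11,6,234,10,22],[s0_0,s0_0,s0_0,s0_1,s0_1,s0_0]),
  ([75,2,146,64,80,120,8,93],[s0_0,s0_0,s0_0,s0_1,s0_1,s0_1]),
  ([75,2,217,64,88,56,8,95],[s0_0,s0_0,s0_0,s0_0,s0_1,s0_0]),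
  ([75,2,217,11,12,225,10,20],[s0_0,s0_0,s0_0,s0_0,s0_1,s0_1]),
  ([75,2,155,11,13,235,10,85],[s0_0,s0_0,s0_1,s0_1,s0_0,s0_0]),
  ([75,2,208,64,16,48,8,28],[s0_0,s0_0,s0_1,s0_1,s0_0,s0_1])]

def W0 : List (ℕ × List (List ℕ)) := [
  (2,[]), (3,[g2]), (148,[g4]), (90,[g5]), (73,[g2,g3]), (185,[g2,g4]), (183,[g2,g5]),
  (20,[g4,g0]), (215,[g4,g1]), (176,[g4,g2]), (220,[g4,g5]), (217,[g5,g0]), (26,[g5,g1]),
  (115,[g5,g2]), (74,[g2,g3,g0]), (65,[g2,g3,g2]), (117,[g2,g3,g4]), (165,[g2,g3,g5]),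
  (60,[g2,g4,g0]), (243,[g2,g4,g1]), (157,[g2,g4,g2]), (179,[g2,g4,g5]), (51,[g2,g5,g0]),
  (252,[g2,g5,g1]), (146,[g2,g5,g2]), (85,[g4,g0,g1]), (52,[g4,g0,g2]), (130,[g4,g0,g3]),
  (170,[g4,g0,g5]), (250,[g4,g1,g2]), (213,[g4,g1,g3]), (195,[g4,g1,g4]), (126,[g4,g2,g3]),
  (14,[g4,g2,g4]), (95,[g4,g5,g0]), (159,[g4,g5,g1]), (240,[g4,g5,g2]), (155,[g5,g0,g1]),
  (245,[g5,g0,g2]), (5,[g5,g0,g3]), (59,[g5,g1,g2]), (82,[g5,g1,g3]), (164,[g5,g1,g4]),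
  (41,[g5,g2,g3]), (67,[g2,g3,g0,g2]), (204,[g2,g3,g0,g4]), (18,[g2,g3,g0,g5]), (93,[g2,g3,g4,g2]),
  (55,[g2,g3,g4,g5]), (161,[g2,g3,g5,g0]), (174,[g2,g3,g5,g1]), (28,[g2,g4,g0,g2]),
  (186,[g2,g4,g0,g3]), (222,[g2,g4,g1,g2]), (63,[g2,g4,g1,g3]), (207,[g2,g4,g1,g4]),
  (15,[g2,g4,g2,g4]), (97,[g2,g4,g2,g5]), (249,[g2,g4,g5,g1]), (150,[g2,g4,g5,g2]),
  (123,[g2,g5,g0,g1]), (33,[g2,g5,g0,g3]), (208,[g2,g5,g1,g2]), (4,[g2,g5,g2,g3]),
  (125,[g4,g0,g1,g2]), (193,[g4,g0,g1,g3]), (194,[g4,g0,g2,g5]), (128,[g4,g0,g3,g1]),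
  (135,[g4,g0,g3,g2]), (44,[g4,g0,g3,g5]), (175,[g4,g0,g5,g0]), (160,[g4,g0,g5,g1]),
  (87,[g4,g1,g3,g0]), (206,[g4,g1,g4,g2]), (30,[g4,g5,g0,g1]), (118,[g4,g5,g0,g2]),
  (131,[g4,g5,g0,g3]), (22,[g4,g5,g2,g5]), (190,[g5,g0,g1,g2]), (129,[g5,g0,g1,g5]),
  (192,[g2,g3,g0,g4,g2]), (132,[g2,g3,g0,g4,g5]), (171,[g2,g3,g5,g0,g1]), (37,[g2,g3,g5,g0,g3]),
  (133,[g2,g4,g1,g3,g4]), (103,[g2,g4,g2,g5,g0]), (105,[g2,g4,g2,g5,g1]), (134,[g2,g4,g5,g2,g5]),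
  (205,[g4,g0,g1,g3,g2]), (110,[g4,g0,g5,g1,g3])]

def t0 : PtData where
  r := 2
  T := T0
  S := [s0_0, s0_1]
  L := L0
  W := W0
  C := [([g0,g3], [g3,g0])]

theorem check0 : PtCheck (confK2.X ++ confK2.N ++ confK2.M) (confK2.X ++ confK2.N) t0 := by
  constructor <;> decide +kernel

theorem cover : ∀ n ∈ List.range 256, n ≠ 0 → qs (vec n) = 0 → n ∈ orb ∨ n ∈ t0.W.map (fun w => w.1) := by
  decide +kernel

/-- every conjugate of `z` in `Q` lies over a point of `orb` -/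
theorem pts [Finite G] (p : Pair Q z A a) (φ : Coord p.lz) (hc : IsConf p φ confK2) (x : Q)
    (hx : IsConj z (x : G)) (hx0 : p.lz.pr x ≠ 0) : ∃ n ∈ orb, φ.e (p.lz.pr x) = vec n := by
  obtain ⟨n, hn, hnv⟩ := exists_code (φ.e (p.lz.pr x))
  obtain ⟨A', p', hp'⟩ := pair_of_isConj p x hx hx0
  have hq0 : qs (vec n) = 0 := by rw [← hnv, ← φ.q]; exact hp' ▸ p'.q_D p'.va_mem_D
  have hn0 : n ≠ 0 := by
    rintro rfl
    rw [vec_zero] at hnv
    exact hx0 (φ.e.map_eq_zero_iff.1 hnv)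
  rcases cover n (List.mem_range.2 hn) hn0 hq0 with h1 | h1
  · exact ⟨n, h1, hnv⟩
  · exfalso
    obtain ⟨w, hw, rfl⟩ := List.mem_map.1 h1
    exact no_pair p φ hc check0 p' ⟨w, hw, by rw [hp', hnv]⟩

end Cfsg.Agent.LargeExtra.KillNine.PtsK2
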