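import Cfsg.Agent.LargeExtra.KillNine.Pts

/-!
# The conjugates of `z` in `Q` for `confK4` (helper441, generated)
-/

set_option autoImplicit false
set_option maxRecDepth 1000000

namespace Cfsg.Agent.LargeExtra.KillNine.PtsK4

open Cfsg.Agent.Co2Type.Quad Cfsg.Agent.LargeExtra.Base Cfsg.Agent.LargeExtra.Nine
open Cfsg.Agent.LargeExtra.KillNine.Pts Cfsg.Agent.LargeExtra.KillNine.Codes

variable {G : Type*} [Group G] {Q A : Subgroup G} {z a : G}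

def g0 : List ℕ := [1,2,4,9,144,36,66,128]
def g1 : List ℕ := [1,2,5,8,80,40,64,130]
def g2 : List ℕ := [1,3,4,8,48,32,72,132]
def g3 : List ℕ := [3,2,132,74,16,176,64,128]
def g4 : List ℕ := [115,146,20,44,16,48,192,128]
def g5 : List ℕ := [75,64,48,8,16,20,2,144]

/-- the points of `confK4` -/
def orb : List ℕ := [
    1, 2, 3, 4, 5, 6, 7, 10, 11, 12, 13, 14, 15, 16, 18, 20, 24, 26, 28, 32, 36, 40, 45, 48, 51,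
    52, 56, 59, 60, 64, 66, 72, 75, 80, 82, 85, 88, 90, 93, 97, 103, 105, 110, 112, 115, 117, 120,
    123, 125, 128, 129, 130, 131, 132, 133, 134, 135, 144, 146, 148, 153, 155, 157, 160, 161, 164,
    165, 170, 171, 174, 175, 176, 180, 183, 185, 189, 190, 192, 193, 194, 195, 204, 205, 206, 207,
    208, 210, 215, 217, 219, 222, 224, 225, 230, 231, 234, 235, 236, 237, 243, 245, 246, 250, 252,
    255]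

def s0_0 : List ℕ := [45,117,112,8,115,59,18,134]
def s0_1 : List ℕ := [103,6,115,8,3,56,7,134]

def T0 : List (ℕ × List ℕ × List ℕ) := [
  (8,idL,idL), (9,[1,2,4,9,144,36,66,128],[1,2,4,9,144,36,66,128]),
  (74,[3,2,132,74,16,176,64,128],[3,2,132,74,16,176,64,128]),
  (44,[115,146,20,44,16,48,192,128],[115,146,20,44,16,48,192,128]),
  (73,[3,2,132,73,144,52,66,128],[3,2,132,73,144,52,66,128]),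
  (95,[115,146,20,95,144,36,82,128],[245,18,148,41,144,180,194,128]),
  (67,[75,64,48,67,128,36,66,144],[72,66,180,9,144,148,2,16]),
  (126,[225,146,148,126,16,160,192,128],[225,146,148,126,16,160,192,128]),
  (41,[245,18,148,41,144,180,194,128],[115,146,20,95,144,36,82,128]),
  (37,[59,208,85,37,80,120,194,130],[115,146,103,44,208,28,192,18]),
  (65,[2,3,128,65,180,20,75,132],[3,1,132,73,164,52,11,4]),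
  (159,[225,146,148,159,144,52,82,128],[231,18,20,249,144,164,194,128]),
  (220,[245,18,148,220,16,32,208,128],[245,18,148,220,16,32,208,128]),
  (30,[59,208,85,30,210,45,18,130],[245,18,97,41,82,157,194,146]),
  (118,[90,183,52,118,180,36,123,132],[245,231,148,41,36,180,235,20]),
  (33,[13,192,32,33,128,36,82,144],[12,194,36,41,144,4,18,16]),
  (249,[231,18,20,249,144,164,194,128],[225,146,148,159,144,52,82,128]),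
  (55,[235,208,215,55,80,170,194,130],[225,146,117,126,208,222,192,18]),
  (87,[237,183,176,87,48,164,204,132],[225,115,148,126,176,160,190,20]),
  (111,[7,130,132,111,144,180,210,128],[7,130,132,111,144,180,210,128]),
  (179,[146,225,128,179,180,4,13,148],[153,161,32,249,164,144,15,4]),
  (186,[237,183,176,186,180,20,123,132],[231,245,20,249,52,164,59,148]),
  (240,[217,51,176,240,48,32,252,132],[245,231,148,220,48,32,12,20]),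
  (104,[7,130,132,104,16,48,80,128],[7,130,132,104,16,48,80,128]),
  (63,[26,252,125,63,255,45,51,135],[245,231,97,41,207,157,235,243]),
  (102,[24,165,36,102,164,52,171,4],[18,231,128,37,36,132,235,20]),
  (213,[234,51,52,213,180,160,207,132],[225,115,148,159,164,52,205,20]),
  (22,[230,252,250,22,120,175,207,135],[225,115,117,126,14,222,190,103]),
  (150,[183,237,132,150,144,4,13,176],[153,56,32,249,52,144,246,36]),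
  (96,[153,161,32,96,160,176,174,4],[18,231,128,55,48,4,12,20])]

def L0 : List (List ℕ × List (List ℕ)) := [
  (idL,[]), ([45,117,112,8,115,59,18,134],[s0_0]), ([103,6,115,8,3,56,7,134],[s0_1]),
  ([45,117,93,8,97,51,18,243],[s0_1,s0_1]), ([110,7,90,8,2,24,6,131],[s0_0,s0_0]),
  ([1,5,2,8,88,64,40,131],[s0_1,s0_0]), ([36,40,60,8,93,82,5,243],[s0_0,s0_1]),
  ([36,40,24,8,88,90,5,219],[s0_1,s0_1,s0_1]), ([110,7,52,8,4,16,6,132],[s0_1,s0_1,s0_0]),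
  ([66,18,10,8,6,11,117,231],[s0_0,s0_0,s0_1]), ([75,51,48,8,52,20,93,132],[s0_0,s0_1,s0_0]),
  ([103,20,6,8,12,7,48,231],[s0_1,s0_0,s0_1]), ([36,40,28,8,117,123,5,222],[s0_0,s0_0,s0_0]),
  ([45,93,117,8,105,18,51,222],[s0_1,s0_0,s0_0]), ([75,48,64,8,24,2,20,219],[s0_0,s0_1,s0_1]),
  ([75,48,120,8,40,85,20,255],[s0_0,s0_0,s0_0,s0_1]),
  ([36,24,40,8,80,5,90,255],[s0_1,s0_0,s0_0,s0_1]),
  ([1,3,5,8,120,40,72,135],[s0_1,s0_0,s0_1,s0_0]),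
  ([1,5,14,8,117,105,40,171],[s0_0,s0_0,s0_1,s0_1]),
  ([45,112,117,8,123,18,59,171],[s0_1,s0_0,s0_1,s0_1]),
  ([66,72,18,8,123,117,3,183],[s0_0,s0_1,s0_1,s0_0]),
  ([110,52,7,8,12,6,16,234],[s0_1,s0_0,s0_0,s0_0]),
  ([36,40,56,8,112,115,5,246],[s0_1,s0_1,s0_0,s0_0]),
  ([110,90,59,8,72,112,24,245],[s0_0,s0_1,s0_0,s0_1]),
  ([66,16,72,8,56,3,52,246],[s0_0,s0_1,s0_0,s0_0]),
  ([110,59,7,8,11,6,112,235],[s0_0,s0_1,s0_1,s0_1]),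
  ([103,6,125,8,5,80,7,135],[s0_0,s0_0,s0_1,s0_0]),
  ([66,18,72,8,115,3,117,245],[s0_1,s0_1,s0_0,s0_1]),
  ([75,48,11,8,12,10,20,235],[s0_1,s0_1,s0_1,s0_1]),
  ([75,51,123,8,105,28,93,183],[s0_1,s0_1,s0_1,s0_0]),
  ([75,51,11,8,7,10,93,234],[s0_0,s0_0,s0_0,s0_0]),
  ([75,11,48,8,4,20,10,160],[s0_1,s0_0,s0_0,s0_1,s0_1]),
  ([103,26,6,8,10,7,88,230],[s0_0,s0_1,s0_1,s0_0,s0_0]),
  ([75,48,51,8,60,93,20,207],[s0_1,s0_1,s0_0,s0_0,s0_1]),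
  ([110,90,105,8,18,14,24,183],[s0_0,s0_0,s0_0,s0_0,s0_1]),
  ([1,5,15,8,93,97,40,174],[s0_0,s0_0,s0_1,s0_0,s0_0]),
  ([66,82,18,8,105,117,60,208],[s0_0,s0_1,s0_1,s0_1,s0_1]),
  ([45,88,93,8,82,51,26,174],[s0_1,s0_0,s0_1,s0_0,s0_0]),
  ([66,16,80,8,40,125,52,210],[s0_0,s0_0,s0_0,s0_0,s0_0]),
  ([66,72,80,8,120,125,3,255],[s0_1,s0_1,s0_1,s0_1,s0_0]),
  ([110,59,105,8,123,14,112,208],[s0_1,s0_1,s0_1,s0_1,s0_1]),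
  ([36,28,24,8,26,90,123,129],[s0_0,s0_1,s0_0,s0_1,s0_0]),
  ([66,72,82,8,51,60,3,252],[s0_0,s0_0,s0_0,s0_1,s0_0]),
  ([103,97,20,8,52,48,15,148],[s0_1,s0_0,s0_1,s0_0,s0_1]),
  ([36,56,40,8,120,5,115,210],[s0_1,s0_0,s0_0,s0_0,s0_0]),
  ([36,60,40,8,85,5,82,215],[s0_1,s0_0,s0_1,s0_1,s0_1]),
  ([103,115,26,8,64,88,56,217],[s0_0,s0_1,s0_0,s0_0,s0_0]),
  ([110,90,85,8,80,120,24,175],[s0_1,s0_1,s0_1,s0_0,s0_1]),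
  ([75,123,51,8,97,93,28,252],[s0_1,s0_0,s0_0,s0_1,s0_0]),
  ([103,6,26,8,2,88,7,129],[s0_1,s0_1,s0_0,s0_1,s0_0]),
  ([66,16,10,8,12,11,52,230],[s0_1,s0_1,s0_1,s0_0,s0_0]),
  ([110,90,7,8,10,6,24,237],[s0_1,s0_0,s0_1,s0_1,s0_0]),
  ([45,117,32,8,20,4,18,148],[s0_0,s0_0,s0_1,s0_0,s0_1]),
  ([110,59,52,8,48,16,112,160],[s0_0,s0_0,s0_0,s0_1,s0_1]),
  ([45,93,13,8,7,12,51,237],[s0_0,s0_0,s0_1,s0_1,s0_0]),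
  ([66,10,82,8,15,60,11,174],[s0_0,s0_1,s0_0,s0_1,s0_1]),
  ([1,15,5,8,85,40,97,175],[s0_0,s0_1,s0_1,s0_0,s0_1]),
  ([1,3,15,8,51,97,72,207],[s0_0,s0_1,s0_0,s0_0,s0_1]),
  ([103,20,125,8,40,80,48,215],[s0_0,s0_0,s0_1,s0_1,s0_1]),
  ([75,51,64,8,90,2,93,217],[s0_1,s0_1,s0_0,s0_0,s0_0]),
  ([103,115,97,8,51,15,56,146],[s0_0,s0_0,s0_0,s0_0,s0_0,s0_0]),
  ([45,93,32,8,52,4,51,176],[s0_0,s0_0,s0_1,s0_0,s0_0,s0_0]),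
  ([36,28,40,8,125,5,123,250],[s0_1,s0_0,s0_1,s0_1,s0_0,s0_0]),
  ([103,97,26,8,90,88,15,155],[s0_0,s0_1,s0_0,s0_0,s0_1,s0_1]),
  ([36,12,24,8,2,90,13,195],[s0_1,s0_0,s0_1,s0_0,s0_0,s0_1]),
  ([1,3,4,8,48,32,72,132],[s0_0,s0_0,s0_0,s0_0,s0_0,s0_1]),
  ([36,28,60,8,97,82,123,157],[s0_1,s0_1,s0_1,s0_0,s0_1,s0_0]),
  ([103,115,125,8,120,80,56,170],[s0_1,s0_1,s0_1,s0_0,s0_0,s0_0]),
  ([103,20,26,8,24,88,48,195],[s0_0,s0_0,s0_1,s0_0,s0_0,s0_1]),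
  ([66,16,18,8,28,117,52,194],[s0_1,s0_1,s0_0,s0_0,s0_0,s0_0]),
  ([1,15,2,8,90,64,97,193],[s0_0,s0_0,s0_0,s0_1,s0_0,s0_1]),
  ([75,11,123,8,14,28,10,171],[s0_0,s0_1,s0_0,s0_1,s0_0,s0_0]),
  ([45,88,32,8,16,4,26,180],[s0_0,s0_1,s0_0,s0_0,s0_1,s0_0]),
  ([110,105,52,8,20,16,14,176],[s0_1,s0_0,s0_1,s0_0,s0_0,s0_0]),
  ([66,10,80,8,5,125,11,175],[s0_0,s0_0,s0_0,s0_0,s0_1,s0_1]),
  ([66,10,18,8,14,117,11,165],[s0_1,s0_0,s0_1,s0_1,s0_0,s0_1]),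
  ([66,80,72,8,112,3,125,189],[s0_1,s0_0,s0_0,s0_1,s0_1,s0_0]),
  ([110,52,85,8,40,120,16,250],[s0_0,s0_0,s0_1,s0_1,s0_0,s0_0]),
  ([36,24,28,8,18,123,90,165],[s0_0,s0_0,s0_1,s0_1,s0_0,s0_1]),
  ([66,10,16,8,4,52,11,164],[s0_1,s0_0,s0_0,s0_1,s0_0,s0_0]),
  ([75,120,11,8,13,10,85,225],[s0_0,s0_1,s0_0,s0_1,s0_0,s0_1]),
  ([103,26,97,8,82,15,88,252],[s0_1,s0_1,s0_1,s0_1,s0_0,s0_0]),
  ([110,7,59,8,3,112,6,133],[s0_0,s0_0,s0_1,s0_0,s0_1,s0_0]),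
  ([75,64,51,8,82,93,2,146],[s0_1,s0_0,s0_0,s0_0,s0_0,s0_0]),
  ([103,26,20,8,16,48,88,164],[s0_0,s0_0,s0_0,s0_1,s0_0,s0_0]),
  ([110,85,90,8,88,24,120,193],[s0_1,s0_0,s0_0,s0_1,s0_0,s0_1]),
  ([36,24,12,8,10,13,90,231],[s0_1,s0_1,s0_1,s0_1,s0_1,s0_0]),
  ([45,112,32,8,48,4,59,144],[s0_0,s0_0,s0_1,s0_1,s0_1,s0_1]),
  ([36,24,56,8,72,115,90,189],[s0_0,s0_0,s0_0,s0_1,s0_1,s0_0]),
  ([110,59,90,8,64,24,112,155],[s0_1,s0_1,s0_0,s0_0,s0_1,s0_1]),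
  ([1,2,14,8,18,105,64,194],[s0_0,s0_1,s0_0,s0_0,s0_0,s0_0]),
  ([36,28,12,8,6,13,123,230],[s0_0,s0_0,s0_0,s0_0,s0_1,s0_0]),
  ([45,117,13,8,6,12,18,225],[s0_1,s0_1,s0_0,s0_1,s0_0,s0_1]),
  ([45,88,112,8,72,59,26,246],[s0_1,s0_0,s0_1,s0_0,s0_1,s0_1]),
  ([45,32,93,8,60,51,4,157],[s0_0,s0_1,s0_1,s0_0,s0_1,s0_0]),
  ([1,2,5,8,80,40,64,130],[s0_0,s0_1,s0_1,s0_1,s0_1,s0_1]),
  ([1,3,14,8,123,105,72,204],[s0_1,s0_1,s0_1,s0_0,s0_0,s0_1]),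
  ([66,82,80,8,85,125,60,130],[s0_1,s0_1,s0_1,s0_1,s0_1,s0_1]),
  ([1,4,3,8,56,72,32,133],[s0_1,s0_0,s0_1,s0_0,s0_1,s0_0]),
  ([66,72,16,8,48,52,3,180],[s0_1,s0_1,s0_0,s0_0,s0_1,s0_0]),
  ([103,125,20,8,32,48,80,176],[s0_0,s0_1,s0_0,s0_1,s0_1,s0_0]),
  ([1,14,5,8,125,40,105,170],[s0_0,s0_1,s0_1,s0_0,s0_0,s0_0]),
  ([1,15,4,8,52,32,97,160],[s0_1,s0_1,s0_1,s0_1,s0_0,s0_1]),
  ([75,64,48,8,16,20,2,144],[s0_1,s0_0,s0_1,s0_1,s0_1,s0_1]),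
  ([45,13,117,8,14,18,12,204],[s0_0,s0_1,s0_1,s0_0,s0_0,s0_1]),
  ([66,82,72,8,59,3,60,190],[s0_0,s0_0,s0_0,s0_1,s0_1,s0_1]),
  ([110,105,59,8,115,112,14,190],[s0_1,s0_0,s0_0,s0_1,s0_1,s0_1]),
  ([1,14,2,8,26,64,105,195],[s0_0,s0_1,s0_0,s0_1,s0_1,s0_1]),
  ([66,82,10,8,7,11,60,236],[s0_1,s0_1,s0_0,s0_0,s0_1,s0_1,s0_1]),
  ([45,13,112,8,3,59,12,205],[s0_0,s0_0,s0_0,s0_1,s0_0,s0_0,s0_1]),
  ([75,123,11,8,6,10,28,224],[s0_0,s0_0,s0_1,s0_1,s0_0,s0_1,s0_0]),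
  ([75,11,120,8,5,85,10,170],[s0_0,s0_0,s0_0,s0_0,s0_1,s0_0,s0_0]),
  ([45,112,13,8,11,12,59,224],[s0_0,s0_0,s0_1,s0_0,s0_0,s0_1,s0_1]),
  ([66,18,16,8,20,52,117,128],[s0_1,s0_0,s0_0,s0_0,s0_0,s0_0,s0_0]),
  ([66,80,10,8,13,11,125,237],[s0_0,s0_1,s0_0,s0_1,s0_0,s0_0,s0_0]),
  ([110,52,59,8,56,112,16,206],[s0_0,s0_0,s0_1,s0_0,s0_0,s0_0,s0_0]),
  ([1,2,15,8,82,97,64,192],[s0_0,s0_0,s0_0,s0_1,s0_1,s0_1,s0_1]),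
  ([110,7,85,8,5,120,6,130],[s0_1,s0_1,s0_0,s0_1,s0_0,s0_1,s0_0]),
  ([103,6,20,8,4,48,7,128],[s0_0,s0_1,s0_1,s0_1,s0_1,s0_1,s0_1]),
  ([110,105,90,8,26,24,14,217],[s0_1,s0_0,s0_1,s0_0,s0_1,s0_1,s0_0]),
  ([1,15,3,8,59,72,97,206],[s0_0,s0_1,s0_0,s0_1,s0_1,s0_0,s0_0]),
  ([45,32,117,8,28,18,4,185],[s0_0,s0_0,s0_0,s0_1,s0_0,s0_1,s0_0]),
  ([75,123,120,8,125,85,28,135],[s0_1,s0_1,s0_1,s0_1,s0_1,s0_0,s0_0]),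
  ([45,93,88,8,90,26,51,131],[s0_0,s0_0,s0_0,s0_0,s0_0,s0_0,s0_1]),
  ([103,97,125,8,85,80,15,250],[s0_1,s0_1,s0_1,s0_0,s0_0,s0_1,s0_1]),
  ([103,125,97,8,93,15,80,157],[s0_0,s0_0,s0_0,s0_0,s0_1,s0_1,s0_0]),
  ([75,11,51,8,15,93,10,161],[s0_0,s0_0,s0_0,s0_1,s0_1,s0_0,s0_1]),
  ([75,120,123,8,117,28,85,204],[s0_0,s0_0,s0_0,s0_0,s0_1,s0_0,s0_1]),
  ([45,13,93,8,15,51,12,192],[s0_0,s0_1,s0_1,s0_0,s0_0,s0_0,s0_0]),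
  ([103,97,115,8,59,56,15,245],[s0_0,s0_0,s0_0,s0_0,s0_0,s0_1,s0_1]),
  ([66,18,82,8,97,60,117,146],[s0_0,s0_0,s0_1,s0_0,s0_1,s0_0,s0_1]),
  ([75,120,64,8,88,2,85,153],[s0_1,s0_1,s0_1,s0_0,s0_1,s0_0,s0_1]),
  ([36,56,24,8,64,90,115,153],[s0_0,s0_1,s0_1,s0_0,s0_1,s0_0,s0_1]),
  ([1,4,14,8,28,105,32,165],[s0_0,s0_1,s0_0,s0_0,s0_1,s0_1,s0_0]),
  ([103,125,115,8,112,56,80,205],[s0_1,s0_0,s0_0,s0_1,s0_0,s0_0,s0_0]),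
  ([1,14,4,8,20,32,105,164],[s0_0,s0_0,s0_0,s0_0,s0_1,s0_1,s0_1]),
  ([36,60,28,8,105,123,82,185],[s0_1,s0_0,s0_0,s0_1,s0_0,s0_1,s0_0]),
  ([45,32,112,8,56,59,4,189],[s0_0,s0_1,s0_0,s0_1,s0_1,s0_0,s0_1]),
  ([45,88,13,8,10,12,26,236],[s0_0,s0_1,s0_0,s0_0,s0_1,s0_1,s0_1]),
  ([36,56,60,8,51,82,115,161],[s0_0,s0_0,s0_1,s0_1,s0_0,s0_0,s0_0]),
  ([103,20,97,8,60,15,48,243],[s0_1,s0_1,s0_1,s0_1,s0_1,s0_1,s0_0]),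
  ([36,12,56,8,3,115,13,206],[s0_0,s0_1,s0_0,s0_0,s0_1,s0_0,s0_1]),
  ([36,12,60,8,15,82,13,207],[s0_1,s0_0,s0_1,s0_0,s0_1,s0_1,s0_1]),
  ([45,112,88,8,64,26,59,219],[s0_1,s0_0,s0_1,s0_0,s0_1,s0_0,s0_0]),
  ([75,120,48,8,32,20,85,180],[s0_1,s0_0,s0_1,s0_1,s0_0,s0_0,s0_1]),
  ([1,4,15,8,60,97,32,161],[s0_1,s0_0,s0_0,s0_1,s0_1,s0_0,s0_1]),
  ([66,80,82,8,93,60,125,192],[s0_1,s0_0,s0_0,s0_1,s0_1,s0_1,s0_1]),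
  ([103,125,6,8,13,7,80,224],[s0_0,s0_1,s0_0,s0_1,s0_1,s0_1,s0_1]),
  ([103,115,6,8,11,7,56,225],[s0_1,s0_1,s0_0,s0_0,s0_0,s0_0,s0_0]),
  ([110,85,7,8,13,6,120,236],[s0_0,s0_1,s0_1,s0_0,s0_0,s0_1,s0_0]),
  ([45,13,88,8,2,26,12,193],[s0_1,s0_1,s0_1,s0_1,s0_0,s0_0,s0_1]),
  ([110,105,85,8,125,120,14,215],[s0_0,s0_1,s0_0,s0_1,s0_0,s0_0,s0_1]),
  ([110,52,105,8,28,14,16,222],[s0_0,s0_1,s0_0,s0_1,s0_0,s0_1,s0_1]),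
  ([75,123,64,8,26,2,28,155],[s0_0,s0_0,s0_0,s0_1,s0_1,s0_0,s0_0]),
  ([1,14,3,8,115,72,105,205],[s0_0,s0_0,s0_0,s0_1,s0_0,s0_0,s0_0]),
  ([36,60,56,8,59,115,82,133],[s0_0,s0_0,s0_1,s0_1,s0_1,s0_1,s0_1]),
  ([103,26,115,8,72,56,88,190],[s0_1,s0_1,s0_0,s0_0,s0_1,s0_0,s0_0]),
  ([1,5,3,8,112,72,40,134],[s0_0,s0_1,s0_1,s0_1,s0_1,s0_1,s0_1,s0_0]),
  ([75,64,120,8,80,85,2,210],[s0_1,s0_0,s0_0,s0_1,s0_0,s0_1,s0_0,s0_1]),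
  ([36,60,12,8,7,13,82,235],[s0_1,s0_0,s0_1,s0_0,s0_1,s0_0,s0_0,s0_1]),
  ([36,56,12,8,11,13,115,234],[s0_0,s0_1,s0_0,s0_1,s0_0,s0_1,s0_1,s0_0]),
  ([110,85,105,8,117,14,120,185],[s0_0,s0_0,s0_1,s0_1,s0_0,s0_1,s0_0,s0_1]),
  ([1,4,2,8,24,64,32,129],[s0_0,s0_0,s0_0,s0_0,s0_0,s0_1,s0_1,s0_0]),
  ([110,85,52,8,32,16,120,148],[s0_0,s0_1,s0_1,s0_0,s0_0,s0_0,s0_0,s0_0]),
  ([36,12,28,8,14,123,13,194],[s0_0,s0_1,s0_0,s0_0,s0_1,s0_1,s0_1,s0_1]),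
  ([66,80,16,8,32,52,125,144],[s0_0,s0_0,s0_0,s0_1,s0_1,s0_0,s0_1,s0_0]),
  ([45,32,88,8,24,26,4,153],[s0_0,s0_0,s0_0,s0_0,s0_1,s0_1,s0_0,s0_1]),
  ([75,64,123,8,18,28,2,208],[s0_0,s0_1,s0_1,s0_0,s0_1,s0_0,s0_1,s0_0])]

def W0 : List (ℕ × List (List ℕ)) := [
  (8,[]), (9,[g0]), (74,[g3]), (44,[g4]), (73,[g0,g3]), (95,[g0,g4]), (67,[g0,g5]), (126,[g3,g4]),
  (41,[g4,g0]), (37,[g4,g1]), (65,[g0,g3,g2]), (159,[g0,g3,g4]), (220,[g0,g4,g0]), (30,[g0,g4,g1]),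
  (118,[g0,g4,g2]), (33,[g0,g4,g5]), (249,[g3,g4,g0]), (55,[g3,g4,g1]), (87,[g3,g4,g2]),
  (111,[g4,g0,g4]), (179,[g0,g3,g2,g4]), (186,[g0,g3,g4,g2]), (240,[g0,g4,g0,g2]),
  (104,[g0,g4,g0,g4]), (63,[g0,g4,g1,g2]), (102,[g0,g4,g2,g3]), (213,[g3,g4,g0,g2]),
  (22,[g3,g4,g1,g2]), (150,[g0,g3,g2,g4,g2]), (96,[g0,g4,g0,g2,g3])]

def t0 : PtData where
  r := 8
  T := T0
  S := [s0_0, s0_1]
  L := L0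
  W := W0
  C := [([g1,g5], [g5,g1])]

theorem check0 : PtCheck (confK4.X ++ confK4.N ++ confK4.M) (confK4.X ++ confK4.N) t0 := by
  constructor <;> decide +kernel

theorem cover : ∀ n ∈ List.range 256, n ≠ 0 → qs (vec n) = 0 → n ∈ orb ∨ n ∈ t0.W.map (fun w => w.1) := by
  decide +kernel

/-- every conjugate of `z` in `Q` lies over a point of `orb` -/
theorem pts [Finite G] (p : Pair Q z A a) (φ : Coord p.lz) (hc : IsConf p φ confK4) (x : Q)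
    (hx : IsConj z (x : G)) (hx0 : p.lz.pr x ≠ 0) : ∃ n ∈ orb, φ.e (p.lz.pr x) = vec n := by
  obtain ⟨n, hn, hnv⟩ := exists_code (φ.e (p.lz.pr x))
  obtain ⟨A', p', hp'⟩ := pair_of_isConj p x hx hx0
  have hq0 : qs (vec n) = 0 := by rw [← hnv, ← φ.q]; exact hp' ▸ p'.q_D p'.va_mem_D
  have hn0 : n ≠ 0 := by
    rintro rfl
    rw [vec_zero] at hnv
    exact hx0 (φ.e.map_eq_zero_iff.1 hnv)
  rcases cover n (List.mem_range.2 hn) hn0 hq0 with h1 | h1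
  · exact ⟨n, h1, hnv⟩
  · exfalso
    obtain ⟨w, hw, rfl⟩ := List.mem_map.1 h1
    exact no_pair p φ hc check0 p' ⟨w, hw, by rw [hp', hnv]⟩

end Cfsg.Agent.LargeExtra.KillNine.PtsK4
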