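import Cfsg.Agent.LargeExtra.KillNine.Pts

/-!
# The conjugates of `z` in `Q` for `confK5` (helper441, generated)
-/

set_option autoImplicit false
set_option maxRecDepth 1000000

namespace Cfsg.Agent.LargeExtra.KillNine.PtsK5

open Cfsg.Agent.Co2Type.Quad Cfsg.Agent.LargeExtra.Base Cfsg.Agent.LargeExtra.Nine
open Cfsg.Agent.LargeExtra.KillNine.Pts Cfsg.Agent.LargeExtra.KillNine.Codes

variable {G : Type*} [Group G] {Q A : Subgroup G} {z a : G}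

def g0 : List ℕ := [1,2,4,9,144,36,66,128]
def g1 : List ℕ := [1,2,5,8,80,40,64,130]
def g2 : List ℕ := [1,3,4,8,48,32,72,132]
def g3 : List ℕ := [3,2,132,72,16,48,64,128]
def g4 : List ℕ := [5,130,4,40,16,32,80,128]
def g5 : List ℕ := [41,82,36,8,16,32,64,144]

/-- the points of `confK5` -/
def orb : List ℕ := [
    1, 2, 3, 4, 5, 8, 9, 12, 13, 16, 18, 32, 33, 36, 37, 40, 41, 44, 45, 48, 51, 64, 66, 72, 75,
    80, 82, 120, 123, 128, 130, 132, 135, 144, 146, 180, 183, 192, 194, 204, 207, 208, 210, 252, 255]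

def s0_0 : List ℕ := [1,3,5,9,255,45,75,135]
def s0_1 : List ℕ := [135,5,3,255,9,75,45,1]

def T0 : List (ℕ × List ℕ × List ℕ) := [
  (6,idL,idL), (7,[1,2,5,8,80,40,64,130],[1,2,5,8,80,40,64,130]),
  (134,[3,2,132,72,16,48,64,128],[3,2,132,72,16,48,64,128]),
  (118,[41,82,36,8,16,32,64,144],[41,82,36,8,16,32,64,144]),
  (133,[3,2,135,72,80,120,64,130],[3,2,135,72,80,120,64,130]),
  (131,[5,130,1,40,64,8,80,2],[4,128,5,32,80,40,16,130]),
  (95,[41,82,13,8,80,40,64,194],[33,18,45,8,80,40,64,210]),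
  (230,[123,82,180,72,16,48,64,144],[123,82,180,72,16,48,64,144]),
  (240,[44,208,32,9,144,36,66,16],[41,82,36,33,128,4,18,144]),
  (63,[33,18,45,8,80,40,64,210],[41,82,13,8,80,40,64,194]),
  (129,[2,3,130,64,120,80,72,135],[3,1,135,72,40,120,8,5]),
  (157,[123,82,207,72,80,120,64,194],[51,18,255,72,80,120,64,210]),
  (235,[13,194,41,40,64,8,80,82],[12,192,45,32,80,40,16,210]),
  (220,[44,208,12,9,210,45,66,192],[33,18,45,41,130,5,82,210]),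
  (30,[33,18,12,8,16,32,64,192],[33,18,12,8,16,32,64,192]),
  (224,[252,208,48,75,144,180,66,16],[123,82,180,51,128,132,18,144]),
  (237,[51,18,255,72,80,120,64,210],[123,82,207,72,80,120,64,194]),
  (186,[37,146,40,9,210,45,66,80],[41,82,13,33,146,37,18,194]),
  (155,[37,146,9,40,64,8,80,66],[36,144,13,32,80,40,16,194]),
  (103,[9,66,37,8,80,40,64,146],[9,66,37,8,80,40,64,146]),
  (185,[82,123,194,64,120,80,72,207],[51,33,255,72,40,120,8,45]),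
  (28,[252,208,204,75,210,255,66,192],[51,18,255,123,130,135,82,210]),
  (222,[51,18,204,72,16,48,64,192],[51,18,204,72,16,48,64,192]),
  (236,[12,192,44,45,66,9,210,208],[12,192,45,44,130,5,208,210]),
  (225,[12,192,33,32,64,8,16,18],[12,192,33,32,64,8,16,18]),
  (159,[37,146,13,9,144,36,66,194],[33,18,12,41,208,44,82,192]),
  (190,[37,146,44,40,16,32,80,208],[45,210,12,40,16,32,80,192]),
  (110,[9,66,44,8,16,32,64,208],[9,66,44,8,16,32,64,208]),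
  (234,[183,146,120,75,210,255,66,80],[123,82,207,51,146,183,18,194]),
  (217,[183,146,75,120,64,72,80,66],[180,144,207,48,80,120,16,194]),
  (245,[75,66,183,72,80,120,64,146],[75,66,183,72,80,120,64,146]),
  (26,[33,18,8,45,66,9,210,64],[36,144,13,4,146,37,128,194]),
  (250,[45,210,40,33,146,37,18,80],[45,210,40,33,146,37,18,80]),
  (243,[45,210,33,40,64,8,80,18],[44,208,37,32,80,40,16,146]),
  (97,[8,64,33,9,210,45,66,18],[9,66,37,1,194,13,2,146]),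
  (60,[208,252,192,66,255,210,75,204],[51,33,255,123,5,135,41,45]),
  (93,[183,146,207,75,144,180,66,194],[51,18,204,123,208,252,82,192]),
  (231,[13,194,37,36,66,9,144,146],[12,192,33,44,82,41,208,18]),
  (59,[33,18,41,45,144,36,210,82],[45,210,12,5,208,44,130,192]),
  (215,[45,210,5,33,128,4,18,130],[36,144,32,41,208,44,82,16]),
  (105,[8,64,41,9,144,36,66,82],[9,66,44,1,192,12,2,208]),
  (90,[51,18,72,255,66,75,210,64],[180,144,207,132,146,183,128,194]),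
  (170,[255,210,120,51,146,183,18,80],[255,210,120,51,146,183,18,80]),
  (115,[72,64,51,75,210,255,66,18],[75,66,183,3,194,207,2,146]),
  (74,[9,66,8,37,18,33,146,64],[5,130,40,4,146,37,128,80]),
  (125,[40,80,45,37,18,33,146,210],[45,210,40,12,194,13,192,80]),
  (176,[36,144,32,41,208,44,82,16],[45,210,5,33,128,4,18,130]),
  (117,[40,80,37,45,66,9,210,146],[44,208,37,12,194,13,192,146]),
  (73,[8,64,9,33,146,37,18,66],[5,130,40,1,194,13,2,80]),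
  (85,[255,210,135,51,128,132,18,130],[180,144,48,123,208,252,82,16]),
  (175,[5,130,45,4,18,33,128,210],[9,66,8,44,82,41,208,64]),
  (67,[9,66,1,37,128,4,146,2],[4,128,32,5,208,44,130,16]),
  (148,[36,144,4,41,130,5,82,128],[36,144,4,41,130,5,82,128]),
  (65,[8,64,1,33,128,4,18,2],[4,128,32,1,192,12,2,16]),
  (10,[75,66,72,183,18,51,146,64],[135,130,120,132,146,183,128,80]),
  (160,[180,144,48,123,208,252,82,16],[255,210,135,51,128,132,18,130]),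
  (11,[72,64,75,51,146,183,18,66],[135,130,120,3,194,207,2,80]),
  (52,[32,16,36,44,82,41,208,144],[45,210,5,12,2,1,192,130]),
  (20,[180,144,132,123,130,135,82,128],[180,144,132,123,130,135,82,128]),
  (164,[4,128,36,5,82,41,130,144],[9,66,1,44,130,5,208,2])]

def L0 : List (List ℕ × List (List ℕ)) := [
  (idL,[]), ([1,3,5,9,255,45,75,135],[s0_0]), ([135,5,3,255,9,75,45,1],[s0_1]),
  ([128,4,2,16,8,64,32,1],[s0_1,s0_0]), ([135,130,132,120,16,48,80,128],[s0_0,s0_1]),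
  ([128,132,130,16,120,80,48,135],[s0_1,s0_1]),
  ([135,130,132,255,144,180,210,128],[s0_1,s0_1,s0_0]), ([1,2,4,9,144,36,66,128],[s0_1,s0_1,s0_1]),
  ([128,4,2,144,9,66,36,1],[s0_0,s0_1,s0_1]), ([128,132,130,144,255,210,180,135],[s0_0,s0_1,s0_0]),
  ([1,3,5,8,120,40,72,135],[s0_0,s0_1,s0_1,s0_1]), ([135,5,3,120,8,72,40,1],[s0_0,s0_1,s0_1,s0_0])]

def W0 : List (ℕ × List (List ℕ)) := [
  (6,[]), (7,[g1]), (134,[g3]), (118,[g5]), (133,[g1,g3]), (131,[g1,g4]), (95,[g1,g5]),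
  (230,[g3,g5]), (240,[g5,g0]), (63,[g5,g1]), (129,[g1,g3,g2]), (157,[g1,g3,g5]), (235,[g1,g4,g5]),
  (220,[g1,g5,g0]), (30,[g1,g5,g1]), (224,[g3,g5,g0]), (237,[g3,g5,g1]), (186,[g5,g0,g1]),
  (155,[g5,g1,g4]), (103,[g5,g1,g5]), (185,[g1,g3,g2,g5]), (28,[g1,g3,g5,g0]), (222,[g1,g3,g5,g1]),
  (236,[g1,g4,g5,g0]), (225,[g1,g4,g5,g1]), (159,[g1,g5,g0,g1]), (190,[g1,g5,g1,g4]),
  (110,[g1,g5,g1,g5]), (234,[g3,g5,g0,g1]), (217,[g3,g5,g1,g4]), (245,[g3,g5,g1,g5]),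
  (26,[g5,g0,g1,g4]), (250,[g5,g0,g1,g5]), (243,[g5,g1,g4,g5]), (97,[g5,g1,g5,g0]),
  (60,[g1,g3,g2,g5,g0]), (93,[g1,g3,g5,g0,g1]), (231,[g1,g4,g5,g0,g1]), (59,[g1,g5,g0,g1,g4]),
  (215,[g1,g5,g0,g1,g5]), (105,[g1,g5,g1,g5,g0]), (90,[g3,g5,g0,g1,g4]), (170,[g3,g5,g0,g1,g5]),
  (115,[g3,g5,g1,g5,g0]), (74,[g5,g0,g1,g4,g5]), (125,[g5,g0,g1,g5,g0]), (176,[g5,g0,g1,g5,g1]),
  (117,[g5,g1,g4,g5,g0]), (73,[g5,g1,g5,g0,g5]), (85,[g1,g3,g5,g0,g1,g5]),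
  (175,[g1,g4,g5,g0,g1,g5]), (67,[g1,g5,g0,g1,g4,g5]), (148,[g1,g5,g0,g1,g5,g1]),
  (65,[g1,g5,g1,g5,g0,g5]), (10,[g3,g5,g0,g1,g4,g5]), (160,[g3,g5,g0,g1,g5,g1]),
  (11,[g3,g5,g1,g5,g0,g5]), (52,[g5,g0,g1,g5,g0,g1]), (20,[g1,g3,g5,g0,g1,g5,g1]),
  (164,[g1,g4,g5,g0,g1,g5,g1])]

def t0 : PtData where
  r := 6
  T := T0
  S := [s0_0, s0_1]
  L := L0
  W := W0
  C := [([g1,g2], [g1,g2])]

theorem check0 : PtCheck (confK5.X ++ confK5.N ++ confK5.M) (confK5.X ++ confK5.N) t0 := by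
  constructor <;> decide +kernel

def s1_0 : List ℕ := [207,13,123,120,8,72,40,41]
def s1_1 : List ℕ := [1,3,8,5,123,41,135,72]

def T1 : List (ℕ × List ℕ × List ℕ) := [
  (14,idL,idL), (15,[1,2,4,9,144,36,66,128],[1,2,4,9,144,36,66,128]),
  (206,[3,2,132,72,16,48,64,128],[3,2,132,72,16,48,64,128]),
  (174,[5,130,4,40,16,32,80,128],[5,130,4,40,16,32,80,128]),
  (126,[41,82,36,8,16,32,64,144],[41,82,36,8,16,32,64,144]),
  (205,[3,2,132,75,144,180,66,128],[3,2,132,75,144,180,66,128]),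
  (171,[5,130,4,45,144,36,210,128],[5,130,4,45,144,36,210,128]),
  (87,[41,82,36,33,128,4,18,144],[44,208,32,9,144,36,66,16]),
  (195,[2,3,128,64,48,16,72,132],[3,1,132,72,32,48,8,4]),
  (165,[4,128,5,32,80,40,16,130],[5,130,1,40,64,8,80,2]),
  (249,[44,208,32,9,144,36,66,16],[41,82,36,33,128,4,18,144]),
  (55,[33,18,45,8,80,40,64,210],[41,82,13,8,80,40,64,194]),
  (193,[2,3,128,66,180,144,75,132],[3,1,132,75,36,180,9,4]),
  (213,[123,82,180,51,128,132,18,144],[252,208,48,75,144,180,66,16]),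
  (161,[4,128,5,36,210,45,144,130],[5,130,1,45,66,9,210,2]),
  (22,[33,18,45,41,130,5,82,210],[44,208,12,9,210,45,66,192]),
  (189,[36,144,13,32,80,40,16,194],[37,146,9,40,64,8,80,66]),
  (179,[37,146,40,9,210,45,66,80],[41,82,13,33,146,37,18,194]),
  (111,[9,66,37,8,80,40,64,146],[9,66,37,8,80,40,64,146]),
  (150,[51,18,255,123,130,135,82,210],[252,208,204,75,210,255,66,192]),
  (153,[36,144,13,4,146,37,128,194],[33,18,8,45,66,9,210,64]),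
  (102,[9,66,37,1,194,13,2,146],[8,64,33,9,210,45,66,18]),
  (56,[32,16,12,36,210,45,144,192],[37,146,9,13,2,1,194,66]),
  (246,[45,210,12,40,16,32,80,192],[37,146,44,40,16,32,80,208]),
  (219,[45,210,40,33,146,37,18,80],[45,210,40,33,146,37,18,80]),
  (104,[8,64,33,9,210,45,66,18],[9,66,37,1,194,13,2,146]),
  (24,[32,16,12,4,18,33,128,192],[33,18,8,12,2,1,192,64]),
  (96,[8,64,33,1,192,12,2,18],[8,64,33,1,192,12,2,18]),
  (112,[40,80,13,45,144,36,210,194],[37,146,44,13,192,12,194,208]),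
  (88,[40,80,45,37,18,33,146,210],[45,210,40,12,194,13,192,80])]

def L1 : List (List ℕ × List (List ℕ)) := [
  (idL,[]), ([1,3,8,5,123,41,135,72],[s1_1]), ([207,13,123,120,8,72,40,41],[s1_0]),
  ([192,204,210,16,120,80,48,255],[s1_0,s1_0]), ([192,12,210,208,5,130,44,45],[s1_0,s1_1]),
  ([1,2,5,9,210,45,66,130],[s1_1,s1_1]), ([207,194,120,180,210,255,144,80],[s1_1,s1_0]),
  ([207,13,180,183,4,132,37,36],[s1_1,s1_1,s1_0]), ([1,3,4,9,180,36,75,132],[s1_0,s1_1,s1_0]),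
  ([207,194,183,123,208,252,82,146],[s1_0,s1_0,s1_1]),
  ([192,204,208,18,183,146,51,252],[s1_1,s1_0,s1_1]),
  ([192,12,16,18,4,128,33,32],[s1_1,s1_0,s1_0]), ([207,13,183,180,9,75,36,37],[s1_0,s1_1,s1_1]),
  ([1,3,9,4,183,37,132,75],[s1_1,s1_1,s1_1]),
  ([192,204,16,210,180,144,255,48],[s1_0,s1_0,s1_1,s1_1]),
  ([192,12,18,16,8,64,32,33],[s1_1,s1_1,s1_0,s1_1]),
  ([207,194,123,183,18,51,146,82],[s1_0,s1_1,s1_0,s1_0]),
  ([1,2,8,4,18,33,128,64],[s1_0,s1_1,s1_0,s1_1]),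
  ([192,12,208,210,9,66,45,44],[s1_0,s1_0,s1_1,s1_0]),
  ([192,204,18,208,123,82,252,51],[s1_1,s1_1,s1_0,s1_0]),
  ([207,194,180,120,16,48,80,144],[s1_1,s1_0,s1_1,s1_1]),
  ([1,2,9,5,208,44,130,66],[s1_1,s1_0,s1_1,s1_0]),
  ([207,13,120,123,5,135,41,40],[s1_0,s1_1,s1_0,s1_1,s1_0]),
  ([1,3,5,8,120,40,72,135],[s1_0,s1_1,s1_0,s1_1,s1_1])]

def W1 : List (ℕ × List (List ℕ)) := [
  (14,[]), (15,[g0]), (206,[g3]), (174,[g4]), (126,[g5]), (205,[g0,g3]), (171,[g0,g4]),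
  (87,[g0,g5]), (195,[g3,g2]), (165,[g4,g1]), (249,[g5,g0]), (55,[g5,g1]), (193,[g0,g3,g2]),
  (213,[g0,g3,g5]), (161,[g0,g4,g1]), (22,[g0,g5,g1]), (189,[g4,g1,g5]), (179,[g5,g0,g1]),
  (111,[g5,g1,g5]), (150,[g0,g3,g5,g1]), (153,[g0,g4,g1,g5]), (102,[g0,g5,g1,g5]),
  (56,[g4,g1,g5,g0]), (246,[g4,g1,g5,g1]), (219,[g5,g0,g1,g5]), (104,[g5,g1,g5,g0]),
  (24,[g0,g4,g1,g5,g0]), (96,[g0,g5,g1,g5,g0]), (112,[g4,g1,g5,g0,g1]), (88,[g5,g0,g1,g5,g0])]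

def t1 : PtData where
  r := 14
  T := T1
  S := [s1_0, s1_1]
  L := L1
  W := W1
  C := [([g0,g2], [g0,g2])]

theorem check1 : PtCheck (confK5.X ++ confK5.N ++ confK5.M) (confK5.X ++ confK5.N) t1 := by
  constructor <;> decide +kernel

theorem cover : ∀ n ∈ List.range 256, n ≠ 0 → qs (vec n) = 0 → n ∈ orb ∨ n ∈ t0.W.map (fun w => w.1) ∨ n ∈ t1.W.map (fun w => w.1) := by
  decide +kernel

/-- every conjugate of `z` in `Q` lies over a point of `orb` -/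
theorem pts [Finite G] (p : Pair Q z A a) (φ : Coord p.lz) (hc : IsConf p φ confK5) (x : Q)
    (hx : IsConj z (x : G)) (hx0 : p.lz.pr x ≠ 0) : ∃ n ∈ orb, φ.e (p.lz.pr x) = vec n := by
  obtain ⟨n, hn, hnv⟩ := exists_code (φ.e (p.lz.pr x))
  obtain ⟨A', p', hp'⟩ := pair_of_isConj p x hx hx0
  have hq0 : qs (vec n) = 0 := by rw [← hnv, ← φ.q]; exact hp' ▸ p'.q_D p'.va_mem_D
  have hn0 : n ≠ 0 := by
    rintro rfl
    rw [vec_zero] at hnv
    exact hx0 (φ.e.map_eq_zero_iff.1 hnv)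
  rcases cover n (List.mem_range.2 hn) hn0 hq0 with h1 | h1 | h1
  · exact ⟨n, h1, hnv⟩
  · exfalso
    obtain ⟨w, hw, rfl⟩ := List.mem_map.1 h1
    exact no_pair p φ hc check0 p' ⟨w, hw, by rw [hp', hnv]⟩
  · exfalso
    obtain ⟨w, hw, rfl⟩ := List.mem_map.1 h1
    exact no_pair p φ hc check1 p' ⟨w, hw, by rw [hp', hnv]⟩

end Cfsg.Agent.LargeExtra.KillNine.PtsK5
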