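import Cfsg.Agent.LargeExtra.KillNine.Kills
import Cfsg.Agent.LargeExtra.KillNine.PtsK2
import Cfsg.Agent.LargeExtra.KillNine.PtsK3
import Cfsg.Agent.LargeExtra.KillNine.PtsK4
import Cfsg.Agent.LargeExtra.KillNine.PtsK5

/-!
# The configurations k2, k3, k4, k5 of S1763 do not occur (helper441)
-/

set_option autoImplicit false
set_option maxRecDepth 100000

namespace Cfsg.Agent.LargeExtra.KillNine.Final

open Cfsg.Agent.Co2Type.Quad Cfsg.Agent.LargeExtra.Base Cfsg.Agent.LargeExtra.Nine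
open Cfsg.Agent.LargeExtra.KillNine

variable {G : Type*} [Group G] {Q A : Subgroup G} {z a : G}

theorem killK2 [Finite G] (p : Pair Q z A a) (φ : Coord p.lz) (hc : IsConf p φ confK2) : False := by
  have h : ∀ n ∈ PtsK2.orb, n ∈ Kills.orbK2 := by decide +kernel
  refine Kills.killK2 p φ hc fun x hx hx0 => ?_
  obtain ⟨n, hn, hnv⟩ := PtsK2.pts p φ hc x hx hx0
  exact ⟨n, h n hn, hnv⟩

theorem killK3 [Finite G] (p : Pair Q z A a) (φ : Coord p.lz) (hc : IsConf p φ confK3) : False := by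
  have h : ∀ n ∈ PtsK3.orb, n ∈ Kills.orbK3 := by decide +kernel
  refine Kills.killK3 p φ hc fun x hx hx0 => ?_
  obtain ⟨n, hn, hnv⟩ := PtsK3.pts p φ hc x hx hx0
  exact ⟨n, h n hn, hnv⟩

theorem killK4 [Finite G] (p : Pair Q z A a) (φ : Coord p.lz) (hc : IsConf p φ confK4) : False := by
  have h : ∀ n ∈ PtsK4.orb, n ∈ Kills.orbK4 := by decide +kernel
  refine Kills.killK4 p φ hc fun x hx hx0 => ?_
  obtain ⟨n, hn, hnv⟩ := PtsK4.pts p φ hc x hx hx0
  exact ⟨n, h n hn, hnv⟩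

theorem killK5 [Finite G] (p : Pair Q z A a) (φ : Coord p.lz) (hc : IsConf p φ confK5) : False := by
  have h : ∀ n ∈ PtsK5.orb, n ∈ Kills.orbK5 := by decide +kernel
  refine Kills.killK5 p φ hc fun x hx hx0 => ?_
  obtain ⟨n, hn, hnv⟩ := PtsK5.pts p φ hc x hx hx0
  exact ⟨n, h n hn, hnv⟩

end Cfsg.Agent.LargeExtra.KillNine.Final
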