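import Cfsg.Agent.LargeExtra.Perp

/-!
# The elementary abelian group `E` over a maximal totally singular subspace (helper441)

`h : Large Q z`, `Y` a maximal totally singular subspace of `V = Q / ⟨z⟩` (`|Y|² = |V|`), `W` a group of
elements of `H = C_G(z) / Q` acting trivially on `Y` with `C_V(f) = Y` for `1 ≠ f ∈ W`, each `f` lying in `X_a` for
some pair `(z, a)` with `ã ∈ Y` and `D_a` maximal.  Then `E = C_{C_W}(Y)` is elementary abelian,
`E ∩ Q = Y`, `E Q = C_W`, and `E` is normalised by `Q` and by every `Q_a` with `ã ∈ Y`, `X_a ∩ W ≠ 1`.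
-/

set_option autoImplicit false

namespace Cfsg.Agent.LargeExtra.KillNine.EGroup

open Cfsg.Agent.Co2Type.Quad Cfsg.Agent.LargeExtra.Base

variable {G : Type*} [Group G] {Q : Subgroup G} {z : G}

theorem zmod_two (c : ZMod 2) : c = 0 ∨ c = 1 := by revert c; decide

/-- the preimage in `G` of a subspace of `V` -/
def Yg (h : Large Q z) (Y : Submodule (ZMod 2) h.V) : Subgroup G where
  carrier := {x | ∃ hx : x ∈ Q, h.pr ⟨x, hx⟩ ∈ Y}
  one_mem' := ⟨Q.one_mem, by rw [show (⟨1, Q.one_mem⟩ : Q) = 1 from rfl, h.pr_one]; exact Y.zero_mem⟩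
  mul_mem' := by
    rintro x y ⟨hx, hx'⟩ ⟨hy, hy'⟩
    exact ⟨Q.mul_mem hx hy, Y.add_mem hx' hy'⟩
  inv_mem' := by
    rintro x ⟨hx, hx'⟩
    exact ⟨Q.inv_mem hx, Y.neg_mem hx'⟩

theorem mem_Yg (h : Large Q z) (Y : Submodule (ZMod 2) h.V) {x : G} :
    x ∈ Yg h Y ↔ ∃ hx : x ∈ Q, h.pr ⟨x, hx⟩ ∈ Y := Iff.rfl

theorem coe_mem_Yg (h : Large Q z) (Y : Submodule (ZMod 2) h.V) {x : Q} :
    (x : G) ∈ Yg h Y ↔ h.pr x ∈ Y := ⟨fun ⟨_, h2⟩ => h2, fun h2 => ⟨x.2, h2⟩⟩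

theorem Yg_le (h : Large Q z) (Y : Submodule (ZMod 2) h.V) : Yg h Y ≤ Q := fun _ hx => hx.1

theorem z_mem_Yg (h : Large Q z) (Y : Submodule (ZMod 2) h.V) : z ∈ Yg h Y :=
  ⟨h.z_mem, by rw [h.pr_eq_zero.2 (Or.inr rfl)]; exact Y.zero_mem⟩

theorem sub_Yg (h : Large Q z) (Y : Submodule (ZMod 2) h.V) : Local.sub h (Yg h Y) = Y := by
  ext v
  constructor
  · rintro ⟨x, hx, rfl⟩
    exact (coe_mem_Yg h Y).1 hx
  · intro hv
    obtain ⟨x, rfl⟩ := h.pr_surjective v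
    exact ⟨x, (coe_mem_Yg h Y).2 hv, rfl⟩

theorem card_Yg [Finite Q] (h : Large Q z) (Y : Submodule (ZMod 2) h.V) :
    Nat.card (Yg h Y) = 2 * Nat.card Y := by
  have h1 := Local.card_sub h (z_mem_Yg h Y)
  rw [sub_Yg, inf_eq_left.2 (Yg_le h Y)] at h1
  exact h1

/-- an element of `C_G(z)` acting trivially on `Y` can be corrected by an element of `Q` to centralise the preimage
of `Y`. -/
theorem exists_lift_comm [Finite Q] (h : Large Q z) (Y : Submodule (ZMod 2) h.V)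
    (c : Subgroup.centralizer ({z} : Set G)) (hc : ∀ v ∈ Y, h.act c v = v) :
    ∃ u ∈ Q, ∀ y ∈ Yg h Y, (u * c) * y = y * (u * c) := by
  classical
  have hgz : (c : G) * z = z * c := Subgroup.mem_centralizer_singleton_iff.1 c.2
  have hval : ∀ x : Q, h.pr x ∈ Y → (c : G) * x * (c : G)⁻¹ * (x : G)⁻¹ = 1 ∨
      (c : G) * x * (c : G)⁻¹ * (x : G)⁻¹ = z := by
    intro x hx
    have h1 := hc _ hx
    rw [h.act_pr, h.pr_eq_pr, Large.conjQ_coe] at h1
    rcases h1 with h2 | h2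
    · left; rw [h2]; group
    · right; rw [h2, (h.commz x.2).eq]; group
  let F : h.V → ZMod 2 := fun v =>
    Large.val ((c : G) * (Function.surjInv h.pr_surjective v : Q) * (c : G)⁻¹ *
      ((Function.surjInv h.pr_surjective v : Q) : G)⁻¹)
  have hF : ∀ x : Q, F (h.pr x) = Large.val ((c : G) * x * (c : G)⁻¹ * (x : G)⁻¹) := by
    intro x
    show Large.val _ = _
    have h2 : h.pr (Function.surjInv h.pr_surjective (h.pr x)) = h.pr x :=
      Function.surjInv_eq h.pr_surjective (h.pr x)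
    rcases h.pr_eq_pr.1 h2 with h3 | h3
    · rw [h3]
    · rw [h3]
      congr 1
      have hzg : z * (c : G)⁻¹ = (c : G)⁻¹ * z := by
        rw [eq_inv_mul_iff_mul_eq, ← mul_assoc, hgz, mul_assoc, mul_inv_cancel, mul_one]
      calc (c : G) * (x * z) * (c : G)⁻¹ * (x * z : G)⁻¹
          = c * x * (z * (c : G)⁻¹) * (z⁻¹ * (x : G)⁻¹) := by group
        _ = c * x * ((c : G)⁻¹ * z) * (z⁻¹ * (x : G)⁻¹) := by rw [hzg]
        _ = (c : G) * x * (c : G)⁻¹ * (x : G)⁻¹ := by group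
  have hadd : ∀ v w : Y, F (v + w) = F v + F w := by
    rintro ⟨v, hv⟩ ⟨w, hw⟩
    obtain ⟨x, rfl⟩ := h.pr_surjective v
    obtain ⟨y, rfl⟩ := h.pr_surjective w
    show F (h.pr x + h.pr y) = F (h.pr x) + F (h.pr y)
    rw [← h.pr_mul, hF, hF, hF]
    have e : (c : G) * ((x * y : Q) : G) * (c : G)⁻¹ * (((x * y : Q) : G))⁻¹
        = (c * x * (c : G)⁻¹ * (x : G)⁻¹) * (x * (c * y * (c : G)⁻¹ * (y : G)⁻¹) * (x : G)⁻¹) := by
      rw [Subgroup.coe_mul]; group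
    rw [e]
    have hxz : (x : G) * z * (x : G)⁻¹ = z := by rw [(h.commz x.2).eq]; group
    rcases hval x hv with h2 | h2 <;> rcases hval y hw with h3 | h3 <;> rw [h2, h3]
    · simp [Large.val_one]
    · rw [hxz, one_mul, Large.val_one, zero_add]
    · rw [mul_one, mul_inv_cancel, mul_one, Large.val_one, add_zero]
    · rw [hxz, h.z_sq, h.val_z, Large.val_one]; decide
  let f : Y →ₗ[ZMod 2] ZMod 2 := AddMonoidHom.toZModLinearMap 2
    { toFun := fun v => F v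
      map_zero' := by
        have := hadd 0 0
        simpa using this
      map_add' := hadd }
  obtain ⟨F', hF'⟩ := LinearMap.exists_extend f
  have hF'' : ∀ w : Y, F' w = F w := fun w => by
    have : F' w = f w := by rw [← hF']; rfl
    rw [this]; rfl
  obtain ⟨v, hv⟩ := h.exists_b_eq F'
  obtain ⟨u, rfl⟩ := h.pr_surjective v
  refine ⟨u, u.2, ?_⟩
  rintro y ⟨hyQ, hyY⟩
  have h2 : h.b (h.pr u) (h.pr ⟨y, hyQ⟩) = F (h.pr ⟨y, hyQ⟩) := by
    rw [hv]; exact hF'' ⟨_, hyY⟩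
  rw [hF] at h2
  rcases hval ⟨y, hyQ⟩ hyY with h3 | h3
  · rw [h3, Large.val_one] at h2
    have h4 : (u : G) * y = y * u := (h.b_pr u ⟨y, hyQ⟩).1 h2
    have h5 : (c : G) * y = y * c := by
      have : (c : G) * y * (c : G)⁻¹ * y⁻¹ = 1 := h3
      rw [mul_inv_eq_one, mul_inv_eq_iff_eq_mul] at this
      exact this
    rw [mul_assoc, h5, ← mul_assoc, h4, mul_assoc]
  · rw [h3, h.val_z] at h2
    have h4 : (u : G) * y = y * u * z := (h.b_pr_one u ⟨y, hyQ⟩).1 h2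
    have h5 : (c : G) * y = z * y * c := by
      have : (c : G) * y * (c : G)⁻¹ * y⁻¹ = z := h3
      rw [mul_inv_eq_iff_eq_mul, mul_inv_eq_iff_eq_mul] at this
      exact this
    calc (u : G) * c * y = u * (c * y) := by group
      _ = (u * z) * (y * c) := by rw [h5]; group
      _ = z * (u * y) * c := by rw [(h.commz u.2).eq]; group
      _ = z * (y * u * z) * c := by rw [h4]
      _ = z * (z * (y * u)) * c := by
          rw [((h.commz hyQ).mul_left (h.commz u.2)).eq]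
      _ = (z * z) * (y * (u * c)) := by group
      _ = y * (u * c) := by rw [h.z_sq, one_mul]

/-- a maximal abelian subgroup of `Q` contains its centraliser -/
theorem self_perp [Finite Q] (h : Large Q z)
    {B : Subgroup G} (hz : z ∈ B) (hB : ∀ x ∈ B, x ∈ Q → ∀ y ∈ B, y ∈ Q → x * y = y * x)
    (hc : Nat.card h.V ≤ Nat.card (Local.sub h B) * Nat.card (Local.sub h B)) {u : G} (hu : u ∈ Q)
    (hcu : ∀ b ∈ B, b ∈ Q → u * b = b * u) : u ∈ B := by
  have hle : Local.sub h B ≤ h.b.orthogonal (Local.sub h B) := by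
    intro v hv
    rw [Perp.mem_perp]
    intro w hw
    obtain ⟨x, hx, rfl⟩ := hv
    obtain ⟨y, hy, rfl⟩ := hw
    exact (h.b_pr y x).2 (hB y hy y.2 x hx x.2)
  have h1 := Perp.card_perp h (Local.sub h B)
  have h2 : Nat.card (h.b.orthogonal (Local.sub h B)) ≤ Nat.card (Local.sub h B) := by
    rw [← h1] at hc
    exact Nat.le_of_mul_le_mul_left hc Nat.card_pos
  have h3 : (Local.sub h B : Set h.V) = (h.b.orthogonal (Local.sub h B) : Set h.V) := by
    apply Set.eq_of_subset_of_ncard_le hle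
    exact h2
  have h4 : h.pr ⟨u, hu⟩ ∈ h.b.orthogonal (Local.sub h B) := by
    rw [Perp.mem_perp]
    rintro w ⟨y, hy, rfl⟩
    rw [h.b_pr]
    exact (hcu y hy y.2).symm
  rw [← SetLike.mem_coe, ← h3, SetLike.mem_coe] at h4
  exact (Local.pr_mem_sub h hz ⟨u, hu⟩).1 h4

theorem card_V_eq {A : Subgroup G} {a : G}
    (p : Pair Q z A a) : Nat.card p.la.V = Nat.card p.lz.V := by
  have h1 := p.lz.card_eq
  have h2 := p.la.card_eq
  rw [p.card_eq, h1] at h2
  exact (Nat.eq_of_mul_eq_mul_left (by norm_num) h2).symm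

/-- `C_A(D) ≤ Q` if `D` is maximal -/
theorem mem_Q_of_comm_D [Finite G] {A : Subgroup G}
    {a : G} (p : Pair Q z A a) (hD : Nat.card p.D * Nat.card p.D = Nat.card p.lz.V) {x : G}
    (hx : x ∈ A) (hxD : ∀ d ∈ Q, d ∈ A → x * d = d * x) : x ∈ Q := by
  have h1 := Local.card_sub p.la (B := Q) p.a_mem
  have h2 := Local.card_sub p.lz (B := A) p.z_mem
  rw [inf_comm, h2] at h1
  have h3 : Nat.card (Local.sub p.la Q) = Nat.card p.D :=
    (Nat.eq_of_mul_eq_mul_left (by norm_num) h1).symm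
  refine self_perp p.la (B := Q) p.a_mem (fun x hx hxA y hy hyA => p.comm_D hx hxA hy hyA) ?_ hx
    (fun d hdQ hdA => hxD d hdQ hdA)
  rw [h3, hD, card_V_eq p]

/-! ### the data -/

structure EData (h : Large Q z) (Y : Submodule (ZMod 2) h.V) (W : Subgroup (h.V ≃ₗ[ZMod 2] h.V)) :
    Prop where
  hq : ∀ v ∈ Y, h.q v = 0
  card_sq : Nat.card Y * Nat.card Y = Nat.card h.V
  le : W ≤ h.act.range
  triv : ∀ f ∈ W, ∀ v ∈ Y, f v = v
  fix : ∀ f ∈ W, f ≠ 1 → ∀ v, f v = v → v ∈ Y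
  pair : ∀ f ∈ W, f ≠ 1 → ∃ (A : Subgroup G) (a : G) (p : Pair Q z A a),
    p.va ∈ Y ∧ f ∈ p.X ∧ Nat.card p.D = Nat.card Y

/-- the group `E` -/
def E (h : Large Q z) (Y : Submodule (ZMod 2) h.V) (W : Subgroup (h.V ≃ₗ[ZMod 2] h.V)) : Subgroup G where
  carrier := {g | ∃ hg : g ∈ Subgroup.centralizer ({z} : Set G), h.act ⟨g, hg⟩ ∈ W ∧
    ∀ y ∈ Yg h Y, g * y = y * g}
  one_mem' := ⟨one_mem _, by
    rw [show (⟨1, one_mem _⟩ : Subgroup.centralizer ({z} : Set G)) = 1 from rfl, map_one]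
    exact W.one_mem, fun y _ => by rw [one_mul, mul_one]⟩
  mul_mem' := by
    rintro x y ⟨hx, hx', hx''⟩ ⟨hy, hy', hy''⟩
    refine ⟨mul_mem hx hy, ?_, fun t ht => ?_⟩
    · rw [show (⟨x * y, mul_mem hx hy⟩ : Subgroup.centralizer ({z} : Set G)) = ⟨x, hx⟩ * ⟨y, hy⟩ from rfl,
        map_mul]
      exact W.mul_mem hx' hy'
    · rw [mul_assoc, hy'' t ht, ← mul_assoc, hx'' t ht, mul_assoc]
  inv_mem' := by
    rintro x ⟨hx, hx', hx''⟩
    refine ⟨inv_mem hx, ?_, fun t ht => ?_⟩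
    · rw [show (⟨x⁻¹, inv_mem hx⟩ : Subgroup.centralizer ({z} : Set G)) = ⟨x, hx⟩⁻¹ from rfl, map_inv]
      exact W.inv_mem hx'
    · rw [inv_mul_eq_iff_eq_mul, ← mul_assoc, hx'' t ht, mul_assoc, mul_inv_cancel, mul_one]

section

variable (h : Large Q z) (Y : Submodule (ZMod 2) h.V) (W : Subgroup (h.V ≃ₗ[ZMod 2] h.V))

theorem mem_E {g : G} : g ∈ E h Y W ↔ ∃ hg : g ∈ Subgroup.centralizer ({z} : Set G),
    h.act ⟨g, hg⟩ ∈ W ∧ ∀ y ∈ Yg h Y, g * y = y * g := Iff.rfl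

end

namespace EData

variable {h : Large Q z} {Y : Submodule (ZMod 2) h.V} {W : Subgroup (h.V ≃ₗ[ZMod 2] h.V)}

theorem hb (e : EData h Y W) {v w : h.V} (hv : v ∈ Y) (hw : w ∈ Y) : h.b v w = 0 := by
  have h1 := h.q_add' v w
  rw [e.hq _ hv, e.hq _ hw, e.hq _ (Y.add_mem hv hw)] at h1
  simpa using h1.symm

theorem card_perp [Finite Q] (e : EData h Y W) : Nat.card (h.b.orthogonal Y) = Nat.card Y := by
  have h1 := Perp.card_perp h Y
  rw [← e.card_sq] at h1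
  exact Nat.eq_of_mul_eq_mul_left Nat.card_pos h1

theorem perp_eq [Finite Q] (e : EData h Y W) : h.b.orthogonal Y = Y := by
  have hle : Y ≤ h.b.orthogonal Y := fun v hv => (Perp.mem_perp h Y).2 fun w hw => e.hb hw hv
  have h2 : (Y : Set h.V) = (h.b.orthogonal Y : Set h.V) := by
    apply Set.eq_of_subset_of_ncard_le hle
    have h3 : Set.ncard ((h.b.orthogonal Y : Submodule (ZMod 2) h.V) : Set h.V) =
        Nat.card (h.b.orthogonal Y) := rfl
    have h4 : Set.ncard (Y : Set h.V) = Nat.card Y := rfl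
    rw [h3, h4, e.card_perp]
  exact (SetLike.coe_injective h2).symm

/-- `C_Q(Y) = Y` -/
theorem mem_Yg_of_comm [Finite Q] (e : EData h Y W) {u : G} (hu : u ∈ Q)
    (hc : ∀ y ∈ Yg h Y, u * y = y * u) : u ∈ Yg h Y := by
  have h1 : h.pr ⟨u, hu⟩ ∈ h.b.orthogonal Y := by
    rw [Perp.mem_perp]
    intro w hw
    obtain ⟨y, rfl⟩ := h.pr_surjective w
    rw [h.b_pr]
    exact (hc y ((coe_mem_Yg h Y).2 hw)).symm
  rw [e.perp_eq] at h1
  exact ⟨hu, h1⟩

theorem sq_Yg (e : EData h Y W) {y : G} (hy : y ∈ Yg h Y) : y * y = 1 :=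
  h.q_eq_zero.1 (e.hq _ hy.2)

theorem comm_Yg (e : EData h Y W) {x y : G} (hx : x ∈ Yg h Y) (hy : y ∈ Yg h Y) : x * y = y * x :=
  (h.b_pr ⟨x, hx.1⟩ ⟨y, hy.1⟩).1 (e.hb hx.2 hy.2)

theorem Yg_le_E (e : EData h Y W) : Yg h Y ≤ E h Y W := by
  intro x hx
  refine ⟨Subgroup.mem_centralizer_singleton_iff.2 (h.comm_z x hx.1), ?_, fun y hy => e.comm_Yg hx hy⟩
  rw [h.act_mem _ hx.1]
  exact W.one_mem

theorem E_inf_Q [Finite Q] (e : EData h Y W) {x : G} (hx : x ∈ E h Y W) (hQ : x ∈ Q) : x ∈ Yg h Y :=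
  e.mem_Yg_of_comm hQ hx.2.2

theorem sq_W (e : EData h Y W) {f : h.V ≃ₗ[ZMod 2] h.V} (hf : f ∈ W) : f * f = 1 := by
  by_cases h1 : f = 1
  · rw [h1, mul_one]
  · obtain ⟨A, a, p, -, hX, -⟩ := e.pair f hf h1
    exact p.X_sq hX

theorem fix_iff (e : EData h Y W) {f : h.V ≃ₗ[ZMod 2] h.V} (hf : f ∈ W) (h1 : f ≠ 1) (v : h.V) :
    f v = v ↔ v ∈ Y := ⟨e.fix f hf h1 v, fun hv => e.triv f hf v hv⟩

/-- `[V, f] ≤ Y` -/
theorem comm_mem_Y (e : EData h Y W) {f : h.V ≃ₗ[ZMod 2] h.V} (hf : f ∈ W) (v : h.V) :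
    f v + v ∈ Y := by
  by_cases h1 : f = 1
  · rw [h1]
    show v + v ∈ Y
    rw [h.add_self]; exact Y.zero_mem
  · apply e.fix f hf h1
    have h2 : f (f v) = v := by
      have := e.sq_W hf
      exact congrArg (fun t : h.V ≃ₗ[ZMod 2] h.V => t v) this
    rw [map_add, h2, add_comm]

/-- `[E, Q] ≤ Y` -/
theorem comm_mem_Yg (e : EData h Y W) {x u : G} (hx : x ∈ E h Y W) (hu : u ∈ Q) :
    u * x * u⁻¹ * x⁻¹ ∈ Yg h Y := by
  obtain ⟨hxC, hxW, -⟩ := hx
  have hxz : x * z = z * x := Subgroup.mem_centralizer_singleton_iff.1 hxC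
  have h1 : x * u⁻¹ * x⁻¹ ∈ Q := h.conj_mem x hxz _ (inv_mem hu)
  have h2 : u * x * u⁻¹ * x⁻¹ = u * (x * u⁻¹ * x⁻¹) := by group
  have h3 : u * x * u⁻¹ * x⁻¹ ∈ Q := by rw [h2]; exact mul_mem hu h1
  refine ⟨h3, ?_⟩
  have h4 : h.pr ⟨u * x * u⁻¹ * x⁻¹, h3⟩ = h.pr ⟨u, hu⟩ + h.act ⟨x, hxC⟩ (h.pr ⟨u, hu⟩) := by
    have h5 : (⟨u * x * u⁻¹ * x⁻¹, h3⟩ : Q) = ⟨u, hu⟩ * h.conjQ ⟨x, hxC⟩ (⟨u, hu⟩ : Q)⁻¹ :=
      Subtype.ext h2
    rw [h5, h.pr_mul, ← h.act_pr, h.pr_inv, h.neg_eq]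
  rw [h4, add_comm]
  exact e.comm_mem_Y hxW _

/-- `E` is normalised by `Q` -/
theorem conj_Q (e : EData h Y W) {x u : G} (hx : x ∈ E h Y W) (hu : u ∈ Q) :
    u * x * u⁻¹ ∈ E h Y W := by
  have h1 := mul_mem (e.Yg_le_E (e.comm_mem_Yg hx hu)) hx
  rwa [inv_mul_cancel_right] at h1

/-- `e² ∈ ⟨z⟩` for `e ∈ E` -/
theorem sq_E [Finite Q] (e : EData h Y W) {x : G} (hx : x ∈ E h Y W) : x * x = 1 ∨ x * x = z := by
  obtain ⟨hxC, hxW, hxY⟩ := id hx
  have h1 : x * x ∈ Q := by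
    refine h.mem_of_act (⟨x, hxC⟩ * ⟨x, hxC⟩) ?_
    rw [map_mul]; exact e.sq_W hxW
  apply h.cent _ h1
  intro u hu
  -- `u x u⁻¹ = y x`, `y ∈ Y`
  set y := u * x * u⁻¹ * x⁻¹ with hy
  have hyY : y ∈ Yg h Y := e.comm_mem_Yg hx hu
  have h2 : u * x * u⁻¹ = y * x := by rw [hy]; group
  have h3 : x * y = y * x := hxY y hyY
  have h4 : u * (x * x) * u⁻¹ = x * x := by
    calc u * (x * x) * u⁻¹ = (u * x * u⁻¹) * (u * x * u⁻¹) := by group
      _ = y * (x * y) * x := by rw [h2]; group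
      _ = (y * y) * (x * x) := by rw [h3]; group
      _ = x * x := by rw [e.sq_Yg hyY, one_mul]
  rw [mul_inv_eq_iff_eq_mul] at h4
  exact h4.symm

/-- an element of `E` over each `f ∈ W` -/
theorem exists_E [Finite Q] (e : EData h Y W) {f : h.V ≃ₗ[ZMod 2] h.V} (hf : f ∈ W) :
    ∃ (x : G) (hx : x ∈ Subgroup.centralizer ({z} : Set G)), x ∈ E h Y W ∧ h.act ⟨x, hx⟩ = f := by
  obtain ⟨c, rfl⟩ := e.le hf
  obtain ⟨u, hu, huc⟩ := exists_lift_comm h Y c (fun v hv => e.triv _ hf v hv)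
  have huC : u ∈ Subgroup.centralizer ({z} : Set G) :=
    Subgroup.mem_centralizer_singleton_iff.2 (h.comm_z u hu)
  have h1 : h.act ⟨u * c, mul_mem huC c.2⟩ = h.act c := by
    rw [show (⟨u * c, mul_mem huC c.2⟩ : Subgroup.centralizer ({z} : Set G)) = ⟨u, huC⟩ * c from rfl,
      map_mul, h.act_mem _ hu, one_mul]
  refine ⟨u * c, mul_mem huC c.2, ⟨mul_mem huC c.2, ?_, huc⟩, h1⟩
  rw [h1]; exact hf

/-- an involution of `A ∩ E` over each `f ∈ X_a ∩ W` -/
theorem exists_invol [Finite G] (e : EData h Y W) {A : Subgroup G} {a : G} (p : Pair Q z A a)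
    (hD : Nat.card p.D = Nat.card Y) {f : h.V ≃ₗ[ZMod 2] h.V} (hf : f ∈ W) (h1 : f ≠ 1)
    (hX : f ∈ p.X) : (∀ (x : G) (hx : x ∈ Subgroup.centralizer ({z} : Set G)), x ∈ E h Y W →
      h.act ⟨x, hx⟩ = f → x * x = 1) ∧ ∃ (x : G) (hx : x ∈ Subgroup.centralizer ({z} : Set G)), x ∈ A ∧
      x ∈ E h Y W ∧ h.act ⟨x, hx⟩ = f := by
  have hQfin : Finite Q := inferInstance
  obtain ⟨c, hcA, hcf⟩ := p.mem_X.1 hX
  -- an involution `x₀ ∈ A` over `f`
  have step1 : ∃ (x : G) (hx : x ∈ Subgroup.centralizer ({z} : Set G)), x ∈ A ∧ x * x = 1 ∧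
      h.act ⟨x, hx⟩ = f := by
    rcases p.la.sq c hcA with h2 | h2
    · exact ⟨c, c.2, hcA, h2, hcf⟩
    · have h3 : ∃ d ∈ Q, d ∈ A ∧ (c : G) * d ≠ d * c := by
        by_contra hcon
        push Not at hcon
        apply h1
        rw [← hcf]
        apply h.act_mem
        refine mem_Q_of_comm_D p ?_ hcA hcon
        rw [hD]; exact e.card_sq
      obtain ⟨d, hdQ, hdA, hd⟩ := h3
      have hdC : d ∈ Subgroup.centralizer ({z} : Set G) :=
        Subgroup.mem_centralizer_singleton_iff.2 (h.comm_z d hdQ)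
      refine ⟨c * d, mul_mem c.2 hdC, mul_mem hcA hdA, ?_, ?_⟩
      · have h4 : (c : G) * d * (c : G)⁻¹ = d * a := by
          rcases p.conj_D hdA hcA with h4 | h4
          · exact absurd (mul_inv_eq_iff_eq_mul.1 h4) hd
          · exact h4
        have h5 := p.sq_D hdQ hdA
        have h6 : a * d = d * a := ((p.la.commz hdA).eq).symm
        calc (c : G) * d * (c * d) = (c * d * (c : G)⁻¹) * (c * c) * d := by group
          _ = (d * a) * a * d := by rw [h4, h2]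
          _ = d * (a * a) * d := by group
          _ = 1 := by rw [p.la.z_sq, mul_one, h5]
      · rw [show (⟨c * d, mul_mem c.2 hdC⟩ : Subgroup.centralizer ({z} : Set G)) = c * ⟨d, hdC⟩ from rfl,
          map_mul, h.act_mem ⟨d, hdC⟩ hdQ, mul_one]
        exact hcf
  obtain ⟨x₀, hx₀C, hx₀A, hx₀sq, hx₀f⟩ := step1
  -- comparison with elements of `E`
  have step2 : ∀ (x : G) (hx : x ∈ Subgroup.centralizer ({z} : Set G)), x ∈ E h Y W →
      h.act ⟨x, hx⟩ = f → x₀ ∈ E h Y W ∧ x * x = 1 := by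
    intro x hx hxE hxf
    have hu : x⁻¹ * x₀ ∈ Q := by
      refine h.mem_of_act (⟨x, hx⟩⁻¹ * ⟨x₀, hx₀C⟩) ?_
      rw [map_mul, map_inv, hxf, hx₀f, inv_mul_cancel]
    set u := x⁻¹ * x₀ with hudef
    have hx₀ : x₀ = x * u := by rw [hudef]; group
    have hxz : x * z = z * x := Subgroup.mem_centralizer_singleton_iff.1 hx
    have hw : x * u * x⁻¹ ∈ Q := h.conj_mem x hxz u hu
    have hxx : x * x ∈ Q := by
      rcases e.sq_E hxE with h2 | h2
      · rw [h2]; exact Q.one_mem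
      · rw [h2]; exact h.z_mem
    have hprod : (x * u * x⁻¹) * (x * x) * u = 1 := by
      rw [hx₀] at hx₀sq
      calc (x * u * x⁻¹) * (x * x) * u = x * u * (x * u) := by group
        _ = 1 := hx₀sq
    have hfix : f (h.pr ⟨u, hu⟩) = h.pr ⟨u, hu⟩ := by
      rw [← hxf, h.act_pr]
      have h2 : h.pr (h.conjQ ⟨x, hx⟩ ⟨u, hu⟩ * ⟨x * x, hxx⟩ * ⟨u, hu⟩) = 0 := by
        have : (h.conjQ ⟨x, hx⟩ ⟨u, hu⟩ * ⟨x * x, hxx⟩ * ⟨u, hu⟩ : Q) = 1 := Subtype.ext hprod
        rw [this, h.pr_one]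
      rw [h.pr_mul, h.pr_mul] at h2
      have h3 : h.pr ⟨x * x, hxx⟩ = 0 := by
        rw [h.pr_eq_zero]
        exact e.sq_E hxE
      rw [h3, add_zero] at h2
      rw [eq_neg_of_add_eq_zero_left h2, h.neg_eq]
    have huY : u ∈ Yg h Y := ⟨hu, e.fix f hf h1 _ hfix⟩
    refine ⟨by rw [hx₀]; exact mul_mem hxE (e.Yg_le_E huY), ?_⟩
    have h4 : x * u = u * x := hxE.2.2 u huY
    have h5 : x₀ * x₀ = x * x := by
      rw [hx₀]
      calc x * u * (x * u) = x * (u * x) * u := by group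
        _ = x * (x * u) * u := by rw [h4]
        _ = x * x * (u * u) := by group
        _ = x * x := by rw [e.sq_Yg huY, mul_one]
    rw [← h5]; exact hx₀sq
  refine ⟨fun x hx hxE hxf => (step2 x hx hxE hxf).2, ?_⟩
  obtain ⟨x, hx, hxE, hxf⟩ := e.exists_E hf
  exact ⟨x₀, hx₀C, hx₀A, (step2 x hx hxE hxf).1, hx₀f⟩

theorem sq_one [Finite G] (e : EData h Y W) {x : G} (hx : x ∈ E h Y W) : x * x = 1 := by
  obtain ⟨hxC, hxW, -⟩ := id hx
  by_cases h1 : h.act ⟨x, hxC⟩ = 1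
  · exact e.sq_Yg (e.E_inf_Q hx (h.mem_of_act _ h1))
  · obtain ⟨A, a, p, -, hX, hD⟩ := e.pair _ hxW h1
    exact (e.exists_invol p hD hxW h1 hX).1 x hxC hx rfl

theorem comm_E [Finite G] (e : EData h Y W) {x y : G} (hx : x ∈ E h Y W) (hy : y ∈ E h Y W) :
    x * y = y * x := by
  have h1 := e.sq_one hx
  have h2 := e.sq_one hy
  have h3 := e.sq_one (mul_mem hx hy)
  have h4 : x⁻¹ = x := inv_eq_of_mul_eq_one_left h1
  have h5 : y⁻¹ = y := inv_eq_of_mul_eq_one_left h2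
  have h6 : (x * y)⁻¹ = x * y := inv_eq_of_mul_eq_one_left h3
  rw [← h6, mul_inv_rev, h4, h5]

theorem card_E [Finite G] (e : EData h Y W) :
    Nat.card (E h Y W) = Nat.card W * (2 * Nat.card Y) := by
  have hle : E h Y W ≤ Subgroup.centralizer ({z} : Set G) := fun x hx => hx.1
  have h1 := Local.card_img h hle
  have h2 : Local.img h (E h Y W) = W := by
    ext f
    constructor
    · rintro ⟨c, hc, rfl⟩
      exact hc.2.1
    · intro hf
      obtain ⟨x, hx, hxE, hxf⟩ := e.exists_E hf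
      exact ⟨⟨x, hx⟩, hxE, hxf⟩
  have h3 : E h Y W ⊓ Q = Yg h Y := by
    ext x
    constructor
    · rintro ⟨hx, hxQ⟩
      exact e.E_inf_Q hx hxQ
    · intro hx
      exact ⟨e.Yg_le_E hx, hx.1⟩
  rw [h2, h3, card_Yg] at h1
  exact h1.symm

/-- `|Y| ≤ 2 |Y ∩ D|` if `X_a ∩ W ≠ 1`. -/
theorem card_inf_D [Finite G] (e : EData h Y W) {A : Subgroup G} {a : G} (p : Pair Q z A a)
    (ha : p.va ∈ Y) {f : h.V ≃ₗ[ZMod 2] h.V} (hf : f ∈ W) (h1 : f ≠ 1)
    (hX : f ∈ p.X) : Nat.card Y ≤ 2 * Nat.card ↥(Y ⊓ p.D) := by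
  have hQfin : Finite Q := inferInstance
  -- the line spanned by `ã` and its perp
  let U : Submodule (ZMod 2) h.V := Submodule.span (ZMod 2) {p.va}
  let P : Submodule (ZMod 2) h.V := h.b.orthogonal U
  have hP : ∀ v, v ∈ P ↔ h.b p.va v = 0 := by
    intro v
    rw [Perp.mem_perp]
    constructor
    · intro hv
      exact hv _ (Submodule.mem_span_singleton_self _)
    · intro hv w hw
      obtain ⟨c, rfl⟩ := Submodule.mem_span_singleton.1 hw
      rw [map_smul, LinearMap.smul_apply, hv, smul_zero]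
  have hU : Nat.card U = 2 := by
    rw [Nat.card_eq_two_iff]
    refine ⟨0, ⟨p.va, Submodule.mem_span_singleton_self _⟩, ?_, ?_⟩
    · intro h2
      exact p.va_ne (congrArg Subtype.val h2).symm
    · ext ⟨v, hv⟩
      simp only [Set.mem_insert_iff, Set.mem_singleton_iff, Set.mem_univ, iff_true]
      obtain ⟨c, rfl⟩ := Submodule.mem_span_singleton.1 hv
      rcases zmod_two c with rfl | rfl
      · left; apply Subtype.ext; show (0 : ZMod 2) • p.va = 0; rw [zero_smul]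
      · right; apply Subtype.ext; show (1 : ZMod 2) • p.va = p.va; rw [one_smul]
  have hPc := Perp.card_perp h U
  rw [hU] at hPc
  -- the map `v ↦ f v + v` on `P`
  let L : P →ₗ[ZMod 2] h.V := ((f : h.V →ₗ[ZMod 2] h.V) + LinearMap.id).comp P.subtype
  have hL : ∀ v : P, L v = f v + v := fun v => rfl
  have hrange : LinearMap.range L ≤ Y ⊓ p.D := by
    rintro _ ⟨v, rfl⟩
    rw [hL]
    exact ⟨e.comm_mem_Y hf _, p.X_perp hX ((hP _).1 v.2)⟩
  have hker : Nat.card (LinearMap.ker L) ≤ Nat.card Y := by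
    refine Nat.card_le_card_of_injective (fun v => (⟨(v : P), e.fix f hf h1 _ ?_⟩ : Y)) ?_
    · have h2 := LinearMap.mem_ker.1 v.2
      rw [hL] at h2
      rw [eq_neg_of_add_eq_zero_left h2, h.neg_eq]
    · intro v w hvw
      exact Subtype.ext (Subtype.ext (congrArg (fun t : Y => (t : h.V)) hvw))
  have hcard : Nat.card P = Nat.card (LinearMap.ker L) * Nat.card (LinearMap.range L) := by
    have h2 := Submodule.card_eq_card_quotient_mul_card (LinearMap.ker L)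
    rw [h2, Nat.card_congr (LinearMap.quotKerEquivRange L).toEquiv]
  have hr2 : Nat.card (LinearMap.range L) ≤ Nat.card ↥(Y ⊓ p.D) :=
    Nat.card_le_card_of_injective _ (Submodule.inclusion_injective hrange)
  have h3 : Nat.card Y * Nat.card Y ≤ Nat.card Y * (2 * Nat.card ↥(Y ⊓ p.D)) := by
    rw [e.card_sq, ← hPc, hcard]
    calc 2 * (Nat.card (LinearMap.ker L) * Nat.card (LinearMap.range L))
        ≤ 2 * (Nat.card Y * Nat.card ↥(Y ⊓ p.D)) :=
          Nat.mul_le_mul_left _ (Nat.mul_le_mul hker hr2)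
      _ = Nat.card Y * (2 * Nat.card ↥(Y ⊓ p.D)) := by ring
  exact Nat.le_of_mul_le_mul_left h3 Nat.card_pos

theorem card_V_le_E [Finite G] (e : EData h Y W) {A : Subgroup G} {a : G} (p : Pair Q z A a)
    (ha : p.va ∈ Y) (hD : Nat.card p.D = Nat.card Y) {f : h.V ≃ₗ[ZMod 2] h.V} (hf : f ∈ W) (h1 : f ≠ 1)
    (hX : f ∈ p.X) : Nat.card Y ≤ Nat.card (Local.sub p.la (E h Y W)) := by
  have hQfin : Finite Q := inferInstance
  have haE : a ∈ E h Y W := e.Yg_le_E ⟨p.a_mem, ha⟩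
  have h2 := Local.card_sub p.la haE
  -- `Yg ⊓ A`
  have h3 := Local.card_sub h (B := Yg h Y ⊓ A) ⟨z_mem_Yg h Y, p.z_mem⟩
  have h4 : Local.sub h (Yg h Y ⊓ A) = Y ⊓ p.D := by
    ext v
    constructor
    · rintro ⟨x, hx, rfl⟩
      exact ⟨(coe_mem_Yg h Y).1 hx.1, (p.pr_mem_D x).2 hx.2⟩
    · rintro ⟨hv1, hv2⟩
      obtain ⟨x, rfl⟩ := h.pr_surjective v
      exact ⟨x, ⟨(coe_mem_Yg h Y).2 hv1, (p.pr_mem_D x).1 hv2⟩, rfl⟩
  rw [h4] at h3
  have h5 := e.card_inf_D p ha hf h1 hX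
  -- `x (Yg ⊓ A)` is disjoint
  obtain ⟨x, hxC, hxA, hxE, hxf⟩ := (e.exists_invol p hD hf h1 hX).2
  have hxQ : x ∉ Q := by
    intro hxQ
    apply h1
    rw [← hxf]
    exact h.act_mem _ hxQ
  let B : Subgroup G := Yg h Y ⊓ A ⊓ Q
  have hinj : 2 * Nat.card B ≤ Nat.card ↥(E h Y W ⊓ A) := by
    let F : Bool × B → ↥(E h Y W ⊓ A) := fun t =>
      ⟨(if t.1 then x else 1) * t.2, by
        have hb := t.2.2
        refine mul_mem ?_ ⟨e.Yg_le_E hb.1.1, hb.1.2⟩
        by_cases ht : t.1 = true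
        · rw [if_pos ht]; exact ⟨hxE, hxA⟩
        · rw [if_neg ht]; exact one_mem _⟩
    have hF : Function.Injective F := by
      rintro ⟨s, b⟩ ⟨t, c⟩ hst
      have hst' : (if s then x else 1) * (b : G) = (if t then x else 1) * c :=
        congrArg Subtype.val hst
      have hbc : s = t := by
        by_contra hne
        apply hxQ
        have hb : (b : G) ∈ Q := b.2.2
        have hc : (c : G) ∈ Q := c.2.2
        rcases Bool.eq_false_or_eq_true s with rfl | rfl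
        · rcases Bool.eq_false_or_eq_true t with rfl | rfl
          · exact absurd rfl hne
          · simp only [if_true, Bool.false_eq_true, if_false, one_mul] at hst'
            rw [eq_mul_inv_of_mul_eq hst']
            exact mul_mem hc (inv_mem hb)
        · rcases Bool.eq_false_or_eq_true t with rfl | rfl
          · simp only [if_true, Bool.false_eq_true, if_false, one_mul] at hst'
            rw [eq_mul_inv_of_mul_eq hst'.symm]
            exact mul_mem hb (inv_mem hc)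
          · exact absurd rfl hne
      subst hbc
      have := mul_left_cancel hst'
      rw [Prod.mk.injEq]
      exact ⟨rfl, Subtype.ext this⟩
    have := Nat.card_le_card_of_injective F hF
    rwa [Nat.card_prod, Nat.card_eq_fintype_card, Fintype.card_bool] at this
  have h6 : Nat.card B = 2 * Nat.card ↥(Y ⊓ p.D) := h3
  rw [h6, h2] at hinj
  omega

/-- `A` normalises `E` -/
theorem conj_A [Finite G] (e : EData h Y W) {A : Subgroup G} {a : G} (p : Pair Q z A a)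
    (ha : p.va ∈ Y) (hD : Nat.card p.D = Nat.card Y) {f : h.V ≃ₗ[ZMod 2] h.V} (hf : f ∈ W) (h1 : f ≠ 1)
    (hX : f ∈ p.X) {x g : G} (hx : x ∈ E h Y W) (hg : g ∈ A) : g * x * g⁻¹ ∈ E h Y W := by
  have haY : a ∈ Yg h Y := ⟨p.a_mem, ha⟩
  have haE : a ∈ E h Y W := e.Yg_le_E haY
  have hxa : x * a = a * x := hx.2.2 a haY
  have hw : g * x * g⁻¹ * x⁻¹ ∈ A := by
    have h2 : x * g⁻¹ * x⁻¹ ∈ A := p.la.conj_mem x hxa _ (inv_mem hg)
    have h3 : g * x * g⁻¹ * x⁻¹ = g * (x * g⁻¹ * x⁻¹) := by group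
    rw [h3]; exact mul_mem hg h2
  have hwE : g * x * g⁻¹ * x⁻¹ ∈ E h Y W := by
    refine self_perp p.la haE (fun s hs _ t ht _ => e.comm_E hs ht) ?_ hw ?_
    · rw [card_V_eq p, ← e.card_sq]
      exact Nat.mul_le_mul (e.card_V_le_E p ha hD hf h1 hX) (e.card_V_le_E p ha hD hf h1 hX)
    · intro b hbE hbA
      -- `g⁻¹ b g = b` or `b a`
      have hbx : b * x = x * b := e.comm_E hbE hx
      have hga : g * a = a * g := p.la.comm_z g hg
      have hba : b * a = a * b := p.la.comm_z b hbA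
      rcases p.la.comm g hg b hbA with h2 | h2
      · have h3 : g⁻¹ * b = b * g⁻¹ := by
          rw [inv_mul_eq_iff_eq_mul, ← mul_assoc, h2, mul_assoc, mul_inv_cancel, mul_one]
        have h4 : x⁻¹ * b = b * x⁻¹ := by
          rw [inv_mul_eq_iff_eq_mul, ← mul_assoc, ← hbx, mul_assoc, mul_inv_cancel, mul_one]
        calc g * x * g⁻¹ * x⁻¹ * b = g * x * g⁻¹ * (x⁻¹ * b) := by group
          _ = g * x * (g⁻¹ * b) * x⁻¹ := by rw [h4]; group
          _ = g * (x * b) * g⁻¹ * x⁻¹ := by rw [h3]; group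
          _ = (g * b) * x * g⁻¹ * x⁻¹ := by rw [← hbx]; group
          _ = b * (g * x * g⁻¹ * x⁻¹) := by rw [h2]; group
      · -- `g b = b g a`
        have h3 : g⁻¹ * b = b * g⁻¹ * a := by
          rw [inv_mul_eq_iff_eq_mul]
          have hgi : g⁻¹ * a = a * g⁻¹ := by
            rw [inv_mul_eq_iff_eq_mul, ← mul_assoc, hga, mul_assoc, mul_inv_cancel, mul_one]
          calc b = b * (a * a) := by rw [p.la.z_sq, mul_one]
            _ = (b * a) * (g * g⁻¹) * a := by group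
            _ = b * (a * g) * g⁻¹ * a := by group
            _ = (b * g * a) * g⁻¹ * a := by rw [← hga]; group
            _ = (g * b) * g⁻¹ * a := by rw [← h2]
            _ = g * (b * g⁻¹ * a) := by group
        have h4 : x⁻¹ * b = b * x⁻¹ := by
          rw [inv_mul_eq_iff_eq_mul, ← mul_assoc, ← hbx, mul_assoc, mul_inv_cancel, mul_one]
        have hxia : a * x⁻¹ = x⁻¹ * a := by
          rw [eq_inv_mul_iff_mul_eq, ← mul_assoc, hxa, mul_assoc, mul_inv_cancel, mul_one]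
        have hgia : a * g⁻¹ = g⁻¹ * a := by
          rw [eq_inv_mul_iff_mul_eq, ← mul_assoc, hga, mul_assoc, mul_inv_cancel, mul_one]
        have haw : ∀ t : G, t ∈ A → a * t = t * a := fun t ht => (p.la.comm_z t ht).symm
        calc g * x * g⁻¹ * x⁻¹ * b = g * x * g⁻¹ * (x⁻¹ * b) := by group
          _ = g * x * (g⁻¹ * b) * x⁻¹ := by rw [h4]; group
          _ = g * (x * b) * g⁻¹ * (a * x⁻¹) := by rw [h3]; group
          _ = (g * b) * x * g⁻¹ * (x⁻¹ * a) := by rw [← hbx, hxia]; group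
          _ = b * g * (a * (x * g⁻¹ * x⁻¹)) * a := by rw [h2]; group
          _ = b * g * ((x * g⁻¹ * x⁻¹) * a) * a := by
              rw [haw _ (p.la.conj_mem x hxa _ (inv_mem hg))]
          _ = b * (g * x * g⁻¹ * x⁻¹) * (a * a) := by group
          _ = b * (g * x * g⁻¹ * x⁻¹) := by rw [p.la.z_sq, mul_one]
  have h5 := mul_mem hwE hx
  rwa [inv_mul_cancel_right] at h5

end EData

end Cfsg.Agent.LargeExtra.KillNine.EGroup
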