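import Cfsg.Agent.LargeExtra.KillNine.Pts

/-!
# The conjugates of `z` in `Q` for `confHN` (helper441, generated)
-/

set_option autoImplicit false
set_option maxRecDepth 1000000

namespace Cfsg.Agent.LargeExtra.KillNine.PtsHN

open Cfsg.Agent.Co2Type.Quad Cfsg.Agent.LargeExtra.Base Cfsg.Agent.LargeExtra.Nine
open Cfsg.Agent.LargeExtra.KillNine.Pts Cfsg.Agent.LargeExtra.KillNine.Codes

variable {G : Type*} [Group G] {Q A : Subgroup G} {z a : G}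

def g0 : List ℕ := [1,2,4,9,144,36,66,128]
def g1 : List ℕ := [1,2,5,8,88,40,64,131]
def g2 : List ℕ := [1,3,4,8,60,32,73,133]
def g3 : List ℕ := [129,6,4,24,16,32,96,128]
def g4 : List ℕ := [15,2,4,8,16,48,88,148]
def g5 : List ℕ := [73,10,20,8,16,32,64,176]
def g6 : List ℕ := [1,10,12,8,16,40,64,234]

/-- the points of `confHN` -/
def orb : List ℕ := [
    1, 14, 15, 16, 18, 22, 26, 33, 37, 41, 44, 55, 59, 60, 63, 64, 66, 73, 74, 82, 88, 90, 95, 96,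
    97, 102, 103, 104, 105, 110, 111, 118, 123, 125, 126, 129, 130, 132, 134, 144, 146, 150, 155,
    160, 161, 164, 165, 170, 171, 174, 175, 179, 185, 186, 190, 192, 193, 194, 195, 204, 205, 206,
    207, 208, 217, 219, 220, 224, 230, 235, 236, 240, 249, 250, 252]

def s0_0 : List ℕ := [82,2,5,215,219,243,207,93]
def s0_1 : List ℕ := [130,2,7,213,217,237,193,131]

def T0 : List (ℕ × List ℕ × List ℕ) := [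
  (2,idL,idL), (3,[1,3,4,8,60,32,73,133],[1,3,4,8,60,32,73,133]),
  (6,[129,6,4,24,16,32,96,128],[129,6,4,24,16,32,96,128]),
  (10,[73,10,20,8,16,32,64,176],[73,10,20,8,16,32,64,176]),
  (135,[129,135,4,24,44,32,249,5],[132,7,4,52,60,32,105,133]),
  (13,[15,13,4,8,44,48,95,159],[14,3,4,8,60,28,125,189]),
  (67,[73,67,20,8,44,32,1,237],[64,11,56,8,60,32,73,153]),
  (11,[1,11,12,8,60,40,73,231],[1,11,12,8,60,40,73,231]),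
  (7,[130,7,5,80,88,40,104,131],[129,6,133,24,104,56,96,7]),
  (30,[249,30,20,24,16,32,96,176],[249,30,20,24,16,32,96,176]),
  (133,[130,133,5,80,37,40,186,4],[132,7,128,52,97,20,105,6]),
  (131,[132,131,4,52,44,32,217,5],[132,131,4,52,44,32,217,5]),
  (157,[155,157,4,24,60,48,235,11],[179,7,4,52,60,28,97,189]),
  (231,[249,231,20,24,60,32,129,93],[217,51,56,52,60,32,105,153]),
  (237,[235,237,12,24,44,40,155,13],[132,51,48,52,60,20,105,255]),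
  (12,[14,12,4,9,41,180,220,30],[14,3,4,6,129,24,126,189]),
  (85,[95,85,20,8,60,48,15,255],[123,11,56,8,60,28,125,157]),
  (5,[15,5,12,8,44,56,95,245],[14,11,12,8,60,20,125,215]),
  (65,[74,65,148,9,41,36,1,234],[64,11,56,72,165,24,66,153]),
  (75,[64,75,56,8,44,32,1,225],[64,75,56,8,44,32,1,225]),
  (159,[129,159,28,24,44,56,249,67],[230,7,12,52,60,40,97,231]),
  (9,[150,9,11,72,64,56,96,153],[26,6,133,24,104,80,16,234]),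
  (87,[186,87,93,80,88,40,104,243],[249,30,237,24,104,56,96,87]),
  (51,[217,51,56,52,60,32,105,153],[249,231,20,24,60,32,129,93]),
  (128,[134,128,5,117,37,40,146,4],[132,131,128,52,193,20,217,2]),
  (153,[144,153,4,36,60,48,219,11],[55,131,4,52,44,12,193,45]),
  (243,[164,243,20,36,60,32,161,93],[105,183,40,52,44,32,217,9]),
  (225,[230,225,12,52,44,40,179,13],[132,183,48,52,44,20,217,75]),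
  (28,[26,28,4,153,185,180,236,10],[179,7,4,135,129,24,102,189]),
  (215,[208,215,5,80,125,112,224,11],[179,7,183,52,105,40,97,9]),
  (180,[179,180,4,52,16,28,230,10],[179,180,4,52,16,28,230,10]),
  (245,[235,245,20,24,44,48,155,75],[230,51,56,52,60,28,97,157]),
  (255,[249,255,12,24,60,56,129,3],[179,51,48,52,60,40,97,243]),
  (234,[217,234,56,52,16,32,132,120],[217,234,56,52,16,32,132,120]),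
  (93,[95,93,28,8,60,56,15,157],[123,3,48,8,60,20,125,255]),
  (4,[14,4,12,9,33,222,190,30],[14,5,2,6,129,30,126,222]),
  (112,[123,112,56,8,16,28,14,222],[123,112,56,8,16,28,14,222]),
  (72,[66,72,189,9,41,36,1,231],[64,75,56,72,205,24,74,225]),
  (213,[130,213,85,80,37,120,186,67],[230,7,234,52,105,28,97,6]),
  (183,[132,183,48,52,44,20,217,75],[230,225,12,52,44,40,179,13]),
  (8,[22,8,10,75,66,189,102,24],[26,6,133,2,130,213,22,234]),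
  (115,[146,115,120,117,125,40,97,210],[249,231,237,24,165,56,129,67]),
  (45,[219,45,40,36,44,48,111,131],[18,231,20,24,60,28,165,117]),
  (148,[146,148,11,115,59,56,134,4],[179,131,128,52,193,213,44,67]),
  (176,[174,176,93,45,125,40,170,20],[105,183,65,52,193,20,217,215]),
  (24,[16,24,4,32,185,180,88,10],[55,131,4,3,1,8,66,45]),
  (210,[219,210,5,45,125,112,144,11],[55,131,51,52,217,56,193,153]),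
  (117,[160,117,148,32,185,36,165,222],[105,183,40,93,37,8,110,9]),
  (48,[55,48,4,176,144,157,224,11],[179,180,4,135,26,24,82,10]),
  (20,[18,20,12,243,219,222,134,2],[179,128,131,135,129,159,102,67]),
  (246,[240,246,5,117,88,85,236,10],[179,180,183,52,194,40,230,13]),
  (189,[186,189,13,80,125,120,130,3],[179,51,131,52,105,28,97,115]),
  (222,[217,222,12,52,16,20,132,2],[179,128,48,52,16,40,230,112]),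
  (120,[126,120,13,153,185,189,129,3],[179,51,48,135,207,24,82,243]),
  (80,[207,80,40,24,16,12,26,234],[165,72,56,24,16,28,18,222]),
  (40,[88,40,45,32,41,180,104,131],[18,231,20,10,73,8,66,117]),
  (36,[144,36,32,45,37,112,102,128],[18,231,6,24,129,4,165,128]),
  (52,[171,52,222,40,250,45,175,148],[105,183,65,93,22,85,110,215]),
  (32,[41,32,4,180,132,135,252,5],[132,180,4,135,26,2,207,20]),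
  (56,[63,56,12,210,250,255,130,3],[179,51,131,135,26,159,82,115])]

def L0 : List (List ℕ × List (List ℕ)) := [
  (idL,[]), ([130,2,7,213,217,237,193,131],[s0_1]), ([82,2,5,215,219,243,207,93],[s0_0]),
  ([129,2,135,30,204,255,192,3],[s0_1,s0_1]), ([26,2,133,28,206,246,16,72],[s0_0,s0_1]),
  ([22,2,87,28,206,234,16,148],[s0_0,s0_0]), ([95,2,85,30,204,225,192,13],[s0_1,s0_0]),
  ([74,2,157,9,144,45,66,80],[s0_1,s0_0,s0_1]), ([1,2,4,9,144,36,66,128],[s0_1,s0_1,s0_1]),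
  ([220,2,65,9,66,180,219,131],[s0_0,s0_0,s0_0]), ([14,2,6,11,146,115,217,20],[s0_0,s0_1,s0_1]),
  ([14,2,10,9,66,189,219,24],[s0_0,s0_1,s0_0]), ([150,2,67,11,64,51,146,128],[s0_1,s0_0,s0_0]),
  ([220,2,159,11,146,120,217,93],[s0_0,s0_0,s0_1]), ([15,2,8,11,64,56,146,80],[s0_1,s0_1,s0_0]),
  ([130,2,7,87,90,234,195,131],[s0_1,s0_1,s0_1,s0_1]),
  ([129,2,159,135,207,120,132,93],[s0_1,s0_0,s0_0,s0_0]),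
  ([155,2,157,133,205,112,206,13],[s0_0,s0_0,s0_0,s0_0]),
  ([22,2,10,87,90,189,195,24],[s0_1,s0_0,s0_1,s0_1]),
  ([208,2,215,87,195,231,206,12],[s0_0,s0_1,s0_0,s0_1]),
  ([208,2,7,135,132,183,204,222],[s0_0,s0_1,s0_1,s0_0]),
  ([130,2,215,135,207,255,132,20],[s0_1,s0_1,s0_0,s0_0]),
  ([155,2,4,135,132,48,204,148],[s0_0,s0_0,s0_1,s0_0]),
  ([82,2,213,85,193,225,88,24],[s0_1,s0_1,s0_0,s0_1]),
  ([73,2,67,87,195,176,206,3],[s0_0,s0_0,s0_0,s0_1]),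
  ([208,2,213,133,205,245,206,12],[s0_0,s0_1,s0_0,s0_0]),
  ([82,2,5,133,134,246,205,93],[s0_1,s0_1,s0_1,s0_0]),
  ([95,2,65,85,193,180,88,131],[s0_1,s0_0,s0_0,s0_1]),
  ([26,2,6,133,134,115,205,20],[s0_1,s0_0,s0_1,s0_0]),
  ([208,2,5,85,88,117,204,222],[s0_0,s0_1,s0_1,s0_1]),
  ([73,2,8,85,88,32,204,72],[s0_0,s0_0,s0_1,s0_1]),
  ([74,2,159,65,194,117,66,80],[s0_0,s0_0,s0_0,s0_1,s0_0]),
  ([155,2,135,4,132,48,144,75],[s0_0,s0_1,s0_1,s0_0,s0_1]),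
  ([155,2,30,6,18,243,146,210],[s0_0,s0_1,s0_0,s0_0,s0_1]),
  ([22,2,30,67,192,51,195,12],[s0_1,s0_1,s0_0,s0_1,s0_0]),
  ([155,2,28,159,194,40,146,210],[s0_0,s0_1,s0_0,s0_1,s0_1]),
  ([129,2,28,4,16,36,132,222],[s0_1,s0_1,s0_0,s0_0,s0_1]),
  ([73,2,30,10,18,237,66,210],[s0_0,s0_1,s0_0,s0_0,s0_0]),
  ([15,2,10,6,18,245,146,80],[s0_0,s0_0,s0_0,s0_0,s0_1]),
  ([73,2,85,8,88,32,64,153],[s0_0,s0_1,s0_1,s0_0,s0_0]),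
  ([95,2,28,8,16,56,88,222],[s0_1,s0_1,s0_0,s0_0,s0_0]),
  ([155,2,133,157,205,112,144,75],[s0_0,s0_1,s0_1,s0_1,s0_1]),
  ([150,2,213,157,205,237,144,20],[s0_0,s0_0,s0_1,s0_1,s0_1]),
  ([73,2,28,65,194,52,66,210],[s0_0,s0_1,s0_0,s0_1,s0_0]),
  ([74,2,67,157,192,176,205,3],[s0_1,s0_0,s0_0,s0_1,s0_1]),
  ([220,2,213,65,193,245,194,12],[s0_1,s0_0,s0_1,s0_1,s0_0]),
  ([26,2,133,6,134,115,18,72],[s0_1,s0_1,s0_1,s0_0,s0_1]),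
  ([74,2,215,67,195,243,64,24],[s0_0,s0_0,s0_1,s0_1,s0_0]),
  ([1,2,5,8,88,40,64,131],[s0_0,s0_0,s0_1,s0_0,s0_0]),
  ([15,2,7,4,132,52,144,93],[s0_0,s0_0,s0_1,s0_0,s0_1]),
  ([14,2,7,10,90,183,18,222],[s0_1,s0_0,s0_1,s0_0,s0_0]),
  ([1,2,8,4,16,32,132,72],[s0_1,s0_0,s0_0,s0_0,s0_1]),
  ([15,2,4,8,16,48,88,148],[s0_1,s0_0,s0_0,s0_0,s0_0]),
  ([1,2,6,10,18,231,66,128],[s0_0,s0_0,s0_0,s0_0,s0_0]),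
  ([26,2,30,157,192,45,205,12],[s0_1,s0_1,s0_0,s0_1,s0_1]),
  ([95,2,85,65,193,180,194,13],[s0_1,s0_1,s0_1,s0_1,s0_0]),
  ([129,2,135,159,207,120,194,3],[s0_1,s0_1,s0_1,s0_1,s0_1]),
  ([22,2,87,10,90,189,18,148],[s0_1,s0_1,s0_1,s0_0,s0_0]),
  ([73,2,87,67,195,176,64,153],[s0_0,s0_1,s0_1,s0_1,s0_0]),
  ([14,2,5,6,134,117,18,222],[s0_1,s0_0,s0_1,s0_0,s0_1]),
  ([150,2,65,159,194,183,146,128],[s0_0,s0_0,s0_0,s0_1,s0_1]),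
  ([220,2,215,159,207,231,194,12],[s0_1,s0_0,s0_1,s0_1,s0_1]),
  ([150,2,157,67,192,112,195,13],[s0_1,s0_0,s0_0,s0_1,s0_0]),
  ([26,2,4,157,144,176,205,20],[s0_0,s0_0,s0_0,s0_1,s0_0,s0_0]),
  ([15,2,9,5,219,246,88,153],[s0_0,s0_1,s0_0,s0_0,s0_1,s0_1]),
  ([82,2,87,215,195,36,207,13],[s0_0,s0_0,s0_1,s0_0,s0_0,s0_0]),
  ([22,2,65,10,66,183,18,128],[s0_1,s0_0,s0_0,s0_1,s0_1,s0_1]),
  ([208,2,133,5,134,112,219,75],[s0_1,s0_0,s0_1,s0_0,s0_1,s0_1]),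
  ([15,2,8,4,16,48,144,80],[s0_1,s0_1,s0_1,s0_1,s0_1,s0_0]),
  ([95,2,10,65,66,245,194,80],[s0_1,s0_0,s0_0,s0_1,s0_0,s0_1]),
  ([130,2,213,7,217,237,132,20],[s0_0,s0_0,s0_0,s0_0,s0_1,s0_0]),
  ([74,2,65,159,194,117,207,3],[s0_0,s0_1,s0_1,s0_1,s0_0,s0_0]),
  ([74,2,9,157,144,45,205,75],[s0_0,s0_1,s0_0,s0_1,s0_0,s0_0]),
  ([208,2,85,213,193,32,217,153],[s0_1,s0_0,s0_1,s0_0,s0_0,s0_0]),
  ([14,2,10,7,90,183,217,24],[s0_1,s0_1,s0_1,s0_0,s0_1,s0_0]),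
  ([220,2,65,213,193,245,217,131],[s0_1,s0_1,s0_1,s0_0,s0_0,s0_0]),
  ([73,2,28,8,16,40,64,210],[s0_1,s0_0,s0_1,s0_1,s0_1,s0_1]),
  ([155,2,30,157,192,237,144,210],[s0_1,s0_0,s0_1,s0_1,s0_0,s0_0]),
  ([150,2,159,65,194,183,193,13],[s0_0,s0_1,s0_1,s0_1,s0_0,s0_1]),
  ([1,2,11,7,217,234,132,75],[s0_0,s0_1,s0_0,s0_0,s0_1,s0_0]),
  ([129,2,157,4,144,32,132,93],[s0_0,s0_0,s0_0,s0_1,s0_1,s0_0]),
  ([95,2,30,10,18,255,90,222],[s0_0,s0_0,s0_1,s0_1,s0_1,s0_1]),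
  ([73,2,30,67,192,243,64,210],[s0_1,s0_0,s0_1,s0_1,s0_0,s0_1]),
  ([150,2,67,157,192,112,144,128],[s0_1,s0_1,s0_1,s0_1,s0_0,s0_0]),
  ([220,2,159,215,207,231,219,93],[s0_1,s0_1,s0_1,s0_0,s0_0,s0_1]),
  ([74,2,157,67,192,176,64,80],[s0_1,s0_1,s0_1,s0_1,s0_0,s0_1]),
  ([95,2,67,8,64,48,88,131],[s0_0,s0_0,s0_0,s0_1,s0_1,s0_1]),
  ([155,2,28,4,16,52,144,210],[s0_1,s0_0,s0_1,s0_1,s0_1,s0_0]),
  ([1,2,8,5,88,40,134,72],[s0_0,s0_1,s0_1,s0_0,s0_1,s0_0]),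
  ([208,2,87,7,90,176,217,153],[s0_1,s0_0,s0_1,s0_0,s0_1,s0_0]),
  ([15,2,11,8,64,56,88,153],[s0_0,s0_1,s0_0,s0_1,s0_1,s0_1]),
  ([150,2,11,67,64,51,195,153],[s0_0,s0_1,s0_0,s0_1,s0_0,s0_1]),
  ([220,2,9,65,66,180,194,210],[s0_1,s0_1,s0_0,s0_1,s0_0,s0_1]),
  ([130,2,5,215,219,40,195,131],[s0_0,s0_0,s0_0,s0_0,s0_0,s0_1]),
  ([14,2,11,6,146,115,18,210],[s0_1,s0_1,s0_0,s0_1,s0_1,s0_0]),
  ([1,2,9,4,144,36,132,75],[s0_0,s0_1,s0_0,s0_1,s0_1,s0_0]),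
  ([1,2,10,6,18,231,134,72],[s0_0,s0_1,s0_1,s0_1,s0_1,s0_0]),
  ([82,2,215,5,219,243,88,24],[s0_0,s0_0,s0_0,s0_0,s0_1,s0_1]),
  ([220,2,11,159,146,120,194,210],[s0_1,s0_1,s0_0,s0_1,s0_0,s0_0]),
  ([150,2,9,215,219,255,195,153],[s0_0,s0_1,s0_0,s0_0,s0_0,s0_1]),
  ([22,2,8,67,64,112,195,24],[s0_0,s0_0,s0_0,s0_1,s0_0,s0_1]),
  ([150,2,157,213,205,237,193,13],[s0_0,s0_1,s0_1,s0_0,s0_0,s0_1]),
  ([26,2,28,159,194,234,207,12],[s0_0,s0_0,s0_1,s0_1,s0_0,s0_0]),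
  ([26,2,159,6,146,117,18,80],[s0_1,s0_0,s0_0,s0_1,s0_1,s0_0]),
  ([82,2,7,213,217,52,205,93],[s0_0,s0_0,s0_0,s0_0,s0_0,s0_0]),
  ([129,2,6,159,146,231,194,128],[s0_1,s0_0,s0_0,s0_1,s0_0,s0_0]),
  ([22,2,28,65,194,246,193,12],[s0_0,s0_0,s0_1,s0_1,s0_0,s0_1]),
  ([82,2,135,7,132,51,90,72],[s0_0,s0_0,s0_1,s0_0,s0_1,s0_1]),
  ([15,2,6,10,18,245,90,148],[s0_0,s0_1,s0_1,s0_1,s0_1,s0_1]),
  ([74,2,67,215,195,243,207,3],[s0_0,s0_1,s0_1,s0_0,s0_0,s0_0]),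
  ([129,2,30,6,18,225,134,222],[s0_0,s0_0,s0_1,s0_1,s0_1,s0_0]),
  ([14,2,6,5,134,117,219,20],[s0_1,s0_1,s0_1,s0_0,s0_1,s0_1]),
  ([74,2,11,213,217,225,205,75],[s0_0,s0_1,s0_0,s0_0,s0_0,s0_0]),
  ([130,2,85,5,88,45,134,148],[s0_0,s0_0,s0_1,s0_0,s0_1,s0_0]),
  ([208,2,135,215,207,48,219,75],[s0_1,s0_0,s0_1,s0_0,s0_0,s0_1]),
  ([130,2,133,213,205,56,193,3],[s0_0,s0_0,s0_1,s0_0,s0_0,s0_1]),
  ([14,2,9,10,66,189,18,210],[s0_1,s0_1,s0_0,s0_1,s0_1,s0_1]),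
  ([15,2,4,7,132,52,90,148],[s0_0,s0_1,s0_1,s0_0,s0_1,s0_1]),
  ([208,2,135,7,132,183,217,75],[s0_1,s0_1,s0_0,s0_1,s0_1,s0_0,s0_0]),
  ([129,2,159,6,146,231,134,93],[s0_1,s0_1,s0_1,s0_1,s0_0,s0_0,s0_0]),
  ([220,2,157,213,205,32,217,93],[s0_1,s0_0,s0_0,s0_1,s0_1,s0_1,s0_0]),
  ([150,2,159,215,207,40,195,13],[s0_0,s0_0,s0_0,s0_1,s0_1,s0_1,s0_0]),
  ([150,2,9,65,66,246,193,153],[s0_1,s0_0,s0_1,s0_1,s0_0,s0_1,s0_1]),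
  ([130,2,5,85,88,45,193,131],[s0_0,s0_1,s0_1,s0_0,s0_1,s0_1,s0_0]),
  ([15,2,9,10,66,255,90,153],[s0_1,s0_0,s0_1,s0_1,s0_0,s0_0,s0_1]),
  ([130,2,135,215,207,255,195,3],[s0_0,s0_1,s0_0,s0_1,s0_1,s0_1,s0_0]),
  ([82,2,87,133,206,115,205,13],[s0_0,s0_1,s0_0,s0_0,s0_1,s0_1,s0_1]),
  ([1,2,9,5,219,45,134,75],[s0_0,s0_0,s0_1,s0_1,s0_1,s0_0,s0_1]),
  ([26,2,159,28,194,234,16,80],[s0_0,s0_0,s0_1,s0_0,s0_0,s0_0,s0_1]),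
  ([14,2,8,5,88,112,219,24],[s0_1,s0_0,s0_0,s0_1,s0_1,s0_0,s0_1]),
  ([14,2,9,4,144,180,16,210],[s0_0,s0_0,s0_1,s0_1,s0_0,s0_0,s0_0]),
  ([73,2,10,87,90,231,206,72],[s0_1,s0_0,s0_1,s0_0,s0_1,s0_1,s0_0]),
  ([129,2,133,28,206,56,194,3],[s0_0,s0_0,s0_0,s0_0,s0_0,s0_1,s0_1]),
  ([208,2,213,85,193,32,204,12],[s0_1,s0_1,s0_1,s0_0,s0_1,s0_0,s0_0]),
  ([220,2,11,67,64,115,192,210],[s0_0,s0_0,s0_1,s0_1,s0_0,s0_1,s0_1]),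
  ([155,2,4,28,16,52,206,148],[s0_1,s0_0,s0_1,s0_0,s0_0,s0_1,s0_1]),
  ([130,2,213,133,205,56,134,20],[s0_0,s0_1,s0_1,s0_0,s0_1,s0_0,s0_1]),
  ([82,2,7,135,132,51,207,93],[s0_0,s0_1,s0_1,s0_0,s0_1,s0_1,s0_1]),
  ([129,2,157,133,205,189,134,93],[s0_0,s0_0,s0_1,s0_0,s0_1,s0_0,s0_1]),
  ([14,2,11,8,64,120,16,210],[s0_0,s0_0,s0_1,s0_1,s0_0,s0_0,s0_1]),
  ([150,2,11,213,217,56,193,153],[s0_0,s0_0,s0_1,s0_1,s0_1,s0_1,s0_0]),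
  ([22,2,67,8,64,112,16,128],[s0_0,s0_1,s0_1,s0_1,s0_0,s0_0,s0_1]),
  ([15,2,6,5,134,243,88,148],[s0_0,s0_0,s0_0,s0_1,s0_1,s0_0,s0_0]),
  ([208,2,5,133,134,112,206,222],[s0_1,s0_1,s0_1,s0_0,s0_1,s0_1,s0_1]),
  ([155,2,159,135,207,183,204,13],[s0_1,s0_0,s0_1,s0_0,s0_1,s0_0,s0_1]),
  ([220,2,67,215,195,48,219,131],[s0_1,s0_0,s0_0,s0_1,s0_1,s0_1,s0_1]),
  ([95,2,87,28,206,36,194,13],[s0_0,s0_0,s0_0,s0_0,s0_0,s0_1,s0_0]),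
  ([82,2,213,7,217,52,90,24],[s0_0,s0_1,s0_1,s0_1,s0_1,s0_0,s0_0]),
  ([74,2,11,159,146,234,207,75],[s0_1,s0_0,s0_1,s0_1,s0_0,s0_1,s0_0]),
  ([22,2,8,85,88,120,193,24],[s0_0,s0_0,s0_1,s0_0,s0_1,s0_1,s0_0]),
  ([26,2,135,30,204,51,18,72],[s0_0,s0_0,s0_0,s0_0,s0_0,s0_0,s0_1]),
  ([15,2,11,7,217,51,90,153],[s0_0,s0_0,s0_1,s0_1,s0_1,s0_0,s0_0]),
  ([74,2,9,215,219,36,207,75],[s0_0,s0_0,s0_1,s0_1,s0_1,s0_1,s0_1]),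
  ([208,2,7,87,90,176,206,222],[s0_1,s0_1,s0_1,s0_0,s0_1,s0_1,s0_0]),
  ([208,2,215,135,207,48,204,12],[s0_1,s0_1,s0_1,s0_0,s0_1,s0_0,s0_1]),
  ([22,2,10,65,66,183,193,24],[s0_1,s0_1,s0_1,s0_1,s0_0,s0_1,s0_1]),
  ([26,2,28,133,206,246,205,12],[s0_0,s0_0,s0_0,s0_0,s0_1,s0_1,s0_1]),
  ([155,2,157,30,192,237,204,13],[s0_1,s0_0,s0_1,s0_0,s0_0,s0_0,s0_1]),
  ([82,2,215,87,195,36,90,24],[s0_0,s0_1,s0_1,s0_0,s0_1,s0_0,s0_0]),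
  ([155,2,6,133,134,245,206,148],[s0_1,s0_0,s0_1,s0_0,s0_1,s0_1,s0_1]),
  ([130,2,87,7,90,234,132,148],[s0_0,s0_1,s0_0,s0_1,s0_1,s0_0,s0_1]),
  ([26,2,6,159,146,117,207,20],[s0_1,s0_1,s0_1,s0_1,s0_0,s0_1,s0_0]),
  ([22,2,85,30,204,45,18,148],[s0_0,s0_0,s0_0,s0_0,s0_0,s0_0,s0_0]),
  ([95,2,30,85,204,225,88,222],[s0_0,s0_0,s0_0,s0_0,s0_1,s0_0,s0_0]),
  ([26,2,157,4,144,176,16,80],[s0_0,s0_1,s0_1,s0_1,s0_0,s0_0,s0_0]),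
  ([129,2,6,30,18,225,192,128],[s0_0,s0_0,s0_1,s0_0,s0_0,s0_1,s0_1]),
  ([208,2,133,213,205,245,217,75],[s0_1,s0_1,s0_0,s0_1,s0_1,s0_1,s0_0]),
  ([130,2,215,5,219,40,134,20],[s0_0,s0_1,s0_1,s0_1,s0_1,s0_0,s0_1]),
  ([130,2,85,135,204,120,132,148],[s0_0,s0_1,s0_0,s0_0,s0_1,s0_0,s0_1]),
  ([73,2,65,85,193,117,204,3],[s0_1,s0_0,s0_1,s0_0,s0_1,s0_0,s0_0]),
  ([208,2,85,5,88,117,219,153],[s0_1,s0_1,s0_0,s0_1,s0_1,s0_0,s0_1]),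
  ([82,2,133,5,134,246,88,72],[s0_0,s0_1,s0_0,s0_1,s0_1,s0_0,s0_0]),
  ([95,2,67,87,195,115,90,131],[s0_0,s0_0,s0_1,s0_0,s0_1,s0_0,s0_0]),
  ([73,2,8,28,16,40,206,72],[s0_1,s0_0,s0_1,s0_0,s0_0,s0_1,s0_0]),
  ([95,2,8,67,64,48,192,80],[s0_0,s0_1,s0_1,s0_1,s0_0,s0_1,s0_1]),
  ([82,2,85,213,193,225,205,13],[s0_0,s0_1,s0_0,s0_1,s0_1,s0_1,s0_1]),
  ([14,2,4,7,132,176,217,20],[s0_1,s0_0,s0_0,s0_1,s0_1,s0_0,s0_0]),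
  ([1,2,11,6,146,225,134,75],[s0_1,s0_0,s0_1,s0_1,s0_0,s0_0,s0_0]),
  ([129,2,4,157,144,32,192,128],[s0_0,s0_1,s0_1,s0_1,s0_0,s0_1,s0_0]),
  ([130,2,133,87,206,189,195,3],[s0_0,s0_1,s0_0,s0_0,s0_1,s0_1,s0_0]),
  ([129,2,30,135,204,255,132,222],[s0_0,s0_0,s0_0,s0_0,s0_1,s0_0,s0_1]),
  ([74,2,65,213,193,52,205,3],[s0_0,s0_0,s0_0,s0_1,s0_1,s0_1,s0_1]),
  ([22,2,28,87,206,234,195,12],[s0_0,s0_0,s0_0,s0_0,s0_1,s0_1,s0_0]),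
  ([208,2,87,215,195,231,219,153],[s0_1,s0_1,s0_0,s0_1,s0_1,s0_1,s0_1]),
  ([95,2,65,10,66,245,90,131],[s0_1,s0_1,s0_1,s0_1,s0_0,s0_0,s0_1]),
  ([1,2,10,7,90,237,132,72],[s0_0,s0_0,s0_0,s0_1,s0_1,s0_0,s0_1]),
  ([82,2,135,85,204,180,88,72],[s0_0,s0_1,s0_0,s0_0,s0_1,s0_0,s0_0]),
  ([220,2,9,157,144,189,192,210],[s0_0,s0_0,s0_1,s0_1,s0_0,s0_1,s0_0]),
  ([22,2,65,28,194,246,16,128],[s0_0,s0_0,s0_1,s0_0,s0_0,s0_0,s0_0]),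
  ([95,2,10,30,18,255,192,80],[s0_0,s0_0,s0_1,s0_0,s0_0,s0_1,s0_0]),
  ([73,2,67,30,192,243,204,3],[s0_1,s0_0,s0_1,s0_0,s0_0,s0_0,s0_0]),
  ([26,2,4,135,132,180,207,20],[s0_0,s0_0,s0_1,s0_0,s0_1,s0_1,s0_1]),
  ([150,2,65,9,66,246,144,128],[s0_0,s0_0,s0_0,s0_0,s0_0,s0_1,s0_0,s0_0]),
  ([155,2,159,28,194,40,206,13],[s0_1,s0_0,s0_0,s0_1,s0_1,s0_1,s0_1,s0_0]),
  ([129,2,133,157,205,189,192,3],[s0_0,s0_1,s0_1,s0_0,s0_1,s0_1,s0_0,s0_1]),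
  ([82,2,133,87,206,115,90,72],[s0_0,s0_0,s0_1,s0_1,s0_1,s0_0,s0_1,s0_0]),
  ([1,2,6,11,146,225,64,128],[s0_0,s0_0,s0_0,s0_0,s0_0,s0_1,s0_1,s0_1]),
  ([14,2,8,11,64,120,217,24],[s0_0,s0_0,s0_0,s0_0,s0_0,s0_0,s0_1,s0_0]),
  ([22,2,67,30,192,51,18,128],[s0_0,s0_0,s0_0,s0_1,s0_1,s0_1,s0_1,s0_1]),
  ([22,2,85,8,88,120,16,148],[s0_0,s0_1,s0_1,s0_0,s0_1,s0_1,s0_1,s0_0]),
  ([73,2,87,10,90,231,66,153],[s0_0,s0_0,s0_1,s0_1,s0_0,s0_1,s0_0,s0_1]),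
  ([95,2,28,87,206,36,90,222],[s0_0,s0_1,s0_1,s0_1,s0_1,s0_0,s0_1,s0_0]),
  ([130,2,135,85,204,120,193,3],[s0_0,s0_0,s0_1,s0_1,s0_1,s0_0,s0_0,s0_0]),
  ([129,2,28,133,206,56,134,222],[s0_0,s0_1,s0_1,s0_1,s0_1,s0_0,s0_1,s0_1]),
  ([220,2,213,157,205,32,192,12],[s0_0,s0_0,s0_1,s0_0,s0_1,s0_1,s0_0,s0_1]),
  ([220,2,215,67,195,48,192,12],[s0_0,s0_0,s0_1,s0_0,s0_1,s0_1,s0_0,s0_0]),
  ([26,2,157,30,192,45,18,80],[s0_0,s0_0,s0_0,s0_1,s0_1,s0_1,s0_1,s0_0]),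
  ([15,2,10,9,66,255,144,80],[s0_0,s0_0,s0_0,s0_0,s0_0,s0_1,s0_1,s0_0]),
  ([73,2,10,30,18,237,204,72],[s0_1,s0_0,s0_0,s0_1,s0_1,s0_1,s0_0,s0_1]),
  ([150,2,213,11,217,56,146,20],[s0_0,s0_0,s0_1,s0_0,s0_0,s0_1,s0_0,s0_0]),
  ([95,2,8,28,16,56,194,80],[s0_0,s0_0,s0_0,s0_1,s0_1,s0_1,s0_0,s0_1]),
  ([74,2,213,65,193,52,66,24],[s0_0,s0_1,s0_1,s0_1,s0_0,s0_1,s0_1,s0_1]),
  ([14,2,5,8,88,112,16,222],[s0_0,s0_0,s0_1,s0_0,s0_1,s0_1,s0_1,s0_0]),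
  ([14,2,4,9,144,180,219,20],[s0_0,s0_0,s0_0,s0_0,s0_0,s0_0,s0_1,s0_1]),
  ([22,2,30,85,204,45,193,12],[s0_0,s0_1,s0_1,s0_1,s0_1,s0_0,s0_0,s0_0]),
  ([155,2,133,6,134,245,146,75],[s0_0,s0_0,s0_1,s0_1,s0_0,s0_1,s0_0,s0_0]),
  ([220,2,157,9,144,189,219,93],[s0_0,s0_0,s0_0,s0_0,s0_0,s0_0,s0_0,s0_1]),
  ([15,2,5,6,134,243,146,93],[s0_0,s0_1,s0_1,s0_1,s0_0,s0_1,s0_0,s0_0]),
  ([73,2,65,28,194,52,206,3],[s0_1,s0_0,s0_0,s0_1,s0_1,s0_1,s0_1,s0_1]),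
  ([26,2,30,135,204,51,207,12],[s0_0,s0_1,s0_1,s0_1,s0_1,s0_0,s0_0,s0_1]),
  ([95,2,87,67,195,115,192,13],[s0_0,s0_1,s0_1,s0_0,s0_1,s0_1,s0_0,s0_0]),
  ([82,2,85,135,204,180,207,13],[s0_0,s0_0,s0_1,s0_1,s0_1,s0_0,s0_0,s0_1]),
  ([14,2,7,4,132,176,16,222],[s0_0,s0_0,s0_1,s0_0,s0_1,s0_1,s0_1,s0_1]),
  ([74,2,159,11,146,234,64,80],[s0_0,s0_0,s0_0,s0_0,s0_0,s0_1,s0_0,s0_1]),
  ([1,2,7,10,90,237,66,131],[s0_0,s0_1,s0_1,s0_1,s0_0,s0_1,s0_0,s0_1]),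
  ([74,2,215,9,219,36,66,24],[s0_0,s0_0,s0_1,s0_0,s0_0,s0_1,s0_0,s0_1]),
  ([220,2,67,11,64,115,217,131],[s0_0,s0_0,s0_0,s0_0,s0_0,s0_0,s0_0,s0_0]),
  ([73,2,85,65,193,117,66,153],[s0_0,s0_0,s0_1,s0_1,s0_0,s0_1,s0_1,s0_1]),
  ([130,2,87,133,206,189,134,148],[s0_0,s0_0,s0_1,s0_1,s0_1,s0_0,s0_1,s0_1]),
  ([15,2,7,11,217,51,146,93],[s0_0,s0_0,s0_1,s0_0,s0_0,s0_1,s0_1,s0_0]),
  ([155,2,135,159,207,183,146,75],[s0_0,s0_0,s0_1,s0_1,s0_0,s0_1,s0_1,s0_0]),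
  ([150,2,215,159,207,40,146,20],[s0_0,s0_1,s0_1,s0_1,s0_0,s0_1,s0_1,s0_0]),
  ([155,2,6,30,18,243,204,148],[s0_1,s0_0,s0_0,s0_1,s0_1,s0_1,s0_0,s0_0]),
  ([1,2,5,9,219,45,66,131],[s0_0,s0_0,s0_1,s0_0,s0_0,s0_1,s0_1,s0_1]),
  ([26,2,135,4,132,180,16,72],[s0_0,s0_1,s0_1,s0_0,s0_1,s0_1,s0_1,s0_1]),
  ([129,2,4,28,16,36,194,128],[s0_0,s0_0,s0_0,s0_1,s0_1,s0_1,s0_0,s0_0]),
  ([74,2,213,11,217,225,64,24],[s0_0,s0_0,s0_0,s0_1,s0_1,s0_1,s0_0,s0_1,s0_1]),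
  ([1,2,7,11,217,234,64,131],[s0_0,s0_0,s0_0,s0_1,s0_1,s0_1,s0_0,s0_0,s0_1]),
  ([150,2,215,9,219,255,144,20],[s0_0,s0_0,s0_0,s0_1,s0_1,s0_1,s0_0,s0_1,s0_0]),
  ([15,2,5,9,219,246,144,93],[s0_0,s0_0,s0_0,s0_1,s0_1,s0_1,s0_0,s0_0,s0_0])]

def W0 : List (ℕ × List (List ℕ)) := [
  (2,[]), (3,[g2]), (6,[g3]), (10,[g5]), (135,[g2,g3]), (13,[g2,g4]), (67,[g2,g5]), (7,[g3,g1]),
  (30,[g3,g5]), (11,[g5,g0]), (133,[g2,g3,g1]), (131,[g2,g3,g2]), (157,[g2,g3,g4]),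
  (231,[g2,g3,g5]), (12,[g2,g4,g0]), (85,[g2,g4,g5]), (65,[g2,g5,g0]), (75,[g2,g5,g2]),
  (9,[g3,g1,g4]), (87,[g3,g1,g5]), (159,[g3,g5,g0]), (51,[g3,g5,g2]), (5,[g5,g0,g4]),
  (128,[g2,g3,g1,g2]), (237,[g2,g3,g1,g5]), (153,[g2,g3,g2,g4]), (243,[g2,g3,g2,g5]),
  (28,[g2,g3,g4,g0]), (215,[g2,g3,g4,g1]), (180,[g2,g3,g4,g2]), (245,[g2,g3,g4,g5]),
  (225,[g2,g3,g5,g0]), (234,[g2,g3,g5,g2]), (112,[g2,g4,g5,g2]), (72,[g2,g5,g0,g2]),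
  (255,[g2,g5,g2,g3]), (93,[g2,g5,g2,g4]), (8,[g3,g1,g4,g0]), (213,[g3,g1,g5,g0]),
  (115,[g3,g1,g5,g2]), (183,[g3,g5,g0,g2]), (45,[g3,g5,g2,g4]), (4,[g5,g0,g4,g1]),
  (148,[g2,g3,g1,g2,g4]), (176,[g2,g3,g1,g2,g5]), (24,[g2,g3,g2,g4,g0]), (210,[g2,g3,g2,g4,g1]),
  (117,[g2,g3,g2,g5,g0]), (48,[g2,g3,g4,g0,g2]), (246,[g2,g3,g4,g1,g2]), (222,[g2,g3,g5,g2,g3]),
  (80,[g2,g4,g5,g2,g3]), (120,[g2,g4,g5,g2,g4]), (189,[g2,g5,g2,g3,g1]), (20,[g2,g5,g2,g4,g1]),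
  (40,[g3,g5,g2,g4,g0]), (36,[g3,g5,g2,g4,g1]), (52,[g2,g3,g1,g2,g5,g0]), (32,[g2,g3,g4,g0,g2,g4]),
  (56,[g2,g4,g5,g2,g4,g1])]

def t0 : PtData where
  r := 2
  T := T0
  S := [s0_0, s0_1]
  L := L0
  W := W0
  C := [([g0,g1,g4], [g4,g0,g1]), ([g0], [g0])]

theorem check0 : PtCheck (confHN.X ++ confHN.N ++ confHN.M) (confHN.X ++ confHN.N) t0 := by
  constructor <;> decide +kernel

theorem cover : ∀ n ∈ List.range 256, n ≠ 0 → qs (vec n) = 0 → n ∈ orb ∨ n ∈ t0.W.map (fun w => w.1) := by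
  decide +kernel

/-- every conjugate of `z` in `Q` lies over a point of `orb` -/
theorem pts [Finite G] (p : Pair Q z A a) (φ : Coord p.lz) (hc : IsConf p φ confHN) (x : Q)
    (hx : IsConj z (x : G)) (hx0 : p.lz.pr x ≠ 0) : ∃ n ∈ orb, φ.e (p.lz.pr x) = vec n := by
  obtain ⟨n, hn, hnv⟩ := exists_code (φ.e (p.lz.pr x))
  obtain ⟨A', p', hp'⟩ := pair_of_isConj p x hx hx0
  have hq0 : qs (vec n) = 0 := by rw [← hnv, ← φ.q]; exact hp' ▸ p'.q_D p'.va_mem_D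
  have hn0 : n ≠ 0 := by
    rintro rfl
    rw [vec_zero] at hnv
    exact hx0 (φ.e.map_eq_zero_iff.1 hnv)
  rcases cover n (List.mem_range.2 hn) hn0 hq0 with h1 | h1
  · exact ⟨n, h1, hnv⟩
  · exfalso
    obtain ⟨w, hw, rfl⟩ := List.mem_map.1 h1
    exact no_pair p φ hc check0 p' ⟨w, hw, by rw [hp', hnv]⟩

end Cfsg.Agent.LargeExtra.KillNine.PtsHN
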