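import Cfsg.Agent.LargeExtra.KillNine.EGroup

/-!
# The kill lemma: `|z^M| ∈ {67, 83, 99, 115}` (helper441)
-/

set_option autoImplicit false

namespace Cfsg.Agent.LargeExtra.KillNine.Sixtyseven

open Cfsg.Agent.Co2Type.Quad Cfsg.Agent.LargeExtra.Base Cfsg.Agent.LargeExtra.KillNine.EGroup

/-! ### divisibility -/

/-- An orbit of a group of automorphisms of a group of order `2 ^ 7` has order prime to `p`, if `p` divides no
`2 ^ 7 - 2 ^ k`, `k < 7`. -/
theorem not_dvd {M E : Type*} [Group M] [Finite M] [Group E] [MulDistribMulAction M E]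
    (hE : Nat.card E = 2 ^ 7) (x : E) {p : ℕ} (hp : p.Prime) (hk : ∀ k < 7, ¬ p ∣ 2 ^ 7 - 2 ^ k) :
    ¬ p ∣ (MulAction.orbit M x).ncard := by
  have hEfin : Finite E := Nat.finite_of_card_ne_zero (by rw [hE]; norm_num)
  have := Fact.mk hp
  obtain ⟨S⟩ : Nonempty (Sylow p M) := inferInstance
  have h1 := S.2.card_modEq_card_fixedPoints (α := E)
  let F : Subgroup E := FixedPoints.subgroup S E
  have h2 : Nat.card (MulAction.fixedPoints S E) = Nat.card F := rfl
  obtain ⟨k, hk7, hkF⟩ : ∃ k ≤ 7, Nat.card F = 2 ^ k := by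
    have := Subgroup.card_subgroup_dvd_card F
    rw [hE] at this
    exact (Nat.dvd_prime_pow Nat.prime_two).1 this
  have h3 : k = 7 := by
    by_contra hne
    have hlt : k < 7 := lt_of_le_of_ne hk7 hne
    apply hk k hlt
    rw [h2, hkF, hE] at h1
    exact (Nat.modEq_iff_dvd' (Nat.pow_le_pow_right (by norm_num) hk7)).1 h1.symm
  have h4 : F = ⊤ := by
    apply Subgroup.eq_top_of_card_eq
    rw [hkF, h3, hE]
  have h5 : (S : Subgroup M) ≤ MulAction.stabilizer M x := by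
    intro s hs
    have h6 : x ∈ F := by rw [h4]; trivial
    exact h6 ⟨s, hs⟩
  rw [← MulAction.index_stabilizer]
  intro hdvd
  exact S.not_dvd_index (hdvd.trans (Subgroup.index_dvd_of_le h5))

section

variable {G : Type*} [Group G] {Q : Subgroup G} {z : G}

/-- the orbit `z^M`, `M = N_G(E)` -/
def Orb (E : Subgroup G) (z : G) : Set G :=
  {x | ∃ m ∈ Subgroup.normalizer (E : Set G), m * z * m⁻¹ = x}

theorem orb_not_dvd [Finite G] {E : Subgroup G} (hE : Nat.card E = 2 ^ 7) (hz : z ∈ E) {p : ℕ}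
    (hp : p.Prime) (hk : ∀ k < 7, ¬ p ∣ 2 ^ 7 - 2 ^ k) : ¬ p ∣ (Orb E z).ncard := by
  let M : Subgroup G := Subgroup.normalizer (E : Set G)
  let act : MulDistribMulAction M E :=
    { smul := fun m x => ⟨(m : G) * x * (m : G)⁻¹, (Subgroup.mem_normalizer_iff.1 m.2 x).1 x.2⟩
      one_smul := fun x => Subtype.ext (by show (1 : G) * x * (1 : G)⁻¹ = x; group)
      mul_smul := fun m n x => Subtype.ext (by
        show (m : G) * n * x * ((m : G) * n)⁻¹ = m * (n * x * (n : G)⁻¹) * (m : G)⁻¹; group)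
      smul_mul := fun m x y => Subtype.ext (by
        show (m : G) * (x * y) * (m : G)⁻¹ = m * x * (m : G)⁻¹ * (m * y * (m : G)⁻¹); group)
      smul_one := fun m => Subtype.ext (by show (m : G) * 1 * (m : G)⁻¹ = 1; group) }
  have h1 := not_dvd (M := M) hE (⟨z, hz⟩ : E) hp hk
  have h2 : (Subtype.val '' (MulAction.orbit M (⟨z, hz⟩ : E))) = Orb E z := by
    ext x
    constructor
    · rintro ⟨_, ⟨m, rfl⟩, rfl⟩
      exact ⟨m, m.2, rfl⟩
    · rintro ⟨m, hm, rfl⟩
      exact ⟨_, ⟨⟨m, hm⟩, rfl⟩, rfl⟩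
  rw [← h2, Set.ncard_image_of_injective _ Subtype.val_injective]
  exact h1

theorem orb_card_ne [Finite G] {E : Subgroup G} (hE : Nat.card E = 2 ^ 7) (hz : z ∈ E) {k : ℕ}
    (h3 : 3 ≤ k) (h6 : k ≤ 6) (hk : (Orb E z).ncard = 19 + 16 * k) : False := by
  have h : ∀ p : ℕ, p.Prime → (∀ k < 7, ¬ p ∣ 2 ^ 7 - 2 ^ k) → ¬ p ∣ 19 + 16 * k := by
    intro p hp hk'
    rw [← hk]
    exact orb_not_dvd hE hz hp hk'
  interval_cases k
  · exact h 67 (by norm_num) (by decide) (by norm_num)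
  · exact h 83 (by norm_num) (by decide) (by norm_num)
  · exact h 11 (by norm_num) (by decide) (by norm_num)
  · exact h 23 (by norm_num) (by decide) (by norm_num)

/-! ### counting `z^M ∩ Q` -/

/-- the points of `Y` which lift to conjugates of `z` -/
def Pts (h : Large Q z) (Y : Submodule (ZMod 2) h.V) : Set h.V :=
  {v | v ∈ Y ∧ v ≠ 0 ∧ ∃ x : Q, h.pr x = v ∧ IsConj z (x : G)}

theorem isConj_iff' {x y : G} : IsConj x y ↔ ∃ g, g * x * g⁻¹ = y := isConj_iff

/-- for `x ∈ Q - ⟨z⟩` the elements `x` and `x z` are conjugate under `Q` -/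
theorem conj_mul_z (h : Large Q z) {x : G} (hx : x ∈ Q) (h1 : x ≠ 1) (hz : x ≠ z) :
    ∃ u ∈ Q, u * x * u⁻¹ = x * z := by
  obtain ⟨u, hu, hux⟩ := exists_not_comm h hx h1 hz
  refine ⟨u, hu, ?_⟩
  rw [hux]
  calc x * u * z * u⁻¹ = x * (u * z) * u⁻¹ := by group
    _ = x * (z * u) * u⁻¹ := by rw [(h.commz hu).eq]
    _ = x * z := by group

theorem ncard_conj [Finite G] (h : Large Q z) (Y : Submodule (ZMod 2) h.V) :
    {x : G | x ∈ Yg h Y ∧ IsConj z x}.ncard = 1 + 2 * (Pts h Y).ncard := by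
  classical
  have hch : ∀ v : Pts h Y, ∃ x : Q, h.pr x = v ∧ IsConj z (x : G) := fun v => v.2.2.2
  choose s hs hsc using hch
  let F : Pts h Y × Bool → G := fun t => (s t.1 : G) * (if t.2 then z else 1)
  have hne1 : ∀ v : Pts h Y, (s v : G) ≠ 1 := by
    intro v h1
    apply v.2.2.1
    rw [← hs v, h.pr_eq_zero]; exact Or.inl h1
  have hnez : ∀ v : Pts h Y, (s v : G) ≠ z := by
    intro v h1
    apply v.2.2.1
    rw [← hs v, h.pr_eq_zero]; exact Or.inr h1
  have hFQ : ∀ t, F t ∈ Q := by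
    intro t
    apply mul_mem (s t.1).2
    split_ifs
    · exact h.z_mem
    · exact Q.one_mem
  have hFpr : ∀ t, h.pr ⟨F t, hFQ t⟩ = t.1 := by
    intro t
    rw [← hs t.1, h.pr_eq_pr]
    show (s t.1 : G) * (if t.2 then z else 1) = s t.1 ∨ (s t.1 : G) * (if t.2 then z else 1) = s t.1 * z
    by_cases ht : t.2 = true
    · right; rw [if_pos ht]
    · left; rw [if_neg ht, mul_one]
  have hF : Function.Injective F := by
    intro t t' htt
    have h1 : t.1 = t'.1 := by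
      apply Subtype.ext
      rw [← hFpr t, ← hFpr t']
      congr 1
      exact Subtype.ext htt
    have h2 : t.2 = t'.2 := by
      have h3 : (if t.2 then z else 1) = (if t'.2 then z else 1) := by
        have : (s t.1 : G) * (if t.2 then z else 1) = (s t'.1 : G) * (if t'.2 then z else 1) := htt
        rw [h1] at this
        exact mul_left_cancel this
      rcases Bool.eq_false_or_eq_true t.2 with h4 | h4 <;>
        rcases Bool.eq_false_or_eq_true t'.2 with h5 | h5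
      · rw [h4, h5]
      · rw [h4, h5] at h3
        simp only [if_true, Bool.false_eq_true, if_false] at h3
        exact absurd h3 h.z_ne
      · rw [h4, h5] at h3
        simp only [if_true, Bool.false_eq_true, if_false] at h3
        exact absurd h3.symm h.z_ne
      · rw [h4, h5]
    exact Prod.ext h1 h2
  have hset : {x : G | x ∈ Yg h Y ∧ IsConj z x} = insert z (Set.range F) := by
    ext x
    constructor
    · rintro ⟨⟨hxQ, hxY⟩, hxc⟩
      by_cases hxz : x = z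
      · left; exact hxz
      · right
        have hx1 : x ≠ 1 := by
          intro h1
          rw [h1] at hxc
          exact h.z_ne (isConj_one_left.1 hxc)
        have hP : h.pr ⟨x, hxQ⟩ ∈ Pts h Y := by
          refine ⟨hxY, ?_, ⟨x, hxQ⟩, rfl, hxc⟩
          intro h0
          rcases h.pr_eq_zero.1 h0 with h1 | h1
          · exact hx1 h1
          · exact hxz h1
        have h2 := hs ⟨_, hP⟩
        have h3 : h.pr ⟨x, hxQ⟩ = h.pr (s ⟨_, hP⟩) := h2.symm
        rcases h.pr_eq_pr.1 h3 with h4 | h4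
        · refine ⟨(⟨_, hP⟩, false), ?_⟩
          show (s ⟨_, hP⟩ : G) * (if false = true then z else 1) = x
          rw [if_neg (by decide), mul_one]; exact h4.symm
        · refine ⟨(⟨_, hP⟩, true), ?_⟩
          show (s ⟨_, hP⟩ : G) * (if true = true then z else 1) = x
          rw [if_pos rfl]; exact h4.symm
    · rintro (rfl | ⟨t, rfl⟩)
      · exact ⟨z_mem_Yg h Y, IsConj.refl _⟩
      · refine ⟨⟨hFQ t, by rw [hFpr]; exact t.1.2.1⟩, ?_⟩
        show IsConj z ((s t.1 : G) * (if t.2 then z else 1))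
        by_cases ht : t.2 = true
        · rw [if_pos ht]
          obtain ⟨u, -, hu⟩ := conj_mul_z h (s t.1).2 (hne1 _) (hnez _)
          exact (hsc t.1).trans (isConj_iff.2 ⟨u, hu⟩)
        · rw [if_neg ht, mul_one]; exact hsc t.1
  have hzr : z ∉ Set.range F := by
    rintro ⟨t, ht⟩
    apply t.1.2.2.1
    rw [← hFpr t, h.pr_eq_zero]
    exact Or.inr ht
  rw [hset, Set.ncard_insert_of_notMem hzr (Set.toFinite _), add_comm, ← Set.image_univ,
    Set.ncard_image_of_injective _ hF, Set.ncard_univ, Nat.card_prod, Nat.card_coe_set_eq,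
    Nat.card_eq_fintype_card (α := Bool), Fintype.card_bool, mul_comm]

/-! ### the main argument -/

variable {h : Large Q z} {Y : Submodule (ZMod 2) h.V} {W : Subgroup (h.V ≃ₗ[ZMod 2] h.V)}

theorem Q_le [Finite G] (e : EData h Y W) : Q ≤ Subgroup.normalizer (E h Y W : Set G) := by
  intro u hu
  rw [Subgroup.mem_normalizer_iff]
  intro x
  refine ⟨fun hx => e.conj_Q hx hu, fun hx => ?_⟩
  have h1 := e.conj_Q hx (inv_mem hu)
  have h2 : u⁻¹ * (u * x * u⁻¹) * u⁻¹⁻¹ = x := by group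
  rwa [h2] at h1

theorem A_le [Finite G] (e : EData h Y W) {A : Subgroup G} {a : G} (p : Pair Q z A a)
    (ha : p.va ∈ Y) (hD : Nat.card p.D = Nat.card Y) {f : h.V ≃ₗ[ZMod 2] h.V} (hf : f ∈ W) (h1 : f ≠ 1)
    (hX : f ∈ p.X) : A ≤ Subgroup.normalizer (E h Y W : Set G) := by
  intro u hu
  rw [Subgroup.mem_normalizer_iff]
  intro x
  refine ⟨fun hx => e.conj_A p ha hD hf h1 hX hx hu, fun hx => ?_⟩
  have h1 := e.conj_A p ha hD hf h1 hX hx (inv_mem hu)
  have h2 : u⁻¹ * (u * x * u⁻¹) * u⁻¹⁻¹ = x := by group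
  rwa [h2] at h1

/-- `z` and `a` are conjugate under any group containing `Q` and `A` -/
theorem exists_m {A : Subgroup G} {a : G} (p : Pair Q z A a) {M : Subgroup G} (hQ : Q ≤ M)
    (hA : A ≤ M) : ∃ m ∈ M, m * z * m⁻¹ = a ∧ ∀ x, x ∈ Q ↔ m * x * m⁻¹ ∈ A := by
  obtain ⟨u, hu, hu'⟩ := conj_mul_z p.la p.z_mem p.lz.z_ne p.ne.symm
  obtain ⟨v, hv, hv'⟩ := conj_mul_z p.lz p.a_mem p.la.z_ne p.ne
  have hm : (v * u) * z * (v * u)⁻¹ = a := by
    have hvz : v * z * v⁻¹ = z := by rw [(p.lz.commz hv).eq]; group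
    calc (v * u) * z * (v * u)⁻¹ = v * (u * z * u⁻¹) * v⁻¹ := by group
      _ = (v * z * v⁻¹) * (v * a * v⁻¹) := by rw [hu']; group
      _ = z * (a * z) := by rw [hvz, hv']
      _ = z * (z * a) := by rw [p.comm_za]
      _ = a := by rw [← mul_assoc, p.lz.z_sq, one_mul]
  refine ⟨v * u, mul_mem (hQ hv) (hA hu), hm, ?_⟩
  obtain ⟨g, hg, -, hgA, -⟩ := p.isConj
  have h1 : A = Q.map (MulAut.conj (v * u)).toMonoidHom := by
    rw [hgA]
    exact map_eq_of_conj p.lz (hg.trans hm.symm)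
  intro x
  constructor
  · intro hx
    rw [h1]
    exact ⟨x, hx, rfl⟩
  · intro hx
    rw [h1] at hx
    obtain ⟨y, hy, hyx⟩ := hx
    have h2 : v * u * y * (v * u)⁻¹ = v * u * x * (v * u)⁻¹ := hyx
    have h3 : y = x := by
      have := congrArg (fun t => (v * u)⁻¹ * t * (v * u)) h2
      simp only [mul_assoc, inv_mul_cancel, mul_one] at this
      simpa using this
    rwa [← h3]

theorem z_mem_E [Finite G] (e : EData h Y W) : z ∈ E h Y W := e.Yg_le_E (z_mem_Yg h Y)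

theorem orb_le [Finite G] (e : EData h Y W) {x : G} (hx : x ∈ Orb (E h Y W) z) : x ∈ E h Y W := by
  obtain ⟨m, hm, rfl⟩ := hx
  exact (Subgroup.mem_normalizer_iff.1 hm z).1 (z_mem_E e)

theorem conj_orb {E : Subgroup G} {m x : G} (hm : m ∈ Subgroup.normalizer (E : Set G)) :
    x ∈ Orb E z ↔ m * x * m⁻¹ ∈ Orb E z := by
  constructor
  · rintro ⟨n, hn, rfl⟩
    exact ⟨m * n, mul_mem hm hn, by group⟩
  · rintro ⟨n, hn, hnx⟩
    refine ⟨m⁻¹ * n, mul_mem (inv_mem hm) hn, ?_⟩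
    calc m⁻¹ * n * z * (m⁻¹ * n)⁻¹ = m⁻¹ * (n * z * n⁻¹) * m := by group
      _ = x := by rw [hnx]; group

/-- hypothesis on the pairs with `ã ∈ Y` -/
def All (h : Large Q z) (Y : Submodule (ZMod 2) h.V) (W : Subgroup (h.V ≃ₗ[ZMod 2] h.V)) : Prop :=
  ∀ (A : Subgroup G) (a : G) (p : Pair Q z A a), p.va ∈ Y →
    Nat.card p.D = Nat.card Y ∧ ∃ f ∈ W, f ≠ 1 ∧ f ∈ p.X

theorem orb_inter_Q [Finite G] (e : EData h Y W) (hall : All h Y W) :
    Orb (E h Y W) z ∩ (Q : Set G) = {x : G | x ∈ Yg h Y ∧ IsConj z x} := by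
  ext x
  constructor
  · rintro ⟨hx, hxQ⟩
    refine ⟨e.E_inf_Q (orb_le e hx) hxQ, ?_⟩
    obtain ⟨m, -, hm⟩ := hx
    exact isConj_iff.2 ⟨m, hm⟩
  · rintro ⟨hxY, hxc⟩
    refine ⟨?_, hxY.1⟩
    by_cases hxz : x = z
    · exact ⟨1, one_mem _, by rw [hxz]; group⟩
    · obtain ⟨g, hg⟩ := isConj_iff.1 hxc
      have hin : g * z * g⁻¹ ∈ Q := by rw [hg]; exact hxY.1
      have hne : g * z * g⁻¹ ≠ z := by rw [hg]; exact hxz
      have p := pair_of_conj h hin hne
      have ha : p.va ∈ Y := by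
        have h1 : (⟨g * z * g⁻¹, p.a_mem⟩ : Q) = ⟨x, hxY.1⟩ := Subtype.ext hg
        show h.pr _ ∈ Y
        rw [h1]; exact hxY.2
      obtain ⟨hD, f, hf, h1, hX⟩ := hall _ _ p ha
      obtain ⟨m, hm, hm', -⟩ := exists_m p (Q_le e) (A_le e p ha hD hf h1 hX)
      exact ⟨m, hm, hm'.trans hg⟩

theorem ncard_orb_Q [Finite G] (e : EData h Y W) (hall : All h Y W) (h9 : (Pts h Y).ncard = 9) :
    (Orb (E h Y W) z ∩ (Q : Set G)).ncard = 19 := by
  rw [orb_inter_Q e hall, ncard_conj, h9]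

theorem ncard_orb_A [Finite G] (e : EData h Y W) (hall : All h Y W) (h9 : (Pts h Y).ncard = 9)
    {A : Subgroup G} {a : G} (p : Pair Q z A a) (ha : p.va ∈ Y) :
    (Orb (E h Y W) z ∩ (A : Set G)).ncard = 19 := by
  obtain ⟨hD, f, hf, h1, hX⟩ := hall _ _ p ha
  obtain ⟨m, hm, -, hmA⟩ := exists_m p (Q_le e) (A_le e p ha hD hf h1 hX)
  rw [← ncard_orb_Q e hall h9]
  have hinj : Function.Injective (fun x : G => m * x * m⁻¹) := (MulAut.conj m).injective
  rw [← Set.ncard_image_of_injective (Orb (E h Y W) z ∩ (Q : Set G)) hinj]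
  congr 1
  ext x
  constructor
  · rintro ⟨hx, hxA⟩
    refine ⟨m⁻¹ * x * m, ⟨?_, ?_⟩, by show m * (m⁻¹ * x * m) * m⁻¹ = x; group⟩
    · rw [conj_orb (z := z) hm]
      have : m * (m⁻¹ * x * m) * m⁻¹ = x := by group
      rw [this]; exact hx
    · show m⁻¹ * x * m ∈ Q
      rw [hmA]
      have : m * (m⁻¹ * x * m) * m⁻¹ = x := by group
      rw [this]; exact hxA
  · rintro ⟨y, ⟨hy, hyQ⟩, rfl⟩
    exact ⟨(conj_orb hm).1 hy, (hmA y).1 hyQ⟩

/-- `z^M` meets each coset -/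
theorem exists_orb [Finite G] (e : EData h Y W) (hY : Nat.card Y = 16) (hall : All h Y W)
    (h9 : (Pts h Y).ncard = 9) {f : h.V ≃ₗ[ZMod 2] h.V} (hf : f ∈ W) (h1 : f ≠ 1) :
    ∃ (x : G) (hx : x ∈ Subgroup.centralizer ({z} : Set G)), x ∈ Orb (E h Y W) z ∧
      h.act ⟨x, hx⟩ = f := by
  classical
  obtain ⟨A, a, p, ha, hX, hD⟩ := e.pair f hf h1
  by_contra hcon
  push Not at hcon
  have h2 := ncard_orb_A e hall h9 p ha
  obtain ⟨x, hxC, hxA, hxE, hxf⟩ := (e.exists_invol p hD hf h1 hX).2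
  -- `E ∩ A` has order at most `32`
  have haE : a ∈ E h Y W := e.Yg_le_E ⟨p.a_mem, ha⟩
  have h3 := Local.card_sub p.la haE
  have h4 : Nat.card (Local.sub p.la (E h Y W)) * Nat.card (Local.sub p.la (E h Y W)) ≤
      Nat.card p.la.V := by
    apply Perp.card_sq_le
    rintro _ ⟨s, hs, rfl⟩ _ ⟨t, ht, rfl⟩
    rw [p.la.b_pr]
    exact e.comm_E hs ht
  rw [card_V_eq p, ← e.card_sq, hY] at h4
  have h5 : Nat.card ↥(E h Y W ⊓ A) ≤ 32 := by
    rw [h3]
    by_contra h6
    push Not at h6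
    have h7 : 17 ≤ Nat.card (Local.sub p.la (E h Y W)) := by omega
    have := Nat.mul_le_mul h7 h7
    omega
  -- `Yg ∩ A` has order at least `16`
  have h6 := e.card_inf_D p ha hf h1 hX
  rw [hY] at h6
  have h7 := Local.card_sub h (B := Yg h Y ⊓ A) ⟨z_mem_Yg h Y, p.z_mem⟩
  have h8 : Local.sub h (Yg h Y ⊓ A) = Y ⊓ p.D := by
    ext v
    constructor
    · rintro ⟨x, hx, rfl⟩
      exact ⟨(coe_mem_Yg h Y).1 hx.1, (p.pr_mem_D x).2 hx.2⟩
    · rintro ⟨hv1, hv2⟩
      obtain ⟨x, rfl⟩ := h.pr_surjective v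
      exact ⟨x, ⟨(coe_mem_Yg h Y).2 hv1, (p.pr_mem_D x).1 hv2⟩, rfl⟩
  have h8' : Yg h Y ⊓ A ⊓ Q = Yg h Y ⊓ A := inf_eq_left.2 (inf_le_left.trans (Yg_le h Y))
  rw [h8, h8'] at h7
  have h10 : 16 ≤ Nat.card ↥(Yg h Y ⊓ A) := by omega
  -- the elements of `E ∩ A` over `f`
  let T : Set G := (fun y => x * y) '' ((Yg h Y ⊓ A : Subgroup G) : Set G)
  have hT : 16 ≤ T.ncard := by
    rw [Set.ncard_image_of_injective _ (mul_right_injective x)]
    exact h10
  have hTsub : (Orb (E h Y W) z ∩ (A : Set G)) ∪ T ⊆ ((E h Y W ⊓ A : Subgroup G) : Set G) := by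
    rintro y (⟨hy, hyA⟩ | ⟨t, ht, rfl⟩)
    · exact ⟨orb_le e hy, hyA⟩
    · exact ⟨mul_mem hxE (e.Yg_le_E ht.1), mul_mem hxA ht.2⟩
  have hdisj : Disjoint (Orb (E h Y W) z ∩ (A : Set G)) T := by
    rw [Set.disjoint_left]
    rintro _ ⟨hy, -⟩ ⟨t, ht, rfl⟩
    have htC : t ∈ Subgroup.centralizer ({z} : Set G) :=
      Subgroup.mem_centralizer_singleton_iff.2 (h.comm_z t ht.1.1)
    apply hcon (x * t) (mul_mem hxC htC) hy
    rw [show (⟨x * t, mul_mem hxC htC⟩ : Subgroup.centralizer ({z} : Set G)) =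
      ⟨x, hxC⟩ * ⟨t, htC⟩ from rfl, map_mul, hxf, h.act_mem ⟨t, htC⟩ ht.1.1, mul_one]
  have h11 := Set.ncard_le_ncard hTsub (Set.toFinite _)
  rw [Set.ncard_union_eq hdisj (Set.toFinite _) (Set.toFinite _), h2] at h11
  have h12 : ((E h Y W ⊓ A : Subgroup G) : Set G).ncard = Nat.card ↥(E h Y W ⊓ A) := rfl
  rw [h12] at h11
  omega

/-- `|z^M - Q| = 16 k`, `3 ≤ k ≤ 6` -/
theorem ncard_orb_diff [Finite G] (e : EData h Y W) (hY : Nat.card Y = 16) (hW : Nat.card W = 4)
    (hall : All h Y W) (h9 : (Pts h Y).ncard = 9) :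
    ∃ k, 3 ≤ k ∧ k ≤ 6 ∧ (Orb (E h Y W) z \ (Q : Set G)).ncard = 16 * k := by
  classical
  have hV : Nat.card h.V = 256 := by rw [← e.card_sq, hY]
  have hQ : Nat.card Q = 512 := by rw [h.card_eq, hV]
  let T : Set G := Orb (E h Y W) z \ (Q : Set G)
  have hTE : ∀ x ∈ T, x ∈ E h Y W := fun x hx => orb_le e hx.1
  have hTC : ∀ x ∈ T, x ∈ Subgroup.centralizer ({z} : Set G) := fun x hx => (hTE x hx).1
  have hconjT : ∀ u ∈ Q, ∀ x ∈ T, u * x * u⁻¹ ∈ T := by
    intro u hu x hx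
    refine ⟨(conj_orb (Q_le e hu)).1 hx.1, fun hx' => hx.2 ?_⟩
    have h1 := mul_mem (mul_mem (inv_mem hu) hx') hu
    have h2 : u⁻¹ * (u * x * u⁻¹) * u = x := by group
    rwa [h2] at h1
  let act : MulAction Q T :=
    { smul := fun u x => ⟨(u : G) * x * (u : G)⁻¹, hconjT u u.2 x x.2⟩
      one_smul := fun x => Subtype.ext (by show (1 : G) * x * (1 : G)⁻¹ = x; group)
      mul_smul := fun m n x => Subtype.ext (by
        show (m : G) * n * x * ((m : G) * n)⁻¹ = m * (n * x * (n : G)⁻¹) * (m : G)⁻¹; group) }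
  have hsmul : ∀ (u : Q) (x : T), ((u • x : T) : G) = (u : G) * x * (u : G)⁻¹ := fun _ _ => rfl
  -- stabilisers
  have hstab : ∀ x : T, MulAction.stabilizer Q x = (Yg h Y).subgroupOf Q := by
    intro x
    ext u
    rw [MulAction.mem_stabilizer_iff, Subgroup.mem_subgroupOf]
    have hxE := hTE x x.2
    have hx1 : h.act ⟨x, hTC x x.2⟩ ≠ 1 := fun h1 => x.2.2 (h.mem_of_act _ h1)
    constructor
    · intro hux
      have h1 : (u : G) * x * (u : G)⁻¹ = x := congrArg Subtype.val hux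
      rw [mul_inv_eq_iff_eq_mul] at h1
      rw [coe_mem_Yg]
      apply e.fix _ hxE.2.1 hx1
      rw [h.act_pr]
      congr 1
      apply Subtype.ext
      show (x : G) * u * (x : G)⁻¹ = u
      rw [← h1]; group
    · intro huY
      apply Subtype.ext
      rw [hsmul, ← hxE.2.2 u huY]; group
  have hstab_card : ∀ x : T, Nat.card (MulAction.stabilizer Q x) = 32 := by
    intro x
    rw [hstab x, Nat.card_congr (Subgroup.subgroupOfEquivOfLe (Yg_le h Y)).toEquiv, card_Yg, hY]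
  have horb : ∀ x : T, Nat.card (MulAction.orbit Q x) = 16 := by
    intro x
    have h1 := MulAction.index_stabilizer Q (x := x)
    have h2 := Subgroup.card_mul_index (MulAction.stabilizer Q x)
    rw [hstab_card, hQ] at h2
    rw [Nat.card_coe_set_eq, ← h1]
    omega
  have hcardT : Nat.card T = 16 * Nat.card (MulAction.orbitRel.Quotient Q T) := by
    rw [Nat.card_congr (MulAction.selfEquivSigmaOrbits Q T)]
    have : Fintype (MulAction.orbitRel.Quotient Q T) := Fintype.ofFinite _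
    rw [Nat.card_sigma]
    have : ∀ ω : MulAction.orbitRel.Quotient Q T,
        Nat.card (MulAction.orbit Q (Quotient.out ω)) = 16 := fun ω => horb _
    rw [Finset.sum_congr rfl (fun ω _ => this ω), Finset.sum_const, Finset.card_univ,
      Nat.card_eq_fintype_card, smul_eq_mul, mul_comm]
  refine ⟨Nat.card (MulAction.orbitRel.Quotient Q T), ?_, ?_, ?_⟩
  · -- three cosets
    have hx : ∀ f : {f : W // f ≠ 1}, ∃ x : T, h.act ⟨x, hTC x x.2⟩ = ((f : W) : h.V ≃ₗ[ZMod 2] h.V) := by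
      rintro ⟨⟨f, hf⟩, hf1⟩
      have hf1' : f ≠ 1 := fun h1 => hf1 (Subtype.ext h1)
      obtain ⟨x, hxC, hxO, hxf⟩ := exists_orb e hY hall h9 hf hf1'
      refine ⟨⟨x, hxO, fun hxQ => hf1' ?_⟩, hxf⟩
      rw [← hxf]; exact h.act_mem _ hxQ
    choose s hs using hx
    have hinj : Function.Injective (fun f : {f : W // f ≠ 1} =>
        (Quotient.mk (MulAction.orbitRel Q T) (s f) : MulAction.orbitRel.Quotient Q T)) := by
      intro f g hfg
      have h1 : (MulAction.orbitRel Q T) (s f) (s g) := Quotient.exact hfg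
      obtain ⟨u, hu⟩ := MulAction.orbitRel_apply.1 h1
      have hu' : (u : G) * (s g) * (u : G)⁻¹ = s f := congrArg Subtype.val hu
      have huC : (u : G) ∈ Subgroup.centralizer ({z} : Set G) :=
        Subgroup.mem_centralizer_singleton_iff.2 (h.comm_z u u.2)
      have h2 : h.act ⟨s f, hTC _ (s f).2⟩ = h.act ⟨s g, hTC _ (s g).2⟩ := by
        have h3 : (⟨s f, hTC _ (s f).2⟩ : Subgroup.centralizer ({z} : Set G)) =
            ⟨u, huC⟩ * ⟨s g, hTC _ (s g).2⟩ * ⟨u, huC⟩⁻¹ := Subtype.ext hu'.symm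
        rw [h3, map_mul, map_mul, map_inv, h.act_mem ⟨u, huC⟩ u.2]
        simp
      rw [hs, hs] at h2
      exact Subtype.ext (Subtype.ext h2)
    have h3 : Nat.card {f : W // f ≠ 1} ≤ Nat.card (MulAction.orbitRel.Quotient Q T) :=
      Nat.card_le_card_of_injective _ hinj
    have hWfin : Finite W := Nat.finite_of_card_ne_zero (by rw [hW]; norm_num)
    have h4 : Nat.card {f : W // f ≠ 1} = 3 := by
      have h5 : Nat.card {f : W // f ≠ 1} = ({1}ᶜ : Set W).ncard := rfl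
      rw [h5, Set.ncard_compl _ (Set.toFinite _) (Set.toFinite _), Set.ncard_singleton, hW]
    omega
  · have hsub : T ∪ (Yg h Y : Set G) ⊆ (E h Y W : Set G) := by
      rintro x (hx | hx)
      · exact hTE x hx
      · exact e.Yg_le_E hx
    have hdisj : Disjoint T (Yg h Y : Set G) := by
      rw [Set.disjoint_left]
      intro x hx hxY
      exact hx.2 hxY.1
    have h1 := Set.ncard_le_ncard hsub (Set.toFinite _)
    rw [Set.ncard_union_eq hdisj (Set.toFinite _) (Set.toFinite _)] at h1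
    have h2 : (E h Y W : Set G).ncard = 128 := by
      show Nat.card (E h Y W) = 128
      rw [e.card_E, hW, hY]
    have h3 : (Yg h Y : Set G).ncard = 32 := by
      show Nat.card (Yg h Y) = 32
      rw [card_Yg, hY]
    have h4 : T.ncard = Nat.card T := rfl
    rw [h2, h3, h4, hcardT] at h1
    omega
  · exact hcardT

/-- **The kill lemma.** -/
theorem kill [Finite G] (h : Large Q z) (Y : Submodule (ZMod 2) h.V)
    (W : Subgroup (h.V ≃ₗ[ZMod 2] h.V)) (e : EData h Y W) (hY : Nat.card Y = 16)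
    (hW : Nat.card W = 4) (hall : All h Y W) (h9 : (Pts h Y).ncard = 9) : False := by
  obtain ⟨k, h3, h6, hk⟩ := ncard_orb_diff e hY hW hall h9
  have hE : Nat.card (E h Y W) = 2 ^ 7 := by rw [e.card_E, hW, hY]; norm_num
  refine orb_card_ne hE (z_mem_E e) h3 h6 ?_
  rw [← ncard_orb_Q e hall h9, ← hk]
  exact (Set.ncard_inter_add_ncard_sdiff_eq_ncard _ _ (Set.toFinite _)).symm

end

end Cfsg.Agent.LargeExtra.KillNine.Sixtyseven
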