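import Cfsg.Agent.LargeExtra.KillNine.Codes
import Cfsg.Agent.LargeExtra.KillNine.Sixtyseven

/-!
# Certificates for the kill lemma (helper441)
-/

set_option autoImplicit false

namespace Cfsg.Agent.LargeExtra.KillNine.Cert

open Cfsg.Agent.Co2Type.Quad Cfsg.Agent.LargeExtra.Base Cfsg.Agent.LargeExtra.Nine
open Cfsg.Agent.LargeExtra.KillNine.EGroup Cfsg.Agent.LargeExtra.KillNine.Codes
open Cfsg.Agent.LargeExtra.KillNine.Sixtyseven

/-! ### four-groups -/

section klein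

variable {H : Type*} [Group H]

/-- the subgroup `{1, a, b, b a}` -/
def klein (a b : H) (ha : a * a = 1) (hb : b * b = 1) (hab : a * b = b * a) : Subgroup H where
  carrier := {g | g = 1 ∨ g = a ∨ g = b ∨ g = b * a}
  one_mem' := Or.inl rfl
  mul_mem' := by
    have h1 : b * (b * a) = a := by rw [← mul_assoc, hb, one_mul]
    have h2 : a * (b * a) = b := by rw [← hab, ← mul_assoc, ha, one_mul]
    have h3 : b * a * a = b := by rw [mul_assoc, ha, mul_one]
    have h4 : b * a * b = a := by rw [mul_assoc, hab, h1]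
    have h5 : b * a * (b * a) = 1 := by rw [← mul_assoc, h4, ha]
    rintro x y (rfl | rfl | rfl | rfl) (rfl | rfl | rfl | rfl) <;>
      simp only [one_mul, mul_one, ha, hb, h1, h2, h3, h4, h5, hab, Set.mem_ofPred_eq, true_or, or_true]
  inv_mem' := by
    have ha' : a⁻¹ = a := inv_eq_of_mul_eq_one_left ha
    have hb' : b⁻¹ = b := inv_eq_of_mul_eq_one_left hb
    rintro x (rfl | rfl | rfl | rfl)
    · left; exact inv_one
    · right; left; exact ha'
    · right; right; left; exact hb'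
    · right; right; right
      rw [mul_inv_rev, ha', hb', hab]

theorem mem_klein {a b : H} {ha : a * a = 1} {hb : b * b = 1} {hab : a * b = b * a} {g : H} :
    g ∈ klein a b ha hb hab ↔ g = 1 ∨ g = a ∨ g = b ∨ g = b * a := Iff.rfl

theorem card_klein {a b : H} (ha : a * a = 1) (hb : b * b = 1) (hab : a * b = b * a) (h1 : a ≠ 1)
    (h2 : b ≠ 1) (h3 : a ≠ b) : Nat.card (klein a b ha hb hab) = 4 := by
  classical
  have hba : b * a ≠ 1 := by
    intro h
    apply h3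
    calc a = b * b * a := by rw [hb, one_mul]
      _ = b * (b * a) := by group
      _ = b := by rw [h, mul_one]
  have hba' : b * a ≠ a := fun h => h2 (mul_eq_right.1 h)
  have hba'' : b * a ≠ b := fun h => h1 (mul_eq_left.1 h)
  have : ((klein a b ha hb hab : Subgroup H) : Set H) = ({1, a, b, b * a} : Finset H) := by
    ext g
    simp only [SetLike.mem_coe, mem_klein, Finset.coe_insert, Finset.coe_singleton,
      Set.mem_insert_iff, Set.mem_singleton_iff]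
  show Nat.card ((klein a b ha hb hab : Subgroup H) : Set H) = 4
  rw [this, Nat.card_coe_set_eq, Set.ncard_coe_finset]
  rw [Finset.card_insert_of_notMem, Finset.card_insert_of_notMem, Finset.card_insert_of_notMem,
    Finset.card_singleton]
  · simp only [Finset.mem_singleton]; exact hba''.symm
  · simp only [Finset.mem_insert, Finset.mem_singleton, not_or]
    exact ⟨h3, hba'.symm⟩
  · simp only [Finset.mem_insert, Finset.mem_singleton, not_or]
    exact ⟨h1.symm, h2.symm, hba.symm⟩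

end klein

/-! ### subspaces given by lists of codes -/

/-- closed under xor -/
def Closed (Y : List ℕ) : Prop := 0 ∈ Y ∧ ∀ a ∈ Y, ∀ b ∈ Y, a ^^^ b ∈ Y

instance (Y : List ℕ) : Decidable (Closed Y) := inferInstanceAs (Decidable (_ ∧ _))

def listSub (Y : List ℕ) (hY : Closed Y) : Submodule (ZMod 2) F8 where
  carrier := {v | ∃ n ∈ Y, v = vec n}
  zero_mem' := ⟨0, hY.1, vec_zero.symm⟩
  add_mem' := by
    rintro _ _ ⟨a, ha, rfl⟩ ⟨b, hb, rfl⟩
    exact ⟨a ^^^ b, hY.2 a ha b hb, (vec_xor a b).symm⟩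
  smul_mem' := by
    rintro c _ ⟨a, ha, rfl⟩
    rcases zmod_two c with rfl | rfl
    · exact ⟨0, hY.1, by rw [zero_smul, vec_zero]⟩
    · exact ⟨a, ha, by rw [one_smul]⟩

theorem mem_listSub {Y : List ℕ} {hY : Closed Y} {v : F8} :
    v ∈ listSub Y hY ↔ ∃ n ∈ Y, v = vec n := Iff.rfl

theorem ncard_codes {Y : List ℕ} (h : ∀ n ∈ Y, n < 256) (hn : Y.Nodup) :
    {v : F8 | ∃ n ∈ Y, v = vec n}.ncard = Y.length := by
  classical
  have h1 : {v : F8 | ∃ n ∈ Y, v = vec n} = vec '' (Y.toFinset : Set ℕ) := by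
    ext v
    constructor
    · rintro ⟨n, hn, rfl⟩
      exact ⟨n, by simpa using hn, rfl⟩
    · rintro ⟨n, hn, rfl⟩
      exact ⟨n, by simpa using hn, rfl⟩
  rw [h1, Set.InjOn.ncard_image, Set.ncard_coe_finset, List.toFinset_card_of_nodup hn]
  intro a ha b hb hab
  exact vec_inj a (h a (by simpa using ha)) b (h b (by simpa using hb)) hab

/-! ### certificates -/

structure Data where
  Y : List ℕ
  w1 : List (List ℕ)
  w2 : List (List ℕ)
  P : List (ℕ × List (List ℕ) × List (List ℕ) × ℕ)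

/-- the matrix of the `i`-th element of `W` -/
def Data.L (t : Data) (i : ℕ) : List ℕ :=
  if i = 0 then prodL t.w1 else if i = 1 then prodL t.w2 else mulL (prodL t.w1) (prodL t.w2)

/-- `L` fixes exactly the codes in `Y` -/
def FixIs (L : List ℕ) (Y : List ℕ) : Prop :=
  ∀ n ∈ List.range 256, ap L n < 256 ∧ (ap L n = n ↔ n ∈ Y)

instance (L Y : List ℕ) : Decidable (FixIs L Y) := by
  unfold FixIs; infer_instance

structure Check (c : Conf) (O : List ℕ) (t : Data) : Prop where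
  closed : Closed t.Y
  lt : ∀ n ∈ t.Y, n < 256
  nodup : t.Y.Nodup
  len : t.Y.length = 16
  q : ∀ n ∈ t.Y, qs (vec n) = 0
  w1 : ∀ L ∈ t.w1, L ∈ c.X ++ c.N
  w2 : ∀ L ∈ t.w2, L ∈ c.X ++ c.N
  sq1 : mulL (prodL t.w1) (prodL t.w1) = idL
  sq2 : mulL (prodL t.w2) (prodL t.w2) = idL
  comm : mulL (prodL t.w2) (prodL t.w1) = mulL (prodL t.w1) (prodL t.w2)
  fix1 : FixIs (prodL t.w1) t.Y
  fix2 : FixIs (prodL t.w2) t.Y
  fix3 : FixIs (mulL (prodL t.w1) (prodL t.w2)) t.Y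
  P : ∀ s ∈ t.P, s.1 ∈ t.Y ∧ s.1 ≠ 0 ∧ (∀ L ∈ s.2.1, L ∈ c.X ++ c.N) ∧ (∀ L ∈ s.2.2.1, L ∈ c.X) ∧
    ap (prodL s.2.1) 1 = s.1 ∧
    mulL (prodL s.2.2.1) (prodL s.2.1) = mulL (prodL s.2.1) (t.L s.2.2.2)
  Pnodup : (t.P.map fun s => s.1).Nodup
  Plen : t.P.length = 9
  Pidx : ∀ i < 3, ∃ s ∈ t.P, s.2.2.2 = i
  Pidx' : ∀ s ∈ t.P, s.2.2.2 < 3
  orb : ∀ n ∈ O, n ∈ t.Y → n ∈ t.P.map fun s => s.1
  orb_lt : ∀ n ∈ O, n < 256

variable {G : Type*} [Group G] {Q A : Subgroup G} {z a : G}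

theorem card_D_of_conf [Finite G] (p : Pair Q z A a) (φ : Coord p.lz)
    (hD : ∀ v, v ∈ p.D ↔ φ.e v 4 = 0 ∧ φ.e v 5 = 0 ∧ φ.e v 6 = 0 ∧ φ.e v 7 = 0) :
    Nat.card p.D = 16 := by
  have h1 : Nat.card p.D = ((φ.e) '' (p.D : Set p.lz.V)).ncard := by
    rw [Set.ncard_image_of_injective _ φ.e.injective]; rfl
  have h2 : (φ.e) '' (p.D : Set p.lz.V) = {v : F8 | ∃ n ∈ List.range 16, v = vec n} := by
    have key : ∀ v : F8, (v 4 = 0 ∧ v 5 = 0 ∧ v 6 = 0 ∧ v 7 = 0) ↔ ∃ n ∈ List.range 16, v = vec n := by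
      decide +kernel
    ext v
    constructor
    · rintro ⟨w, hw, rfl⟩
      exact (key _).1 ((hD w).1 hw)
    · intro hv
      refine ⟨φ.e.symm v, (hD _).2 ?_, φ.e.apply_symm_apply v⟩
      rw [φ.e.apply_symm_apply]
      exact (key v).2 hv
  rw [h1, h2, ncard_codes (by decide) (by decide)]
  rfl

theorem kill_of_check [Finite G] (p : Pair Q z A a) (φ : Coord p.lz) {c : Conf}
    (hc : IsConf p φ c) {O : List ℕ}
    (hO : ∀ x : Q, IsConj z (x : G) → p.lz.pr x ≠ 0 → ∃ n ∈ O, φ.e (p.lz.pr x) = vec n) {t : Data}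
    (ht : Check c O t) : False := by
  classical
  have hInX : ∀ w : List (List ℕ), (∀ L ∈ w, L ∈ c.X) → In φ p.X (prodL w) :=
    fun w hw => In.prod fun L hL => hc.X L (hw L hL)
  have hInH : ∀ w : List (List ℕ), (∀ L ∈ w, L ∈ c.X ++ c.N) → In φ p.H (prodL w) := by
    intro w hw
    refine In.prod fun L hL => ?_
    rcases List.mem_append.1 (hw L hL) with h1 | h1
    · obtain ⟨f, hf, hf'⟩ := hc.X L h1
      exact ⟨f, p.X_le_H hf, hf'⟩
    · exact hc.N L h1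
  obtain ⟨f1, hf1, ha1⟩ := hInH t.w1 ht.w1
  obtain ⟨f2, hf2, ha2⟩ := hInH t.w2 ht.w2
  have hs1 : f1 * f1 = 1 := Acts.ext (φ := φ) (ht.sq1 ▸ Acts.mul ha1 ha1) Acts.one
  have hs2 : f2 * f2 = 1 := Acts.ext (φ := φ) (ht.sq2 ▸ Acts.mul ha2 ha2) Acts.one
  have ha3 : Acts φ (mulL (prodL t.w1) (prodL t.w2)) (f2 * f1) := Acts.mul ha1 ha2
  have hcomm : f1 * f2 = f2 * f1 := Acts.ext (φ := φ) (ht.comm ▸ Acts.mul ha2 ha1) ha3
  -- the subspace
  let Y : Submodule (ZMod 2) p.lz.V := (listSub t.Y ht.closed).comap (φ.e : p.lz.V →ₗ[ZMod 2] F8)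
  have hYmem : ∀ v, v ∈ Y ↔ ∃ n ∈ t.Y, φ.e v = vec n := fun v => Iff.rfl
  have hYimg : (φ.e) '' (Y : Set p.lz.V) = {v : F8 | ∃ n ∈ t.Y, v = vec n} := by
    ext v
    constructor
    · rintro ⟨w, hw, rfl⟩
      exact (hYmem w).1 hw
    · intro hv
      refine ⟨φ.e.symm v, (hYmem _).2 ?_, φ.e.apply_symm_apply v⟩
      rw [φ.e.apply_symm_apply]
      exact hv
  have hYcard : Nat.card Y = 16 := by
    have h1 : Nat.card Y = ((φ.e) '' (Y : Set p.lz.V)).ncard := by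
      rw [Set.ncard_image_of_injective _ φ.e.injective]; rfl
    rw [h1, hYimg, ncard_codes ht.lt ht.nodup, ht.len]
  have hVcard : Nat.card p.lz.V = 256 := by
    rw [Nat.card_congr φ.e.toEquiv, Nat.card_eq_fintype_card]
    decide +kernel
  -- fixed points
  have hfixL : ∀ (L : List ℕ) (f : p.lz.V ≃ₗ[ZMod 2] p.lz.V), FixIs L t.Y → Acts φ L f →
      ∀ v, f v = v ↔ v ∈ Y := by
    intro L f hL hf v
    obtain ⟨n, hn, hnv⟩ := exists_code (φ.e v)
    have h1 : f v = v ↔ vec (ap L n) = vec n := by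
      rw [← lin_vec, ← hnv, ← hf v]
      exact ⟨fun h => by rw [h], fun h => φ.e.injective h⟩
    have h2 : vec (ap L n) = vec n ↔ ap L n = n :=
      ⟨fun h => vec_inj _ (hL n (List.mem_range.2 hn)).1 _ hn h, fun h => by rw [h]⟩
    rw [h1, h2, (hL n (List.mem_range.2 hn)).2, hYmem]
    constructor
    · intro h; exact ⟨n, h, hnv⟩
    · rintro ⟨m, hm, hmv⟩
      have : m = n := vec_inj _ (ht.lt m hm) _ hn (by rw [← hmv, hnv])
      rw [← this]; exact hm
  have hfixf : ∀ f, (f = f1 ∨ f = f2 ∨ f = f2 * f1) → ∀ v, f v = v ↔ v ∈ Y := by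
    rintro f (rfl | rfl | rfl)
    · exact hfixL _ _ ht.fix1 ha1
    · exact hfixL _ _ ht.fix2 ha2
    · exact hfixL _ _ ht.fix3 ha3
  have hne1 : ∀ f, (f = f1 ∨ f = f2 ∨ f = f2 * f1) → f ≠ 1 := by
    intro f hf h1
    have h2 : (Y : Set p.lz.V) = Set.univ := by
      ext v
      simp only [SetLike.mem_coe, Set.mem_univ, iff_true]
      rw [← hfixf f hf v, h1]; rfl
    have h3 : Nat.card Y = Nat.card p.lz.V := by
      show (Y : Set p.lz.V).ncard = _
      rw [h2, Set.ncard_univ]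
    rw [hYcard, hVcard] at h3
    omega
  have hne12 : f1 ≠ f2 := by
    intro h
    apply hne1 (f2 * f1) (Or.inr (Or.inr rfl))
    rw [h, hs2]
  let W : Subgroup (p.lz.V ≃ₗ[ZMod 2] p.lz.V) := klein f1 f2 hs1 hs2 hcomm
  have hWcard : Nat.card W = 4 := card_klein hs1 hs2 hcomm (hne1 _ (Or.inl rfl))
    (hne1 _ (Or.inr (Or.inl rfl))) hne12
  have hWmem : ∀ f ∈ W, f ≠ 1 → (f = f1 ∨ f = f2 ∨ f = f2 * f1) := by
    intro f hf h1
    rcases mem_klein.1 hf with h2 | h2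
    · exact absurd h2 h1
    · exact h2
  have hDcard := card_D_of_conf p φ hc.D
  -- the element of `W` with matrix `t.L i`
  have hidx : ∀ i < 3, ∃ f ∈ W, f ≠ 1 ∧ Acts φ (t.L i) f := by
    intro i hi
    interval_cases i
    · exact ⟨f1, Or.inr (Or.inl rfl), hne1 _ (Or.inl rfl), ha1⟩
    · exact ⟨f2, Or.inr (Or.inr (Or.inl rfl)), hne1 _ (Or.inr (Or.inl rfl)), ha2⟩
    · exact ⟨f2 * f1, Or.inr (Or.inr (Or.inr rfl)), hne1 _ (Or.inr (Or.inr rfl)), ha3⟩
  have hidx' : ∀ f ∈ W, f ≠ 1 → ∃ i < 3, Acts φ (t.L i) f := by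
    intro f hf h1
    rcases hWmem f hf h1 with rfl | rfl | rfl
    · exact ⟨0, by norm_num, ha1⟩
    · exact ⟨1, by norm_num, ha2⟩
    · exact ⟨2, by norm_num, ha3⟩
  -- points
  have hpt : ∀ s ∈ t.P, ∃ g ∈ p.H, φ.e (g p.va) = vec s.1 ∧ ∀ f, Acts φ (t.L s.2.2.2) f →
      ∃ x ∈ p.X, g * x * g⁻¹ = f := by
    intro s hs
    obtain ⟨-, -, h1, h2, h3, h4⟩ := ht.P s hs
    obtain ⟨g, hg, hg'⟩ := hInH s.2.1 h1
    obtain ⟨x, hx, hx'⟩ := hInX s.2.2.1 h2
    refine ⟨g, hg, ?_, fun f hf => ⟨x, hx, ?_⟩⟩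
    · rw [hg', hc.va, lin_vec, h3]
    · have h5 : g * x = f * g := Acts.ext (φ := φ) (Acts.mul hx' hg') (h4 ▸ Acts.mul hg' hf)
      rw [h5, mul_inv_cancel_right]
  -- the pairs over points of `Y`
  have hYpt : ∀ x : Q, IsConj z (x : G) → p.lz.pr x ≠ 0 → p.lz.pr x ∈ Y →
      ∃ s ∈ t.P, φ.e (p.lz.pr x) = vec s.1 := by
    intro x hx hx0 hxY
    obtain ⟨n, hn, hnv⟩ := hO x hx hx0
    obtain ⟨m, hm, hmv⟩ := (hYmem _).1 hxY
    have h1 : m = n := vec_inj _ (ht.lt m hm) _ (ht.orb_lt n hn) (by rw [← hmv, hnv])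
    rw [h1] at hm
    obtain ⟨s, hs, hsn⟩ := List.mem_map.1 (ht.orb n hn hm)
    exact ⟨s, hs, by rw [hnv, ← hsn]⟩
  have hall : All p.lz Y W := by
    intro A' a' p' ha'
    obtain ⟨g', hg'1, -, -, -⟩ := p'.isConj
    obtain ⟨s, hs, hsv⟩ := hYpt ⟨a', p'.a_mem⟩ (isConj_iff.2 ⟨g', hg'1⟩) p'.va_ne ha'
    obtain ⟨g, hg, hgv, hgx⟩ := hpt s hs
    have h1 : p'.va = g p.va := φ.e.injective (hsv.trans hgv.symm)
    refine ⟨by rw [PairConj.card_D_of_orbit p p' hg h1, hDcard, hYcard], ?_⟩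
    obtain ⟨f, hf, hf1, hfL⟩ := hidx _ (ht.Pidx' s hs)
    obtain ⟨x, hx, hxf⟩ := hgx f hfL
    refine ⟨f, hf, hf1, ?_⟩
    rw [← hxf]
    exact PairConj.mem_X_of_orbit p p' hg h1 hx
  have e : EData p.lz Y W :=
    { hq := by
        intro v hv
        obtain ⟨n, hn, hnv⟩ := (hYmem v).1 hv
        rw [φ.q, hnv]
        exact ht.q n hn
      card_sq := by rw [hYcard, hVcard]
      le := by
        intro f hf
        rcases mem_klein.1 hf with rfl | rfl | rfl | rfl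
        · exact one_mem _
        · exact hf1
        · exact hf2
        · exact mul_mem hf2 hf1
      triv := by
        intro f hf v hv
        by_cases h1 : f = 1
        · rw [h1]; rfl
        · exact (hfixf f (hWmem f hf h1) v).2 hv
      fix := fun f hf h1 v hv => (hfixf f (hWmem f hf h1) v).1 hv
      pair := by
        intro f hf h1
        obtain ⟨i, hi, hfL⟩ := hidx' f hf h1
        obtain ⟨s, hs, hsi⟩ := ht.Pidx i hi
        obtain ⟨g, hg, hgv, hgx⟩ := hpt s hs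
        obtain ⟨A', a', p', hp'⟩ := PairConj.exists_pair p hg
        refine ⟨A', a', p', ?_, ?_, ?_⟩
        · rw [hp', hYmem]
          exact ⟨s.1, (ht.P s hs).1, hgv⟩
        · rw [hsi] at hgx
          obtain ⟨x, hx, hxf⟩ := hgx f hfL
          rw [← hxf]
          exact PairConj.mem_X_of_orbit p p' hg hp' hx
        · rw [PairConj.card_D_of_orbit p p' hg hp', hDcard, hYcard] }
  have h9 : (Pts p.lz Y).ncard = 9 := by
    rw [← Set.ncard_image_of_injective _ φ.e.injective]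
    have h1 : φ.e '' (Pts p.lz Y) = {v : F8 | ∃ n ∈ t.P.map (fun s => s.1), v = vec n} := by
      ext v
      constructor
      · rintro ⟨w, ⟨hwY, hw0, x, rfl, hxc⟩, rfl⟩
        obtain ⟨s, hs, hsv⟩ := hYpt x hxc hw0 hwY
        exact ⟨s.1, List.mem_map.2 ⟨s, hs, rfl⟩, hsv⟩
      · rintro ⟨n, hn, rfl⟩
        obtain ⟨s, hs, rfl⟩ := List.mem_map.1 hn
        obtain ⟨g, hg, hgv, hgx⟩ := hpt s hs
        obtain ⟨A', a', p', hp'⟩ := PairConj.exists_pair p hg
        obtain ⟨g', hg'1, -, -, -⟩ := p'.isConj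
        refine ⟨g p.va, ⟨?_, ?_, ⟨a', p'.a_mem⟩, hp', isConj_iff.2 ⟨g', hg'1⟩⟩, hgv⟩
        · exact (hYmem _).2 ⟨s.1, (ht.P s hs).1, hgv⟩
        · rw [← hp']; exact p'.va_ne
    rw [h1, ncard_codes ?_ ht.Pnodup, List.length_map, ht.Plen]
    intro n hn
    obtain ⟨s, hs, rfl⟩ := List.mem_map.1 hn
    exact ht.lt _ (ht.P s hs).1
  exact kill p.lz Y W e hYcard hWcard hall h9

end Cfsg.Agent.LargeExtra.KillNine.Cert
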