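import Cfsg.Agent.LargeExtra.KillNine.Cert

/-!
# The kills k2, k3, k4, k5 of S1763 (helper441)

Each theorem kills the configuration `confKi` of `Nine.Iface`, given that the conjugates of `z` in `Q` lie over the
points of the list `orbKi` (the orbit of `ã` under the group generated by the printed matrices).
-/

set_option autoImplicit false
set_option maxRecDepth 100000

namespace Cfsg.Agent.LargeExtra.KillNine.Kills

open Cfsg.Agent.Co2Type.Quad Cfsg.Agent.LargeExtra.Base Cfsg.Agent.LargeExtra.Nine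
open Cfsg.Agent.LargeExtra.KillNine.Cert

variable {G : Type*} [Group G] {Q A : Subgroup G} {z a : G}

/-- generator 0 of `confK2` -/
def gK20 : List ℕ := [1,2,4,9,144,36,66,128]
/-- generator 1 of `confK2` -/
def gK21 : List ℕ := [1,2,5,8,80,40,64,130]
/-- generator 2 of `confK2` -/
def gK22 : List ℕ := [1,3,4,8,48,32,72,132]
/-- generator 3 of `confK2` -/
def gK23 : List ℕ := [75,2,146,64,16,120,8,22]
/-- generator 4 of `confK2` -/
def gK24 : List ℕ := [45,148,4,32,16,8,120,22]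
/-- generator 5 of `confK2` -/
def gK25 : List ℕ := [237,90,186,80,16,104,24,118]

/-- the points of `confK2` -/
def orbK2 : List ℕ :=
  [1, 6, 7, 8, 9, 10, 11, 12, 13, 16, 24, 32, 36, 40, 45, 48, 56, 64, 66, 72, 75, 80, 88, 96, 102,
    104, 111, 112, 120, 144, 153, 180, 189, 210, 219, 224, 225, 230, 231, 234, 235, 236, 237, 246,
    255]

def dataK2 : Data where
  Y := [0, 1, 2, 3, 8, 9, 10, 11, 64, 65, 66, 67, 72, 73, 74, 75]
  w1 := [gK21]
  w2 := [gK23, gK21, gK23]
  P := [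
    (1, [], [gK21], 0),
    (64, [gK23, gK20, gK22], [gK21], 1),
    (66, [gK23, gK22], [gK21], 2),
    (8, [gK23, gK20, gK22, gK23], [gK21], 0),
    (9, [gK23, gK20, gK22, gK23, gK20], [gK21], 0),
    (72, [gK23, gK20], [gK21], 2),
    (10, [gK23, gK22, gK23], [gK21], 2),
    (11, [gK23, gK22, gK23, gK20], [gK21], 1),
    (75, [gK23], [gK21], 1)]

theorem checkK2 : Check confK2 orbK2 dataK2 := by
  constructor <;> decide +kernel

theorem killK2 [Finite G] (p : Pair Q z A a) (φ : Coord p.lz) (hc : IsConf p φ confK2)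
    (hO : ∀ x : Q, IsConj z (x : G) → p.lz.pr x ≠ 0 → ∃ n ∈ orbK2, φ.e (p.lz.pr x) = vec n) : False :=
  kill_of_check p φ hc hO checkK2

/-- generator 0 of `confK3` -/
def gK30 : List ℕ := [1,2,4,9,144,36,66,128]
/-- generator 1 of `confK3` -/
def gK31 : List ℕ := [1,2,5,8,80,40,64,130]
/-- generator 2 of `confK3` -/
def gK32 : List ℕ := [1,3,4,8,51,33,72,132]
/-- generator 3 of `confK3` -/
def gK33 : List ℕ := [123,144,20,36,16,28,194,18]
/-- generator 4 of `confK3` -/
def gK34 : List ℕ := [235,144,150,118,16,220,194,18]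
/-- generator 5 of `confK3` -/
def gK35 : List ℕ := [225,210,56,52,16,32,128,64]
/-- generator 6 of `confK3` -/
def gK36 : List ℕ := [7,128,134,96,16,88,80,2]

/-- the points of `confK3` -/
def orbK3 : List ℕ :=
  [1, 2, 3, 6, 7, 10, 11, 12, 13, 16, 18, 48, 51, 64, 66, 72, 75, 80, 82, 120, 123, 128, 130, 132,
    135, 144, 146, 180, 183, 192, 194, 204, 207, 208, 210, 224, 225, 230, 231, 234, 235, 236, 237,
    252, 255]

def dataK3 : Data where
  Y := [0, 1, 2, 3, 4, 5, 6, 7, 128, 129, 130, 131, 132, 133, 134, 135]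
  w1 := [gK30]
  w2 := [gK36, gK30, gK36]
  P := [
    (1, [], [gK30], 0),
    (128, [gK33, gK32, gK36, gK35], [gK31], 1),
    (132, [gK36, gK31, gK33], [gK30, gK31], 2),
    (2, [gK33, gK34, gK32], [gK30], 0),
    (3, [gK33, gK34], [gK30], 0),
    (130, [gK33, gK34, gK36, gK32], [gK30], 2),
    (6, [gK36, gK31], [gK30], 2),
    (7, [gK36], [gK30], 1),
    (135, [gK33, gK34, gK36], [gK30], 1)]

theorem checkK3 : Check confK3 orbK3 dataK3 := by
  constructor <;> decide +kernel

theorem killK3 [Finite G] (p : Pair Q z A a) (φ : Coord p.lz) (hc : IsConf p φ confK3)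
    (hO : ∀ x : Q, IsConj z (x : G) → p.lz.pr x ≠ 0 → ∃ n ∈ orbK3, φ.e (p.lz.pr x) = vec n) : False :=
  kill_of_check p φ hc hO checkK3

/-- generator 0 of `confK4` -/
def gK40 : List ℕ := [1,2,4,9,144,36,66,128]
/-- generator 1 of `confK4` -/
def gK41 : List ℕ := [1,2,5,8,80,40,64,130]
/-- generator 2 of `confK4` -/
def gK42 : List ℕ := [1,3,4,8,48,32,72,132]
/-- generator 3 of `confK4` -/
def gK43 : List ℕ := [3,2,132,74,16,176,64,128]
/-- generator 4 of `confK4` -/
def gK44 : List ℕ := [115,146,20,44,16,48,192,128]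
/-- generator 5 of `confK4` -/
def gK45 : List ℕ := [75,64,48,8,16,20,2,144]

/-- the points of `confK4` -/
def orbK4 : List ℕ :=
  [1, 2, 3, 4, 5, 6, 7, 10, 11, 12, 13, 14, 15, 16, 18, 20, 24, 26, 28, 32, 36, 40, 45, 48, 51, 52,
    56, 59, 60, 64, 66, 72, 75, 80, 82, 85, 88, 90, 93, 97, 103, 105, 110, 112, 115, 117, 120, 123,
    125, 128, 129, 130, 131, 132, 133, 134, 135, 144, 146, 148, 153, 155, 157, 160, 161, 164, 165,
    170, 171, 174, 175, 176, 180, 183, 185, 189, 190, 192, 193, 194, 195, 204, 205, 206, 207, 208,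
    210, 215, 217, 219, 222, 224, 225, 230, 231, 234, 235, 236, 237, 243, 245, 246, 250, 252, 255]

def dataK4 : Data where
  Y := [0, 1, 2, 3, 8, 9, 10, 11, 64, 65, 66, 67, 72, 73, 74, 75]
  w1 := [gK41]
  w2 := [gK45, gK41, gK45]
  P := [
    (1, [], [gK41], 0),
    (64, [gK43, gK42, gK45], [gK41], 1),
    (2, [gK43, gK42], [gK41], 0),
    (3, [gK43], [gK41], 0),
    (66, [gK45, gK42], [gK41], 2),
    (72, [gK45, gK40], [gK41], 2),
    (10, [gK43, gK45, gK40], [gK41], 2),
    (11, [gK43, gK45], [gK41], 1),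
    (75, [gK45], [gK41], 1)]

theorem checkK4 : Check confK4 orbK4 dataK4 := by
  constructor <;> decide +kernel

theorem killK4 [Finite G] (p : Pair Q z A a) (φ : Coord p.lz) (hc : IsConf p φ confK4)
    (hO : ∀ x : Q, IsConj z (x : G) → p.lz.pr x ≠ 0 → ∃ n ∈ orbK4, φ.e (p.lz.pr x) = vec n) : False :=
  kill_of_check p φ hc hO checkK4

/-- generator 0 of `confK5` -/
def gK50 : List ℕ := [1,2,4,9,144,36,66,128]
/-- generator 1 of `confK5` -/
def gK51 : List ℕ := [1,2,5,8,80,40,64,130]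
/-- generator 2 of `confK5` -/
def gK52 : List ℕ := [1,3,4,8,48,32,72,132]
/-- generator 3 of `confK5` -/
def gK53 : List ℕ := [3,2,132,72,16,48,64,128]
/-- generator 4 of `confK5` -/
def gK54 : List ℕ := [5,130,4,40,16,32,80,128]
/-- generator 5 of `confK5` -/
def gK55 : List ℕ := [41,82,36,8,16,32,64,144]

/-- the points of `confK5` -/
def orbK5 : List ℕ :=
  [1, 2, 3, 4, 5, 8, 9, 12, 13, 16, 18, 32, 33, 36, 37, 40, 41, 44, 45, 48, 51, 64, 66, 72, 75, 80,
    82, 120, 123, 128, 130, 132, 135, 144, 146, 180, 183, 192, 194, 204, 207, 208, 210, 252, 255]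

def dataK5 : Data where
  Y := [0, 1, 2, 3, 12, 13, 14, 15, 192, 193, 194, 195, 204, 205, 206, 207]
  w1 := [gK50, gK51]
  w2 := [gK54, gK55, gK50, gK51, gK54, gK55]
  P := [
    (1, [], [gK50, gK51], 0),
    (194, [gK53, gK52, gK54, gK55], [gK50, gK51], 1),
    (192, [gK53, gK52, gK54, gK55, gK50], [gK50, gK51], 2),
    (2, [gK53, gK52], [gK50, gK51], 0),
    (3, [gK53], [gK50, gK51], 0),
    (12, [gK54, gK55, gK50], [gK50, gK51], 2),
    (13, [gK54, gK55], [gK50, gK51], 1),
    (207, [gK53, gK54, gK55], [gK50, gK51], 1),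
    (204, [gK53, gK54, gK55, gK50], [gK50, gK51], 2)]

theorem checkK5 : Check confK5 orbK5 dataK5 := by
  constructor <;> decide +kernel

theorem killK5 [Finite G] (p : Pair Q z A a) (φ : Coord p.lz) (hc : IsConf p φ confK5)
    (hO : ∀ x : Q, IsConj z (x : G) → p.lz.pr x ≠ 0 → ∃ n ∈ orbK5, φ.e (p.lz.pr x) = vec n) : False :=
  kill_of_check p φ hc hO checkK5

end Cfsg.Agent.LargeExtra.KillNine.Kills
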