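import Cfsg.Agent.LargeExtra.KillNine.Cert

/-!
# All conjugates of `z` in `Q` lie over `ã^H` (helper441): the machine

`IsConf p φ c` bounds `H` from above.  If another `H`-orbit of singular vectors carried a pair `p'`, then `p'.X` would
be a large elementary abelian normal subgroup of the stabiliser.  `PtCheck` is a decidable certificate excluding this.
-/

set_option autoImplicit false

namespace Cfsg.Agent.LargeExtra.KillNine.Pts

open Cfsg.Agent.Co2Type.Quad Cfsg.Agent.LargeExtra.Base Cfsg.Agent.LargeExtra.Nine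
open Cfsg.Agent.LargeExtra.KillNine.EGroup Cfsg.Agent.LargeExtra.KillNine.Codes
open Cfsg.Agent.LargeExtra.KillNine.Cert

/-! ### well-formed matrices -/

/-- eight rows, all less than 256 -/
def Wf (L : List ℕ) : Prop := L.length = 8 ∧ ∀ x ∈ L, x < 256

instance (L : List ℕ) : Decidable (Wf L) := inferInstanceAs (Decidable (_ ∧ _))

theorem getD_lt {L : List ℕ} (h : ∀ x ∈ L, x < 256) (i : ℕ) : L.getD i 0 < 256 := by
  rw [List.getD_eq_getElem?_getD]
  cases hi : L[i]? with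
  | none => simp
  | some x => simpa using h x (List.mem_of_getElem? hi)

theorem ap_lt {L : List ℕ} (h : ∀ x ∈ L, x < 256) (n : ℕ) : ap L n < 256 := by
  have key : ∀ (c : Prop) [Decidable c] (i : ℕ), (if c then L.getD i 0 else 0) < 2 ^ 8 := by
    intro c _ i
    split_ifs
    · exact getD_lt h i
    · norm_num
  show _ < 2 ^ 8
  unfold ap
  refine Nat.xor_lt_two_pow ?_ (key _ _)
  refine Nat.xor_lt_two_pow ?_ (key _ _)
  refine Nat.xor_lt_two_pow ?_ (key _ _)
  refine Nat.xor_lt_two_pow ?_ (key _ _)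
  refine Nat.xor_lt_two_pow ?_ (key _ _)
  refine Nat.xor_lt_two_pow ?_ (key _ _)
  exact Nat.xor_lt_two_pow (key _ _) (key _ _)

theorem wf_id : Wf idL := by decide

theorem wf_mul {L M : List ℕ} (hL : Wf L) (hM : Wf M) : Wf (mulL L M) := by
  refine ⟨by rw [mulL, List.length_map]; exact hL.1, ?_⟩
  intro x hx
  obtain ⟨y, -, rfl⟩ := List.mem_map.1 hx
  exact ap_lt hM.2 y

theorem wf_foldl {w : List (List ℕ)} (hw : ∀ L ∈ w, Wf L) {M : List ℕ} (hM : Wf M) :
    Wf (w.foldl mulL M) := by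
  induction w generalizing M with
  | nil => exact hM
  | cons L w ih =>
    exact ih (fun L' hL' => hw L' (List.mem_cons_of_mem _ hL')) (wf_mul hM (hw L (List.mem_cons_self ..)))

theorem wf_prod {w : List (List ℕ)} (hw : ∀ L ∈ w, Wf L) : Wf (prodL w) := wf_foldl hw wf_id

theorem lin_two_pow (L : List ℕ) {i : ℕ} (hi : i < 8) : lin L (vec (2 ^ i)) = vec (L.getD i 0) := by
  have h := basis_vec ⟨i, hi⟩
  rw [← h]
  show ∑ j : Fin 8, (Pi.single (⟨i, hi⟩ : Fin 8) 1 : F8) j • vec (L.getD j 0) = _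
  rw [Finset.sum_eq_single ⟨i, hi⟩]
  · rw [Pi.single_eq_same, one_smul]
  · intro j _ hj
    rw [Pi.single_eq_of_ne hj, zero_smul]
  · intro h; exact absurd (Finset.mem_univ _) h

theorem eq_of_lin {L M : List ℕ} (hL : Wf L) (hM : Wf M) (h : ∀ v, lin L v = lin M v) : L = M := by
  apply List.ext_getElem
  · rw [hL.1, hM.1]
  · intro i h1 h2
    have hi : i < 8 := by rw [← hL.1]; exact h1
    have h3 := h (vec (2 ^ i))
    rw [lin_two_pow L hi, lin_two_pow M hi] at h3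
    have h4 := vec_inj _ (getD_lt hL.2 i) _ (getD_lt hM.2 i) h3
    rw [List.getD_eq_getElem?_getD, List.getD_eq_getElem?_getD, List.getElem?_eq_getElem h1,
      List.getElem?_eq_getElem h2] at h4
    exact h4

theorem lin_foldl (w : List (List ℕ)) (M : List ℕ) (v : F8) :
    lin (w.foldl mulL M) v = w.foldl (fun u L => lin L u) (lin M v) := by
  induction w generalizing M with
  | nil => rfl
  | cons L w ih =>
    show lin (w.foldl mulL (mulL M L)) v = w.foldl (fun u L => lin L u) (lin L (lin M v))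
    rw [ih, lin_mulL]

theorem lin_prod (w : List (List ℕ)) (v : F8) : lin (prodL w) v = w.foldl (fun u L => lin L u) v := by
  rw [prodL, lin_foldl, lin_id]

/-! ### certificates -/

structure PtData where
  r : ℕ
  T : List (ℕ × List ℕ × List ℕ)
  S : List (List ℕ)
  L : List (List ℕ × List (List ℕ))
  W : List (ℕ × List (List ℕ))
  C : List (List (List ℕ) × List (List ℕ))

/-- an involution commuting with its conjugates by `t.C` -/
def cond1 (t : PtData) (l : List ℕ) : Bool :=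
  decide (l ≠ idL) && decide (mulL l l = idL) && t.C.all fun c =>
    decide (mulL l (mulL (mulL (prodL c.2) l) (prodL c.1)) =
      mulL (mulL (mulL (prodL c.2) l) (prodL c.1)) l)

/-- moreover `r ∈ [V, l]` -/
def cond2 (t : PtData) (l : List ℕ) : Bool :=
  cond1 t l && (List.range 256).any fun n => decide (ap l n ^^^ n = t.r)

structure PtCheck (gens gN : List (List ℕ)) (t : PtData) : Prop where
  rlt : t.r < 256
  wf : ∀ L ∈ gens, Wf L
  wfN : ∀ L ∈ gN, Wf L
  T0 : (t.r, idL, idL) ∈ t.T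
  Tin : ∀ s ∈ t.T, ap s.2.1 t.r = s.1 ∧ s.1 < 256 ∧ mulL s.2.2 s.2.1 = idL ∧
    (s.1 = t.r → s.2.1 = idL)
  Tst : ∀ s ∈ t.T, ∀ g ∈ gens, ∃ s' ∈ t.T, ap g s.1 = s'.1 ∧
    mulL (mulL s.2.1 g) s'.2.2 ∈ t.L.map (fun l => l.1)
  Lid : idL ∈ t.L.map (fun l => l.1)
  Lwf : ∀ l ∈ t.L, Wf l.1
  Lr : ∀ l ∈ t.L, ap l.1 t.r = t.r
  Lw : ∀ l ∈ t.L, prodL l.2 = l.1 ∧ ∀ s ∈ l.2, s ∈ t.S
  Ls : ∀ l ∈ t.L, ∀ s ∈ t.S, mulL l.1 s ∈ t.L.map (fun l => l.1)
  W : ∀ w ∈ t.W, ap (prodL w.2) t.r = w.1 ∧ ∀ L ∈ w.2, L ∈ gN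
  C : ∀ c ∈ t.C, (∀ L ∈ c.1, L ∈ gN) ∧ (∀ L ∈ c.2, L ∈ gN) ∧ mulL (prodL c.2) (prodL c.1) = idL ∧
    ap (prodL c.1) t.r = t.r
  cnt1 : ((t.L.map fun l => l.1).filter fun l => cond1 t l).length < 15
  cnt2 : ((t.L.map fun l => l.1).filter fun l => cond2 t l).length < 7

variable {G : Type*} [Group G] {Q A : Subgroup G} {z a : G}

theorem finite_aut [Finite G] (h : Large Q z) : Finite (h.V ≃ₗ[ZMod 2] h.V) := by
  have : Finite h.V := inferInstance
  exact Finite.of_injective (fun f : h.V ≃ₗ[ZMod 2] h.V => (f : h.V → h.V)) DFunLike.coe_injective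

/-- products of elements of the list with words in `S` stay in the list -/
theorem mem_words {gens gN : List (List ℕ)} {t : PtData} (ht : PtCheck gens gN t)
    (w : List (List ℕ)) (hw : ∀ s ∈ w, s ∈ t.S) (l : List ℕ) (hl : l ∈ t.L.map fun l => l.1) :
    ∃ l' ∈ t.L.map (fun l => l.1), ∀ v, lin l' v = lin (prodL w) (lin l v) := by
  induction w generalizing l with
  | nil => exact ⟨l, hl, fun v => by rw [lin_prod]; rfl⟩
  | cons s w ih =>
    obtain ⟨x, hx, rfl⟩ := List.mem_map.1 hl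
    have h1 := ht.Ls x hx s (hw s (List.mem_cons_self ..))
    obtain ⟨l', hl', h2⟩ := ih (fun s' hs' => hw s' (List.mem_cons_of_mem _ hs')) _ h1
    refine ⟨l', hl', fun v => ?_⟩
    rw [h2, lin_prod, lin_prod, lin_mulL]
    rfl

/-- every element of `H` is in one of the cosets -/
theorem exists_coset [Finite G] {h : Large Q z} (φ : Coord h) {gens gN : List (List ℕ)}
    {t : PtData} (ht : PtCheck gens gN t) {f : h.V ≃ₗ[ZMod 2] h.V}
    (hf : f ∈ Subgroup.closure {f | ∃ L ∈ gens, Acts φ L f}) :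
    ∃ l ∈ t.L.map (fun l => l.1), ∃ s ∈ t.T, ∀ v, φ.e (f v) = lin s.2.1 (lin l (φ.e v)) := by
  have := finite_aut h
  rw [← Subgroup.mem_toSubmonoid, Subgroup.closure_toSubmonoid_of_finite] at hf
  induction hf using Submonoid.closure_induction_left with
  | one => exact ⟨idL, ht.Lid, _, ht.T0, fun v => by rw [lin_id, lin_id]; rfl⟩
  | mul_left x hx y hy ih =>
    obtain ⟨g, hg, hgx⟩ := hx
    obtain ⟨l, hl, s, hs, hy'⟩ := ih
    obtain ⟨s', hs', -, h2⟩ := ht.Tst s hs g hg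
    obtain ⟨l₁, hl₁, hl₁'⟩ := List.mem_map.1 h2
    obtain ⟨l₂, hl₂, hl₂'⟩ := mem_words ht l₁.2 (ht.Lw l₁ hl₁).2 l hl
    refine ⟨l₂, hl₂, s', hs', fun v => ?_⟩
    show φ.e (x (y v)) = _
    rw [hgx, hy', hl₂', (ht.Lw l₁ hl₁).1, hl₁', lin_mulL, lin_mulL, ← lin_mulL s'.2.2 s'.2.1,
      (ht.Tin s' hs').2.2.1, lin_id]

/-- the stabiliser of `r` is contained in the list -/
theorem exists_stab [Finite G] {h : Large Q z} (φ : Coord h) {gens gN : List (List ℕ)}
    {t : PtData} (ht : PtCheck gens gN t) {f : h.V ≃ₗ[ZMod 2] h.V}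
    (hf : f ∈ Subgroup.closure {f | ∃ L ∈ gens, Acts φ L f}) {v₀ : h.V} (hv₀ : φ.e v₀ = vec t.r)
    (hfix : f v₀ = v₀) : ∃ l ∈ t.L.map (fun l => l.1), Acts φ l f := by
  obtain ⟨l, hl, s, hs, h1⟩ := exists_coset φ ht hf
  obtain ⟨x, hx, hxl⟩ := List.mem_map.1 hl
  have h2 := h1 v₀
  rw [hfix, hv₀, lin_vec, ← hxl, ht.Lr x hx, lin_vec, (ht.Tin s hs).1] at h2
  have h3 := vec_inj _ ht.rlt _ (ht.Tin s hs).2.1 h2
  have h4 := (ht.Tin s hs).2.2.2 h3.symm
  refine ⟨l, hl, fun v => ?_⟩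
  rw [h1 v, h4, lin_id]

/-- a conjugate of `z` in `Q` gives a pair -/
theorem pair_of_isConj (p : Pair Q z A a) (x : Q) (hx : IsConj z (x : G)) (hx0 : p.lz.pr x ≠ 0) :
    ∃ (A' : Subgroup G) (p' : Pair Q z A' (x : G)), p'.va = p.lz.pr x := by
  obtain ⟨g, hg⟩ := isConj_iff.1 hx
  have hne : g * z * g⁻¹ ≠ z := by
    rw [hg]
    intro h
    exact hx0 (p.lz.pr_eq_zero.2 (Or.inr h))
  have p' := pair_of_conj p.lz (g := g) (by rw [hg]; exact x.2) hne
  rw [hg] at p'
  exact ⟨_, p', rfl⟩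

theorem act_trivial [Finite G] {A' : Subgroup G} {a' : G} (p : Pair Q z A' a')
    (hD : Nat.card p.D * Nat.card p.D = Nat.card p.lz.V) {f : p.lz.V ≃ₗ[ZMod 2] p.lz.V} (hf : f ∈ p.X)
    (h1 : f ≠ 1) : ∃ v, f v + v = p.va := by
  by_contra hcon
  push Not at hcon
  obtain ⟨c, hcA, rfl⟩ := p.mem_X.1 hf
  apply h1
  apply p.lz.act_mem
  refine mem_Q_of_comm_D p hD hcA fun d hdQ hdA => ?_
  rcases p.conj_D hdA hcA with h2 | h2
  · rw [mul_inv_eq_iff_eq_mul] at h2; exact h2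
  · exfalso
    apply hcon (p.lz.pr ⟨d, hdQ⟩)
    have h3 : p.lz.act c (p.lz.pr ⟨d, hdQ⟩) = p.lz.pr ⟨d, hdQ⟩ + p.va := by
      rw [Pair.va, ← p.lz.pr_mul]
      exact Pair.act_pr_coe p.lz c ⟨d, hdQ⟩ _ h2
    rw [h3, add_comm, ← add_assoc, p.lz.add_self, zero_add]

theorem no_pair [Finite G] (p : Pair Q z A a) (φ : Coord p.lz) {c : Conf} (hc : IsConf p φ c)
    {t : PtData} (ht : PtCheck (c.X ++ c.N ++ c.M) (c.X ++ c.N) t) {A' : Subgroup G} {a' : G}
    (p' : Pair Q z A' a') (hw : ∃ w ∈ t.W, φ.e p'.va = vec w.1) : False := by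
  classical
  have hfin := finite_aut p.lz
  have hV : Nat.card p.lz.V = 256 := by
    rw [Nat.card_congr φ.e.toEquiv, Nat.card_eq_fintype_card]
    decide +kernel
  have hInH : ∀ w : List (List ℕ), (∀ L ∈ w, L ∈ c.X ++ c.N) → In φ p.H (prodL w) := by
    intro w hw
    refine In.prod fun L hL => ?_
    rcases List.mem_append.1 (hw L hL) with h1 | h1
    · obtain ⟨f, hf, hf'⟩ := hc.X L h1
      exact ⟨f, p.X_le_H hf, hf'⟩
    · exact hc.N L h1
  -- reduce to the representative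
  obtain ⟨w, hwW, hwv⟩ := hw
  obtain ⟨hw1, hw2⟩ := ht.W w hwW
  obtain ⟨g, hg, hgL⟩ := hInH w.2 hw2
  obtain ⟨A₂, a₂, q, hq⟩ := PairConj.exists_pair p' (f := g⁻¹) (p.H.inv_mem hg)
  have hqr : φ.e q.va = vec t.r := by
    have h1 : g (φ.e.symm (vec t.r)) = p'.va := by
      apply φ.e.injective
      rw [hgL, φ.e.apply_symm_apply, lin_vec, hw1, hwv]
    have h2 : q.va = φ.e.symm (vec t.r) := by
      rw [hq, ← h1]
      show (g⁻¹ * g) (φ.e.symm (vec t.r)) = _
      rw [inv_mul_cancel]; rfl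
    rw [h2, φ.e.apply_symm_apply]
  -- elements of `q.X`
  have hstab : ∀ x ∈ q.X, ∃ l ∈ t.L.map (fun l => l.1), Acts φ l x := by
    intro x hx
    exact exists_stab φ ht (hc.le (q.X_le_H hx)) hqr (q.X_va hx)
  have hLwf : ∀ l ∈ t.L.map (fun l => l.1), Wf l := by
    intro l hl
    obtain ⟨x, hx, rfl⟩ := List.mem_map.1 hl
    exact ht.Lwf x hx
  have hgNwf : ∀ w : List (List ℕ), (∀ L ∈ w, L ∈ c.X ++ c.N) → Wf (prodL w) :=
    fun w hw => wf_prod fun L hL => ht.wfN L (hw L hL)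
  have heq : ∀ (L M : List ℕ) (f : p.lz.V ≃ₗ[ZMod 2] p.lz.V), Wf L → Wf M → Acts φ L f → Acts φ M f →
      L = M := by
    intro L M f hL hM hLf hMf
    refine eq_of_lin hL hM fun v => ?_
    have h1 := hLf (φ.e.symm v)
    rw [hMf, φ.e.apply_symm_apply] at h1
    exact h1.symm
  have hc1 : ∀ x ∈ q.X, x ≠ 1 → ∀ l ∈ t.L.map (fun l => l.1), Acts φ l x → cond1 t l = true := by
    intro x hx hx1 l hl hlx
    have hwl := hLwf l hl
    rw [cond1, Bool.and_eq_true, Bool.and_eq_true, decide_eq_true_eq, decide_eq_true_eq,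
      List.all_eq_true]
    refine ⟨⟨?_, ?_⟩, ?_⟩
    · rintro rfl
      exact hx1 (Acts.ext hlx Acts.one)
    · refine heq _ _ (x * x) (wf_mul hwl hwl) wf_id (Acts.mul hlx hlx) ?_
      rw [q.X_sq hx]; exact Acts.one
    · intro cc hcc
      rw [decide_eq_true_eq]
      obtain ⟨h1, h2, h3, h4⟩ := ht.C cc hcc
      obtain ⟨k, hk, hkL⟩ := hInH cc.1 h1
      have hkinv : Acts φ (prodL cc.2) k⁻¹ := by
        intro v
        have h5 := hkL (k⁻¹ v)
        have h6 : k (k⁻¹ v) = v := by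
          show (k * k⁻¹) v = v
          rw [mul_inv_cancel]; rfl
        -- `lin (prodL cc.1)` is injective with inverse `lin (prodL cc.2)`
        obtain ⟨k', hk', hkL'⟩ := hInH cc.2 h2
        have h7 : k * k' = 1 := Acts.ext (φ := φ) (h3 ▸ Acts.mul hkL' hkL) Acts.one
        have h8 : k⁻¹ = k' := inv_eq_of_mul_eq_one_right h7
        rw [h8]; exact hkL' v
      have hkfix : k q.va = q.va := by
        apply φ.e.injective
        rw [hkL, hqr, lin_vec, h4]
      have hy : k * x * k⁻¹ ∈ q.X := q.X_normal hk hkfix hx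
      have hyL : Acts φ (mulL (mulL (prodL cc.2) l) (prodL cc.1)) (k * x * k⁻¹) := by
        have := Acts.mul (Acts.mul hkinv hlx) hkL
        rwa [← mul_assoc] at this
      have hwy := wf_mul (wf_mul (hgNwf _ h2) hwl) (hgNwf _ h1)
      refine heq _ _ (k * x * k⁻¹ * x) (wf_mul hwl hwy) (wf_mul hwy hwl) (Acts.mul hlx hyL) ?_
      rw [q.X_comm hy hx]
      exact Acts.mul hyL hlx
  -- counting
  have hcount : ∀ (P : List ℕ → Bool), (∀ x ∈ q.X, x ≠ 1 → ∀ l ∈ t.L.map (fun l => l.1), Acts φ l x →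
      P l = true) → Nat.card q.X ≤ ((t.L.map fun l => l.1).filter P).length + 1 := by
    intro P hP
    choose F hF1 hF2 using hstab
    have hinj : Function.Injective (fun x : q.X => F x x.2) := by
      intro x y hxy
      apply Subtype.ext
      refine Acts.ext (φ := φ) (hF2 x x.2) ?_
      have : F x x.2 = F y y.2 := hxy
      rw [this]; exact hF2 y y.2
    have hmem : ∀ x : q.X, F x x.2 ∈ insert (F 1 (one_mem _)) ((t.L.map fun l => l.1).filter P).toFinset := by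
      intro x
      by_cases hx1 : (x : p.lz.V ≃ₗ[ZMod 2] p.lz.V) = 1
      · have : x = 1 := Subtype.ext hx1
        rw [this]
        exact Finset.mem_insert_self _ _
      · apply Finset.mem_insert_of_mem
        rw [List.mem_toFinset, List.mem_filter]
        exact ⟨hF1 x x.2, hP x x.2 hx1 _ (hF1 x x.2) (hF2 x x.2)⟩
    have h1 : Nat.card q.X ≤ (insert (F 1 (one_mem _)) ((t.L.map fun l => l.1).filter P).toFinset).card := by
      have : Fintype q.X := Fintype.ofFinite _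
      rw [Nat.card_eq_fintype_card, ← Finset.card_univ]
      exact Finset.card_le_card_of_injOn (fun x : q.X => F x x.2) (fun x _ => hmem x) hinj.injOn
    calc Nat.card q.X ≤ _ := h1
      _ ≤ ((t.L.map fun l => l.1).filter P).toFinset.card + 1 := Finset.card_insert_le _ _
      _ ≤ _ := Nat.add_le_add_right (List.toFinset_card_le _) 1
  have hX := q.card_X
  rw [hV] at hX
  have h16 : Nat.card q.D * Nat.card q.D ≤ 256 := by
    rw [← hV]
    exact Perp.card_sq_le q.lz q.D fun v hv w hw => q.b_D hv hw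
  have hn1 := hcount (fun l => cond1 t l) hc1
  have hlen1 := ht.cnt1
  have hlen2 := ht.cnt2
  have hDle : Nat.card q.D ≤ 16 := by
    by_contra hcon
    push Not at hcon
    have := Nat.mul_le_mul hcon hcon
    omega
  by_cases hD16 : Nat.card q.D = 16
  · have hc2 : ∀ x ∈ q.X, x ≠ 1 → ∀ l ∈ t.L.map (fun l => l.1), Acts φ l x → cond2 t l = true := by
      intro x hx hx1 l hl hlx
      rw [cond2, Bool.and_eq_true]
      refine ⟨hc1 x hx hx1 l hl hlx, ?_⟩
      obtain ⟨v, hv⟩ := act_trivial q (by rw [hD16, hV]) hx hx1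
      obtain ⟨n, hn, hnv⟩ := exists_code (φ.e v)
      rw [List.any_eq_true]
      refine ⟨n, List.mem_range.2 hn, ?_⟩
      rw [decide_eq_true_eq]
      have h1 : vec (ap l n ^^^ n) = vec t.r := by
        rw [vec_xor, ← lin_vec, ← hnv, ← hlx, ← map_add, hv, hqr]
      refine vec_inj _ ?_ _ ht.rlt h1
      exact Nat.xor_lt_two_pow (n := 8) (ap_lt (hLwf l hl).2 n) hn
    have hn2 := hcount (fun l => cond2 t l) hc2
    rw [hD16] at hX
    omega
  · have hdvd : Nat.card q.D ∣ 2 ^ 8 :=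
      ⟨Nat.card q.X * 2, by rw [show (2 : ℕ) ^ 8 = 256 by norm_num, ← hX]; ring⟩
    obtain ⟨k, hk, hkD⟩ := (Nat.dvd_prime_pow Nat.prime_two).1 hdvd
    have hk3 : k ≤ 3 := by
      by_contra hcon
      push Not at hcon
      have h1 : 2 ^ 4 ≤ 2 ^ k := Nat.pow_le_pow_right (by norm_num) hcon
      rw [← hkD] at h1
      omega
    rw [hkD] at hX
    have h2 : 2 ^ k ≤ 2 ^ 3 := Nat.pow_le_pow_right (by norm_num) hk3
    have h3 : Nat.card q.X * 2 ^ k ≤ 15 * 8 := Nat.mul_le_mul (by omega) h2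
    omega

end Cfsg.Agent.LargeExtra.KillNine.Pts
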