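import Cfsg.Agent.LargeExtra.KillNine.Pts

/-!
# The conjugates of `z` in `Q` for `confD4` (helper441, generated)
-/

set_option autoImplicit false
set_option maxRecDepth 1000000

namespace Cfsg.Agent.LargeExtra.KillNine.PtsD4

open Cfsg.Agent.Co2Type.Quad Cfsg.Agent.LargeExtra.Base Cfsg.Agent.LargeExtra.Nine
open Cfsg.Agent.LargeExtra.KillNine.Pts Cfsg.Agent.LargeExtra.KillNine.Codes

variable {G : Type*} [Group G] {Q A : Subgroup G} {z a : G}

def g0 : List ℕ := [1,2,4,9,153,36,66,129]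
def g1 : List ℕ := [1,2,5,9,215,45,67,130]
def g2 : List ℕ := [1,3,4,9,179,37,74,132]
def g3 : List ℕ := [215,128,20,48,16,24,80,2]
def g4 : List ℕ := [63,144,134,96,16,88,80,18]
def g5 : List ℕ := [245,208,190,112,16,72,80,66]
def g6 : List ℕ := [1,12,14,8,16,96,40,206]

/-- the points of `confD4` -/
def orb : List ℕ := [
    1, 16, 63, 93, 123, 153, 179, 215, 245]

def s0_0 : List ℕ := [1,2,10,15,93,174,192,67]
def s0_1 : List ℕ := [1,2,12,7,215,224,128,193]

def T0 : List (ℕ × List ℕ × List ℕ) := [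
  (2,idL,idL), (3,[1,3,4,9,179,37,74,132],[1,3,4,9,179,37,74,132]),
  (128,[215,128,20,48,16,24,80,2],[215,128,20,48,16,24,80,2]),
  (144,[63,144,134,96,16,88,80,18],[63,144,134,96,16,88,80,18]),
  (208,[245,208,190,112,16,72,80,66],[245,208,190,112,16,72,80,66]),
  (12,[1,12,14,8,16,96,40,206],[1,6,10,8,16,72,104,236]),
  (87,[215,87,20,231,93,219,224,22],[123,132,183,150,179,186,249,3]),
  (175,[63,175,134,95,245,225,160,148],[153,55,131,111,179,240,249,176]),
  (37,[245,37,190,133,63,3,240,252],[93,125,28,220,179,67,249,73]),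
  (13,[1,13,14,9,179,111,44,192],[1,7,10,9,179,67,102,230]),
  (129,[93,129,157,189,153,144,219,2],[215,128,20,231,245,12,208,213]),
  (130,[16,130,210,250,215,222,148,2],[215,128,195,231,1,235,7,130]),
  (132,[123,132,183,150,179,186,249,3],[215,87,20,231,93,219,224,22]),
  (18,[123,18,150,72,16,112,64,144],[123,18,150,72,16,112,64,144]),
  (66,[153,66,174,88,16,96,64,208],[153,66,174,88,16,96,64,208]),
  (206,[245,206,30,112,16,24,56,12],[215,148,176,48,16,96,120,110]),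
  (24,[179,24,135,102,153,210,219,155],[63,144,134,95,93,222,192,45]),
  (85,[245,85,133,110,215,157,148,213],[63,144,185,95,123,129,255,130]),
  (55,[153,55,131,111,179,240,249,176],[63,175,134,95,245,225,160,148]),
  (82,[179,82,44,24,16,48,64,192],[179,82,44,24,16,48,64,192]),
  (222,[123,222,204,72,16,48,56,28],[63,22,240,96,16,48,104,252]),
  (90,[123,90,51,255,153,75,219,64],[245,208,190,133,215,246,128,183]),
  (22,[63,22,118,185,215,74,148,65],[245,208,75,133,153,115,117,146]),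
  (125,[93,125,28,220,179,67,249,73],[245,37,190,133,63,3,240,252]),
  (246,[153,246,180,88,16,32,56,36],[245,110,160,112,16,32,104,148]),
  (36,[215,36,164,48,16,72,40,246],[153,236,26,88,16,24,120,6]),
  (230,[63,230,118,96,16,8,56,52],[93,252,224,32,16,112,120,22]),
  (6,[1,6,10,8,16,72,104,236],[1,12,14,8,16,96,40,206]),
  (220,[93,220,157,224,215,80,231,159],[123,132,183,237,93,13,125,120]),
  (146,[16,146,210,234,153,28,236,208],[123,132,204,237,1,224,6,135]),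
  (255,[123,255,183,237,245,118,235,180],[123,255,183,237,245,118,235,180]),
  (105,[123,105,150,51,153,157,26,6],[215,176,48,67,179,220,74,55]),
  (219,[153,219,174,193,123,87,90,126],[63,73,175,240,179,111,74,125]),
  (59,[245,59,30,133,63,243,134,18],[123,51,18,150,179,111,213,97]),
  (171,[179,171,135,213,123,230,165,28],[153,55,131,246,245,115,206,41]),
  (160,[245,160,133,155,63,237,175,80],[153,55,26,246,215,133,87,135]),
  (174,[153,174,131,246,93,234,161,51],[153,174,131,246,93,234,161,51]),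
  (225,[179,225,44,171,1,175,10,236],[16,250,40,186,179,150,74,206]),
  (165,[123,165,204,51,153,135,174,208],[153,180,88,111,179,150,102,85]),
  (33,[123,33,51,132,179,3,126,115],[93,125,28,129,123,95,132,20]),
  (41,[63,41,118,134,245,3,59,55],[93,125,65,129,63,222,217,52]),
  (32,[93,32,28,129,153,2,88,85],[93,32,28,129,153,2,88,85]),
  (111,[153,111,180,193,123,13,150,144],[93,97,161,220,179,37,102,51]),
  (243,[215,243,164,231,93,59,60,82],[63,230,185,240,179,186,213,7]),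
  (217,[63,217,118,95,245,65,190,66],[245,85,235,37,179,220,213,180]),
  (7,[1,7,10,9,179,67,102,230],[1,13,14,9,179,111,44,192]),
  (131,[153,131,88,117,93,85,28,2],[215,128,195,48,179,40,135,85]),
  (133,[245,133,59,30,63,55,118,3],[215,87,20,48,123,207,183,193]),
  (213,[179,213,225,249,245,18,37,128],[179,213,225,249,245,18,37,128]),
  (45,[153,45,219,131,93,2,157,144],[93,32,65,220,245,194,37,117]),
  (183,[123,183,105,33,215,82,87,208],[63,240,95,41,245,55,37,80]),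
  (207,[63,207,217,185,215,222,243,12],[215,148,103,231,245,55,59,250]),
  (135,[179,135,126,82,123,115,51,3],[215,87,195,48,63,255,96,65]),
  (194,[16,194,250,146,245,252,208,12],[215,67,103,231,1,224,11,74]),
  (148,[215,148,115,20,245,170,85,175],[245,75,85,59,93,90,189,10]),
  (252,[93,252,129,60,63,186,207,37],[179,171,52,102,93,7,189,183]),
  (192,[93,192,189,220,179,186,159,13],[215,67,176,231,93,7,220,222]),
  (155,[245,155,30,75,153,255,66,24],[123,18,150,51,179,230,82,235]),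
  (176,[215,176,48,67,179,220,74,55],[123,105,150,51,153,157,26,6]),
  (28,[93,28,220,32,16,88,40,222],[123,132,90,72,16,8,120,126]),
  (64,[16,64,170,210,153,102,66,90],[153,66,174,193,1,206,2,73]),
  (65,[93,65,161,157,215,110,67,22],[153,66,55,193,245,15,155,146]),
  (73,[63,73,175,240,179,111,74,125],[153,219,174,193,123,87,90,126]),
  (204,[123,204,150,255,153,144,180,13],[215,148,176,231,153,208,236,185]),
  (52,[179,52,102,24,16,112,40,230],[179,126,74,24,16,88,104,132]),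
  (236,[153,236,26,88,16,24,120,6],[215,36,164,48,16,72,40,246]),
  (186,[16,186,130,104,63,126,118,60],[63,175,134,96,1,103,15,171]),
  (112,[245,112,59,30,93,194,157,205],[245,112,59,30,93,194,157,205]),
  (96,[63,96,217,118,215,210,87,7],[215,176,231,67,93,159,157,80]),
  (249,[179,249,171,126,123,219,132,235],[179,249,171,126,123,219,132,235]),
  (11,[1,11,9,6,153,105,236,73],[1,6,14,5,123,160,132,111]),
  (75,[245,75,85,59,93,90,189,10],[215,148,115,20,245,170,85,175]),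
  (97,[93,97,189,65,245,10,85,90],[93,97,189,65,245,10,85,90]),
  (195,[215,195,103,243,63,74,207,26],[153,193,246,180,245,255,85,15]),
  (115,[215,115,195,67,179,150,159,190],[63,41,240,95,245,255,30,12]),
  (150,[123,150,33,222,215,250,67,193],[179,82,159,171,93,183,161,146]),
  (250,[16,250,40,186,179,150,74,206],[179,225,44,171,1,175,10,236]),
  (159,[179,159,249,52,93,73,28,67],[245,208,75,112,123,56,165,103]),
  (240,[63,240,95,41,245,55,37,80],[123,183,105,33,215,82,87,208]),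
  (224,[93,224,125,161,215,5,87,80],[93,224,125,161,215,5,87,80]),
  (60,[93,60,125,157,215,45,243,40],[245,110,85,133,215,5,243,250]),
  (180,[153,180,219,26,123,64,51,75],[245,37,75,112,93,205,32,217]),
  (126,[179,126,102,159,153,240,236,165],[179,126,102,159,153,240,236,165]),
  (193,[153,193,246,180,245,255,85,15],[215,195,103,243,63,74,207,26]),
  (51,[123,51,222,204,63,117,207,213],[123,51,222,204,63,117,207,213]),
  (95,[63,95,22,240,179,37,159,33],[245,155,160,133,63,117,118,52]),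
  (120,[16,120,56,210,153,36,180,32],[245,110,160,133,1,128,6,97]),
  (40,[16,40,170,250,215,74,36,60],[153,236,131,193,1,195,13,234]),
  (110,[245,110,160,112,16,32,104,148],[153,246,180,88,16,32,56,36]),
  (235,[245,235,190,110,215,9,243,255],[93,252,189,125,63,237,217,234]),
  (26,[153,26,88,236,16,148,234,90],[123,132,204,150,16,44,130,252]),
  (102,[179,102,225,74,1,64,9,97],[16,120,234,80,93,176,32,132]),
  (210,[16,210,250,130,215,22,128,246],[123,72,105,237,1,235,11,64]),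
  (67,[215,67,115,195,179,14,213,220],[93,65,252,157,245,243,30,10]),
  (161,[93,161,129,97,1,102,15,164],[16,170,146,104,245,6,30,20]),
  (157,[93,157,189,129,153,90,131,176],[123,72,18,237,245,6,112,115]),
  (103,[215,103,48,148,63,59,185,7],[215,103,48,148,63,59,185,7]),
  (80,[16,80,170,194,245,220,208,240],[63,73,175,207,1,192,3,66]),
  (118,[63,118,175,207,215,255,243,210],[63,118,175,207,215,255,243,210]),
  (117,[153,117,26,193,123,155,204,28],[123,33,165,150,179,67,44,95]),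
  (170,[16,170,130,120,215,236,164,190],[153,174,131,111,1,105,15,170]),
  (74,[179,74,171,205,1,195,3,64],[16,80,170,210,215,118,128,224]),
  (10,[1,10,9,7,179,97,225,64],[1,7,14,5,215,161,128,96]),
  (190,[245,190,85,206,179,250,205,95],[123,51,222,183,93,171,252,174]),
  (20,[215,20,103,36,123,250,255,125],[63,207,95,22,93,87,252,15]),
  (164,[215,164,195,148,63,130,175,125],[153,45,88,246,93,87,189,13]),
  (237,[123,237,33,165,1,160,11,224],[16,250,56,170,245,20,160,52]),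
  (234,[16,234,40,170,1,174,10,230],[16,234,40,170,1,174,10,230]),
  (44,[179,44,249,135,123,3,183,186],[93,125,65,220,215,159,164,105]),
  (189,[93,189,125,252,63,37,22,45],[245,235,208,160,123,5,255,249]),
  (205,[179,205,102,44,1,37,13,195],[16,210,104,56,63,88,230,164]),
  (88,[153,88,246,45,93,144,32,249],[123,204,105,90,153,64,193,185]),
  (72,[123,72,222,183,215,208,48,11],[215,148,115,195,153,217,193,120]),
  (104,[16,104,56,194,245,12,30,24],[93,97,161,129,1,132,7,110]),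
  (56,[16,56,170,234,153,240,246,150],[63,230,134,207,1,204,12,225]),
  (30,[245,30,190,155,63,66,118,65],[245,85,30,208,153,231,117,225]),
  (134,[63,134,240,217,245,252,190,3],[215,87,195,231,153,60,55,150]),
  (9,[1,9,13,14,179,195,102,37],[1,13,6,3,123,135,204,224]),
  (15,[1,15,3,10,245,65,160,193],[1,5,11,13,123,224,33,160]),
  (185,[63,185,96,144,153,255,45,225],[179,126,74,171,63,18,22,55]),
  (8,[1,8,13,14,123,194,105,41],[1,13,7,2,93,131,192,237]),
  (5,[1,5,9,2,215,65,128,33],[1,8,3,5,123,129,33,64]),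
  (48,[215,48,36,115,123,82,72,207],[179,225,159,24,153,155,88,13]),
  (231,[215,231,243,164,93,5,220,219],[93,224,125,252,123,120,183,13]),
  (14,[1,14,3,11,123,67,165,194],[1,5,11,12,215,235,36,161]),
  (4,[1,4,9,3,179,73,135,40],[1,9,2,5,215,133,36,74])]

def L0 : List (List ℕ × List (List ℕ)) := [
  (idL,[]), ([1,2,10,15,93,174,192,67],[s0_0]), ([1,2,12,7,215,224,128,193],[s0_1]),
  ([1,2,5,8,93,40,65,131],[s0_0,s0_1]), ([1,2,11,15,153,161,193,64],[s0_1,s0_1]),
  ([1,2,5,9,215,45,67,130],[s0_1,s0_0]), ([1,2,13,6,153,234,131,195],[s0_0,s0_0]),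
  ([1,2,13,7,93,231,129,194],[s0_0,s0_1,s0_1]), ([1,2,12,6,16,236,130,192],[s0_1,s0_1,s0_0]),
  ([1,2,10,14,16,164,194,66],[s0_0,s0_0,s0_1]), ([1,2,11,14,215,170,195,65],[s0_1,s0_0,s0_0]),
  ([1,2,4,9,153,36,66,129],[s0_0,s0_1,s0_1,s0_0])]

def W0 : List (ℕ × List (List ℕ)) := [
  (2,[]), (3,[g2]), (128,[g3]), (144,[g4]), (208,[g5]), (87,[g2,g3]), (175,[g2,g4]), (37,[g2,g5]),
  (129,[g3,g0]), (130,[g3,g1]), (132,[g3,g2]), (18,[g3,g4]), (66,[g3,g5]), (24,[g4,g0]),
  (85,[g4,g1]), (55,[g4,g2]), (82,[g4,g5]), (90,[g5,g0]), (22,[g5,g1]), (125,[g5,g2]),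
  (220,[g2,g3,g0]), (146,[g2,g3,g1]), (255,[g2,g3,g2]), (105,[g2,g3,g4]), (219,[g2,g3,g5]),
  (171,[g2,g4,g0]), (160,[g2,g4,g1]), (174,[g2,g4,g2]), (225,[g2,g4,g5]), (33,[g2,g5,g0]),
  (41,[g2,g5,g1]), (32,[g2,g5,g2]), (131,[g3,g0,g1]), (133,[g3,g0,g2]), (213,[g3,g0,g3]),
  (45,[g3,g0,g4]), (183,[g3,g0,g5]), (135,[g3,g1,g2]), (148,[g3,g2,g4]), (252,[g3,g2,g5]),
  (155,[g3,g4,g0]), (176,[g3,g4,g2]), (192,[g3,g4,g5]), (64,[g3,g5,g0]), (65,[g3,g5,g1]),
  (73,[g3,g5,g2]), (222,[g4,g0,g1]), (186,[g4,g0,g2]), (112,[g4,g0,g4]), (96,[g4,g0,g5]),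
  (249,[g4,g1,g4]), (11,[g4,g1,g5]), (75,[g4,g2,g3]), (97,[g4,g2,g4]), (195,[g4,g2,g5]),
  (217,[g4,g5,g0]), (150,[g4,g5,g1]), (250,[g4,g5,g2]), (159,[g5,g0,g1]), (243,[g5,g0,g2]),
  (240,[g5,g0,g3]), (224,[g5,g0,g5]), (180,[g5,g1,g2]), (6,[g5,g1,g4]), (126,[g5,g1,g5]),
  (193,[g5,g2,g4]), (51,[g5,g2,g5]), (26,[g2,g3,g0,g1]), (102,[g2,g3,g0,g3]), (204,[g2,g3,g0,g5]),
  (52,[g2,g3,g1,g2]), (67,[g2,g3,g2,g4]), (161,[g2,g3,g2,g5]), (110,[g2,g3,g4,g0]),
  (103,[g2,g3,g4,g2]), (157,[g2,g3,g4,g5]), (80,[g2,g3,g5,g0]), (28,[g2,g3,g5,g1]),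
  (118,[g2,g3,g5,g2]), (165,[g2,g4,g0,g1]), (170,[g2,g4,g0,g2]), (95,[g2,g4,g0,g5]),
  (74,[g2,g4,g1,g4]), (10,[g2,g4,g1,g5]), (190,[g2,g4,g2,g3]), (60,[g2,g4,g2,g4]),
  (20,[g2,g4,g2,g5]), (230,[g2,g4,g5,g0]), (237,[g2,g4,g5,g1]), (234,[g2,g4,g5,g2]),
  (44,[g2,g5,g0,g1]), (36,[g2,g5,g0,g2]), (207,[g2,g5,g0,g3]), (189,[g2,g5,g0,g5]),
  (7,[g2,g5,g1,g4]), (205,[g2,g5,g1,g5]), (88,[g2,g5,g2,g4]), (72,[g2,g5,g2,g5]),
  (134,[g3,g0,g1,g2]), (9,[g3,g0,g2,g5]), (120,[g3,g0,g3,g2]), (235,[g3,g0,g3,g4]),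
  (40,[g3,g0,g4,g0]), (115,[g3,g0,g4,g5]), (59,[g3,g0,g5,g0]), (236,[g3,g2,g4,g5]),
  (117,[g3,g4,g0,g3]), (206,[g3,g4,g5,g2]), (111,[g3,g5,g1,g4]), (15,[g3,g5,g2,g4]),
  (185,[g4,g0,g4,g1]), (8,[g4,g0,g4,g5]), (5,[g4,g2,g3,g5]), (194,[g4,g2,g5,g1]),
  (30,[g4,g5,g0,g1]), (13,[g4,g5,g0,g4]), (48,[g4,g5,g1,g2]), (56,[g5,g0,g1,g2]),
  (231,[g5,g0,g5,g0]), (164,[g5,g1,g2,g5]), (210,[g5,g1,g5,g2]), (104,[g2,g3,g0,g3,g2]),
  (246,[g2,g3,g5,g1,g4]), (14,[g2,g3,g5,g2,g4]), (4,[g2,g4,g2,g3,g5]), (12,[g2,g4,g5,g0,g4])]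

def t0 : PtData where
  r := 2
  T := T0
  S := [s0_0, s0_1]
  L := L0
  W := W0
  C := []

theorem check0 : PtCheck (confD4.X ++ confD4.N ++ confD4.M) (confD4.X ++ confD4.N) t0 := by
  constructor <;> decide +kernel

theorem cover : ∀ n ∈ List.range 256, n ≠ 0 → qs (vec n) = 0 → n ∈ orb ∨ n ∈ t0.W.map (fun w => w.1) := by
  decide +kernel

/-- every conjugate of `z` in `Q` lies over a point of `orb` -/
theorem pts [Finite G] (p : Pair Q z A a) (φ : Coord p.lz) (hc : IsConf p φ confD4) (x : Q)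
    (hx : IsConj z (x : G)) (hx0 : p.lz.pr x ≠ 0) : ∃ n ∈ orb, φ.e (p.lz.pr x) = vec n := by
  obtain ⟨n, hn, hnv⟩ := exists_code (φ.e (p.lz.pr x))
  obtain ⟨A', p', hp'⟩ := pair_of_isConj p x hx hx0
  have hq0 : qs (vec n) = 0 := by rw [← hnv, ← φ.q]; exact hp' ▸ p'.q_D p'.va_mem_D
  have hn0 : n ≠ 0 := by
    rintro rfl
    rw [vec_zero] at hnv
    exact hx0 (φ.e.map_eq_zero_iff.1 hnv)
  rcases cover n (List.mem_range.2 hn) hn0 hq0 with h1 | h1
  · exact ⟨n, h1, hnv⟩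
  · exfalso
    obtain ⟨w, hw, rfl⟩ := List.mem_map.1 h1
    exact no_pair p φ hc check0 p' ⟨w, hw, by rw [hp', hnv]⟩

end Cfsg.Agent.LargeExtra.KillNine.PtsD4
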