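import Cfsg.Agent.LargeExtra.KillNine.Pts

/-!
# The conjugates of `z` in `Q` for `confOminus` (helper441, generated)
-/

set_option autoImplicit false
set_option maxRecDepth 1000000

namespace Cfsg.Agent.LargeExtra.KillNine.PtsOminus

open Cfsg.Agent.Co2Type.Quad Cfsg.Agent.LargeExtra.Base Cfsg.Agent.LargeExtra.Nine
open Cfsg.Agent.LargeExtra.KillNine.Pts Cfsg.Agent.LargeExtra.KillNine.Codes

variable {G : Type*} [Group G] {Q A : Subgroup G} {z a : G}

def g0 : List ℕ := [1,2,4,9,144,36,66,128]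
def g1 : List ℕ := [1,2,5,8,80,40,64,130]
def g2 : List ℕ := [1,3,4,8,51,33,72,132]
def g3 : List ℕ := [123,144,20,36,16,28,194,18]
def g4 : List ℕ := [235,144,150,118,16,220,194,18]
def g5 : List ℕ := [225,210,56,52,16,32,128,64]
def g6 : List ℕ := [1,2,8,4,16,32,128,64]

/-- the points of `confOminus` -/
def orb : List ℕ := [
    1, 2, 3, 16, 51, 80, 123, 144, 183, 210, 225, 231, 235, 236, 252]

def s0_0 : List ℕ := [1,3,4,9,183,37,75,132]
def s0_1 : List ℕ := [1,3,4,15,51,161,207,132]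

def T0 : List (ℕ × List ℕ × List ℕ) := [
  (4,idL,idL), (5,[1,2,5,8,80,40,64,130],[1,2,5,8,80,40,64,130]),
  (20,[123,144,20,36,16,28,194,18],[123,144,20,36,16,28,194,18]),
  (150,[235,144,150,118,16,220,194,18],[235,144,150,118,16,220,194,18]),
  (56,[225,210,56,52,16,32,128,64],[225,210,56,52,16,32,128,64]),
  (8,[1,2,8,4,16,32,128,64],[1,2,8,4,16,32,128,64]),
  (111,[123,144,111,36,210,56,194,130],[51,210,85,45,80,93,192,82]),
  (125,[235,144,125,118,210,170,194,130],[225,210,213,63,80,159,192,82]),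
  (217,[225,210,217,52,144,20,128,146],[235,144,112,125,80,40,130,64]),
  (9,[1,2,9,4,144,36,128,66],[1,2,8,5,80,40,130,64]),
  (148,[252,16,148,32,144,157,192,146],[123,144,20,95,2,8,82,18]),
  (85,[51,210,85,45,80,93,192,82],[123,144,111,36,210,56,194,130]),
  (55,[80,183,55,37,51,63,207,48],[123,235,20,36,231,103,230,6]),
  (134,[3,2,134,74,16,240,64,128],[3,2,134,74,16,240,64,128]),
  (40,[183,80,40,24,16,28,18,194],[183,80,40,24,16,28,18,194]),
  (24,[183,80,24,40,16,28,194,18],[123,144,36,20,16,28,18,194]),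
  (22,[236,16,22,240,144,95,192,146],[235,144,150,157,2,74,82,18]),
  (213,[225,210,213,63,80,159,192,82],[235,144,125,118,210,170,194,130]),
  (176,[231,183,176,93,51,243,207,48],[235,123,150,118,183,55,180,132]),
  (186,[231,80,186,90,16,220,18,194],[231,80,186,90,16,220,18,194]),
  (90,[231,80,90,186,16,220,194,18],[235,144,118,150,16,220,18,194]),
  (189,[231,80,189,176,144,36,128,66],[225,210,56,213,80,24,82,64]),
  (112,[235,144,112,125,80,40,130,64],[225,210,217,52,144,20,128,146]),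
  (26,[236,252,26,22,51,33,132,72],[225,51,56,52,3,193,180,120]),
  (52,[225,210,52,56,16,32,64,128],[225,210,52,56,16,32,64,128]),
  (36,[123,144,36,20,16,28,18,194],[183,80,24,40,16,28,194,18]),
  (118,[235,144,118,150,16,220,18,194],[231,80,90,186,16,220,194,18]),
  (104,[252,16,104,32,80,189,192,130],[51,210,85,30,2,8,18,82]),
  (102,[51,210,102,45,144,112,192,128],[51,210,102,45,144,112,192,128]),
  (103,[80,183,103,37,252,26,207,135],[51,225,85,45,236,110,237,7]),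
  (133,[3,2,133,74,80,186,64,130],[3,2,133,74,80,186,64,130]),
  (159,[183,80,159,24,2,4,18,146],[252,16,32,88,80,93,82,192]),
  (175,[183,80,175,40,210,52,194,66],[51,210,45,85,80,93,82,192]),
  (250,[236,16,250,240,80,175,192,130],[225,210,213,222,2,74,18,82]),
  (87,[231,183,87,93,252,174,207,135],[225,51,213,63,252,126,255,135]),
  (93,[231,80,93,90,2,134,18,146],[236,16,240,26,80,159,82,192]),
  (155,[235,144,155,125,210,85,130,208],[235,144,155,125,210,85,130,208]),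
  (246,[236,252,246,22,183,55,132,180],[235,123,112,125,3,195,255,48]),
  (95,[123,144,95,20,2,8,18,82],[252,16,88,32,80,93,192,82]),
  (157,[235,144,157,150,2,74,18,82],[236,16,26,240,80,159,192,82]),
  (215,[183,80,215,40,210,222,194,208],[123,144,111,95,80,87,82,130]),
  (179,[210,51,179,33,183,186,204,180],[123,235,20,95,225,115,13,6]),
  (88,[252,16,88,32,80,93,192,82],[123,144,95,20,2,8,18,82]),
  (126,[16,252,126,44,123,118,204,120],[123,235,111,36,1,67,230,237]),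
  (73,[3,2,73,205,144,125,192,66],[3,2,206,133,210,56,130,194]),
  (153,[51,210,153,45,144,157,192,146],[123,144,36,111,210,56,130,194]),
  (243,[210,225,243,115,231,215,11,12],[210,225,243,115,231,215,11,12]),
  (33,[210,51,33,161,183,87,75,204],[51,225,30,153,231,55,11,12]),
  (59,[144,123,59,249,3,15,255,48],[252,236,164,148,231,103,6,230]),
  (131,[2,3,131,67,51,222,72,132],[3,1,134,74,225,243,10,6]),
  (170,[51,210,170,102,16,240,128,64],[51,210,170,102,16,240,128,64]),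
  (74,[3,2,74,134,16,240,128,64],[3,2,74,134,16,240,128,64]),
  (45,[51,210,45,153,144,157,146,192],[183,80,40,175,210,52,66,194]),
  (32,[252,16,32,88,80,93,82,192],[183,80,159,24,2,4,18,146]),
  (41,[144,123,41,59,51,63,48,207],[183,231,40,24,235,171,10,234]),
  (30,[51,225,30,153,231,55,11,12],[210,51,33,161,183,87,75,204]),
  (222,[225,51,222,217,183,103,75,204],[225,51,222,217,183,103,75,204]),
  (63,[225,210,63,217,144,95,146,192],[231,80,186,189,210,102,66,194]),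
  (240,[236,16,240,26,80,159,82,192],[231,80,93,90,2,134,18,146]),
  (206,[3,2,206,133,210,56,130,194],[3,2,73,205,144,125,192,66]),
  (14,[1,2,14,5,210,170,130,194],[1,2,9,15,144,111,192,66]),
  (164,[252,236,164,148,231,103,6,230],[144,123,59,249,3,15,255,48]),
  (37,[80,183,37,55,51,63,48,207],[183,231,24,40,235,171,234,10]),
  (96,[183,80,96,40,16,246,194,128],[51,210,102,30,16,22,18,128]),
  (97,[210,51,97,33,123,155,204,135],[51,225,85,30,235,59,12,7]),
  (110,[16,252,110,44,183,90,204,132],[51,225,102,45,1,67,237,230]),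
  (171,[144,123,171,249,252,246,255,75],[183,231,175,215,236,110,7,237]),
  (129,[2,3,129,67,123,157,72,135],[3,1,133,74,235,185,10,7]),
  (220,[252,16,220,88,2,5,82,208],[252,16,220,88,2,5,82,208]),
  (185,[144,123,185,59,3,4,48,180],[252,236,32,88,225,161,10,224]),
  (28,[236,16,28,26,2,133,82,208],[236,16,28,26,2,133,82,208]),
  (205,[3,2,205,133,80,189,130,192],[3,2,73,206,210,52,194,66]),
  (15,[1,2,15,5,80,175,130,192],[1,2,9,14,210,102,194,66]),
  (117,[80,183,117,55,3,8,48,120],[252,236,88,32,225,161,224,10]),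
  (249,[144,123,249,41,252,240,207,255],[123,235,111,95,236,44,13,237]),
  (219,[123,144,219,20,2,14,18,208],[252,16,88,104,80,87,130,82]),
  (245,[80,231,245,103,225,170,224,10],[80,231,245,103,225,170,224,10]),
  (165,[80,183,165,55,51,56,48,72],[183,231,24,96,225,161,224,10]),
  (67,[2,3,67,193,123,150,204,72],[3,1,205,134,225,115,6,13]),
  (115,[210,51,115,33,123,118,204,120],[123,235,95,20,225,115,6,13]),
  (190,[16,252,190,44,183,186,204,180],[123,235,36,111,1,67,237,230]),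
  (65,[2,3,65,193,183,87,204,75],[3,1,206,133,235,59,7,12]),
  (195,[2,1,195,131,235,219,7,12],[2,1,67,195,231,215,12,11]),
  (193,[2,3,193,129,123,155,135,204],[3,1,73,206,231,55,12,11]),
  (105,[144,123,105,185,183,176,180,132],[183,231,96,159,225,33,13,224]),
  (160,[123,144,160,111,80,186,130,64],[51,210,153,102,144,150,128,146]),
  (174,[16,252,174,110,51,222,132,72],[51,225,170,102,1,195,230,234]),
  (44,[16,252,44,190,183,186,180,204],[183,231,40,175,1,131,237,234]),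
  (60,[16,236,60,190,235,20,10,12],[210,225,33,161,1,133,234,237]),
  (161,[210,225,161,179,235,111,7,234],[144,235,59,249,231,159,6,11])]

def L0 : List (List ℕ × List (List ℕ)) := [
  (idL,[]), ([1,3,4,9,183,37,75,132],[s0_0]), ([1,3,4,15,51,161,207,132],[s0_1]),
  ([1,2,4,9,144,36,66,128],[s0_1,s0_1]), ([1,2,4,15,144,160,192,128],[s0_1,s0_0]),
  ([1,2,4,14,16,164,194,128],[s0_0,s0_1]), ([1,3,4,8,51,33,72,132],[s0_0,s0_1,s0_1]),
  ([1,3,4,14,183,165,204,132],[s0_0,s0_1,s0_0])]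

def W0 : List (ℕ × List (List ℕ)) := [
  (4,[]), (5,[g1]), (20,[g3]), (150,[g4]), (56,[g5]), (111,[g1,g3]), (125,[g1,g4]), (217,[g1,g5]),
  (148,[g3,g0]), (85,[g3,g1]), (55,[g3,g2]), (134,[g3,g4]), (40,[g3,g5]), (22,[g4,g0]),
  (213,[g4,g1]), (176,[g4,g2]), (186,[g4,g5]), (189,[g5,g0]), (112,[g5,g1]), (26,[g5,g2]),
  (104,[g1,g3,g0]), (102,[g1,g3,g1]), (103,[g1,g3,g2]), (133,[g1,g3,g4]), (159,[g1,g3,g5]),
  (250,[g1,g4,g0]), (52,[g1,g4,g1]), (87,[g1,g4,g2]), (93,[g1,g4,g5]), (90,[g1,g5,g0]),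
  (155,[g1,g5,g1]), (246,[g1,g5,g2]), (215,[g3,g0,g1]), (179,[g3,g0,g2]), (126,[g3,g1,g2]),
  (175,[g3,g1,g4]), (73,[g3,g1,g5]), (243,[g3,g2,g3]), (33,[g3,g2,g4]), (59,[g3,g2,g5]),
  (131,[g3,g4,g2]), (170,[g3,g4,g5]), (45,[g3,g5,g0]), (32,[g3,g5,g1]), (41,[g3,g5,g2]),
  (9,[g4,g1,g5]), (30,[g4,g2,g3]), (222,[g4,g2,g4]), (63,[g4,g5,g0]), (240,[g4,g5,g1]),
  (157,[g4,g5,g2]), (206,[g5,g1,g3]), (14,[g5,g1,g4]), (164,[g5,g2,g3]), (96,[g1,g3,g0,g1]),
  (97,[g1,g3,g0,g2]), (110,[g1,g3,g1,g2]), (24,[g1,g3,g1,g4]), (74,[g1,g3,g1,g5]),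
  (171,[g1,g3,g2,g5]), (129,[g1,g3,g4,g2]), (153,[g1,g3,g4,g5]), (220,[g1,g3,g5,g1]),
  (185,[g1,g3,g5,g2]), (8,[g1,g4,g1,g5]), (28,[g1,g4,g5,g1]), (118,[g1,g4,g5,g2]),
  (205,[g1,g5,g1,g3]), (15,[g1,g5,g1,g4]), (88,[g1,g5,g2,g3]), (249,[g3,g0,g1,g2]),
  (219,[g3,g0,g1,g5]), (245,[g3,g0,g2,g3]), (165,[g3,g0,g2,g4]), (67,[g3,g0,g2,g5]),
  (95,[g3,g1,g4,g5]), (65,[g3,g1,g5,g2]), (117,[g3,g2,g3,g0]), (195,[g3,g2,g3,g5]),
  (37,[g3,g2,g4,g0]), (193,[g3,g2,g4,g5]), (190,[g3,g2,g5,g0]), (115,[g3,g2,g5,g1]),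
  (105,[g3,g4,g2,g4]), (160,[g3,g4,g5,g1]), (174,[g3,g4,g5,g2]), (36,[g3,g5,g0,g1]),
  (44,[g3,g5,g0,g2]), (60,[g4,g2,g3,g2]), (161,[g5,g2,g3,g2])]

def t0 : PtData where
  r := 4
  T := T0
  S := [s0_0, s0_1]
  L := L0
  W := W0
  C := []

theorem check0 : PtCheck (confOminus.X ++ confOminus.N ++ confOminus.M) (confOminus.X ++ confOminus.N) t0 := by
  constructor <;> decide +kernel

def s1_0 : List ℕ := [235,144,150,155,2,206,208,18]
def s1_1 : List ℕ := [235,144,150,118,16,220,194,18]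
def s1_2 : List ℕ := [236,252,250,28,123,185,204,120]

def T1 : List (ℕ × List ℕ × List ℕ) := [
  (6,idL,idL), (7,[1,2,5,8,80,40,64,130],[1,2,5,8,80,40,64,130]),
  (132,[123,144,20,36,16,28,194,18],[123,144,20,36,16,28,194,18]),
  (234,[225,210,56,52,16,32,128,64],[225,210,56,52,16,32,128,64]),
  (10,[1,2,8,4,16,32,128,64],[1,2,8,4,16,32,128,64]),
  (255,[123,144,111,36,210,56,194,130],[51,210,85,45,80,93,192,82]),
  (237,[235,144,125,118,210,170,194,130],[225,210,213,63,80,159,192,82]),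
  (11,[225,210,217,52,144,20,128,146],[235,144,112,125,80,40,130,64]),
  (135,[51,210,85,45,80,93,192,82],[123,144,111,36,210,56,194,130]),
  (128,[80,183,55,37,51,63,207,48],[123,235,20,36,231,103,230,6]),
  (120,[183,80,40,24,16,28,18,194],[183,80,40,24,16,28,18,194]),
  (72,[183,80,24,40,16,28,194,18],[123,144,36,20,16,28,18,194]),
  (224,[235,144,112,125,80,40,130,64],[225,210,217,52,144,20,128,146]),
  (230,[236,252,26,22,51,33,132,72],[225,51,56,52,3,193,180,120]),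
  (180,[123,144,36,20,16,28,18,194],[183,80,24,40,16,28,194,18]),
  (208,[80,183,103,37,252,26,207,135],[51,225,85,45,236,110,237,7]),
  (207,[183,80,159,24,2,4,18,146],[252,16,32,88,80,93,82,192]),
  (13,[231,80,93,90,2,134,18,146],[236,16,240,26,80,159,82,192]),
  (130,[16,252,126,44,123,118,204,120],[123,235,111,36,1,67,230,237]),
  (75,[3,2,73,205,144,125,192,66],[3,2,206,133,210,56,130,194]),
  (18,[210,225,243,115,231,215,11,12],[210,225,243,115,231,215,11,12]),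
  (64,[144,123,59,249,3,15,255,48],[252,236,164,148,231,103,6,230]),
  (48,[252,16,32,88,80,93,82,192],[183,80,159,24,2,4,18,146]),
  (82,[144,123,41,59,51,63,48,207],[183,231,40,24,235,171,10,234]),
  (204,[3,2,206,133,210,56,130,194],[3,2,73,205,144,125,192,66]),
  (12,[1,2,14,5,210,170,130,194],[1,2,9,15,144,111,192,66]),
  (146,[80,183,37,55,51,63,48,207],[183,231,24,40,235,171,234,10]),
  (192,[210,225,33,115,236,164,11,237],[144,235,185,59,236,148,11,13]),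
  (194,[144,123,185,59,3,4,48,180],[252,236,32,88,225,161,10,224]),
  (66,[16,252,190,44,183,186,204,180],[123,235,36,111,1,67,237,230])]

def L1 : List (List ℕ × List (List ℕ)) := [
  (idL,[]), ([236,252,250,28,123,185,204,120],[s1_2]), ([235,144,150,155,2,206,208,18],[s1_0]),
  ([235,144,150,118,16,220,194,18],[s1_1]), ([236,16,22,26,2,205,82,146],[s1_1,s1_0]),
  ([236,252,250,240,3,67,48,120],[s1_2,s1_1]), ([1,3,5,8,123,41,72,135],[s1_1,s1_2]),
  ([1,3,5,15,252,174,207,135],[s1_0,s1_2]), ([1,2,4,15,144,160,192,128],[s1_0,s1_1]),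
  ([235,144,150,157,2,74,82,18],[s1_2,s1_2]), ([236,16,22,240,144,95,192,146],[s1_0,s1_0]),
  ([1,2,4,9,144,36,66,128],[s1_1,s1_0,s1_0]), ([236,16,22,246,144,219,66,146],[s1_0,s1_2,s1_2]),
  ([1,3,5,9,252,44,75,135],[s1_2,s1_2,s1_2]), ([235,123,125,155,252,190,75,255],[s1_0,s1_2,s1_1]),
  ([236,252,250,246,3,193,180,120],[s1_0,s1_1,s1_2]),
  ([236,16,22,28,2,73,208,146],[s1_0,s1_0,s1_1]), ([1,3,5,14,123,171,204,135],[s1_2,s1_1,s1_0]),
  ([1,2,4,14,16,164,194,128],[s1_0,s1_0,s1_0]), ([235,123,125,118,3,65,180,255],[s1_0,s1_0,s1_2]),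
  ([235,144,150,112,16,88,64,18],[s1_0,s1_0,s1_0,s1_1]),
  ([236,252,250,26,123,59,72,120],[s1_0,s1_0,s1_0,s1_2]),
  ([235,123,125,157,252,60,207,255],[s1_0,s1_0,s1_1,s1_2]),
  ([235,123,125,112,3,195,48,255],[s1_0,s1_2,s1_2,s1_2])]

def W1 : List (ℕ × List (List ℕ)) := [
  (6,[]), (7,[g1]), (132,[g3]), (234,[g5]), (255,[g1,g3]), (237,[g1,g4]), (11,[g1,g5]),
  (135,[g3,g1]), (128,[g3,g2]), (120,[g3,g5]), (224,[g5,g1]), (230,[g5,g2]), (180,[g1,g3,g1]),
  (208,[g1,g3,g2]), (207,[g1,g3,g5]), (13,[g1,g4,g5]), (10,[g1,g5,g0]), (130,[g3,g1,g2]),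
  (75,[g3,g1,g5]), (18,[g3,g2,g3]), (64,[g3,g2,g5]), (48,[g3,g5,g1]), (82,[g3,g5,g2]),
  (204,[g5,g1,g3]), (12,[g5,g1,g4]), (72,[g5,g2,g3]), (146,[g1,g3,g1,g2]), (192,[g1,g3,g2,g3]),
  (194,[g1,g3,g5,g2]), (66,[g3,g1,g5,g2])]

def t1 : PtData where
  r := 6
  T := T1
  S := [s1_0, s1_1, s1_2]
  L := L1
  W := W1
  C := [([g0], [g0])]

theorem check1 : PtCheck (confOminus.X ++ confOminus.N ++ confOminus.M) (confOminus.X ++ confOminus.N) t1 := by
  constructor <;> decide +kernel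

theorem cover : ∀ n ∈ List.range 256, n ≠ 0 → qs (vec n) = 0 → n ∈ orb ∨ n ∈ t0.W.map (fun w => w.1) ∨ n ∈ t1.W.map (fun w => w.1) := by
  decide +kernel

/-- every conjugate of `z` in `Q` lies over a point of `orb` -/
theorem pts [Finite G] (p : Pair Q z A a) (φ : Coord p.lz) (hc : IsConf p φ confOminus) (x : Q)
    (hx : IsConj z (x : G)) (hx0 : p.lz.pr x ≠ 0) : ∃ n ∈ orb, φ.e (p.lz.pr x) = vec n := by
  obtain ⟨n, hn, hnv⟩ := exists_code (φ.e (p.lz.pr x))
  obtain ⟨A', p', hp'⟩ := pair_of_isConj p x hx hx0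
  have hq0 : qs (vec n) = 0 := by rw [← hnv, ← φ.q]; exact hp' ▸ p'.q_D p'.va_mem_D
  have hn0 : n ≠ 0 := by
    rintro rfl
    rw [vec_zero] at hnv
    exact hx0 (φ.e.map_eq_zero_iff.1 hnv)
  rcases cover n (List.mem_range.2 hn) hn0 hq0 with h1 | h1 | h1
  · exact ⟨n, h1, hnv⟩
  · exfalso
    obtain ⟨w, hw, rfl⟩ := List.mem_map.1 h1
    exact no_pair p φ hc check0 p' ⟨w, hw, by rw [hp', hnv]⟩
  · exfalso
    obtain ⟨w, hw, rfl⟩ := List.mem_map.1 h1
    exact no_pair p φ hc check1 p' ⟨w, hw, by rw [hp', hnv]⟩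

end Cfsg.Agent.LargeExtra.KillNine.PtsOminus
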