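import Cfsg.Agent.LargeExtra.KillNine.Pts

/-!
# The conjugates of `z` in `Q` for `confPO83` (helper441, generated)
-/

set_option autoImplicit false
set_option maxRecDepth 1000000

namespace Cfsg.Agent.LargeExtra.KillNine.PtsPO83

open Cfsg.Agent.Co2Type.Quad Cfsg.Agent.LargeExtra.Base Cfsg.Agent.LargeExtra.Nine
open Cfsg.Agent.LargeExtra.KillNine.Pts Cfsg.Agent.LargeExtra.KillNine.Codes

variable {G : Type*} [Group G] {Q A : Subgroup G} {z a : G}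

def g0 : List ℕ := [1,2,4,9,144,36,66,128]
def g1 : List ℕ := [1,2,5,8,80,40,64,130]
def g2 : List ℕ := [1,3,4,8,48,32,72,132]
def g3 : List ℕ := [65,8,30,2,16,192,64,96]
def g4 : List ℕ := [33,30,8,4,16,32,160,96]
def g5 : List ℕ := [165,24,14,18,16,204,90,102]
def g6 : List ℕ := [1,4,2,14,16,194,164,128]
def g7 : List ℕ := [1,8,14,2,16,194,64,104]
def g8 : List ℕ := [1,4,2,9,144,66,36,128]
def g9 : List ℕ := [1,2,14,8,16,104,64,194]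

/-- the points of `confPO83` -/
def orb : List ℕ := [
    1, 2, 3, 4, 5, 8, 9, 14, 15, 16, 18, 20, 24, 30, 33, 37, 41, 44, 48, 51, 52, 56, 63, 65, 67,
    73, 74, 80, 82, 85, 88, 95, 97, 103, 105, 110, 112, 118, 120, 123, 125, 129, 131, 133, 134,
    144, 146, 148, 153, 159, 161, 165, 171, 174, 176, 180, 183, 186, 189, 193, 195, 205, 206, 208,
    210, 215, 219, 220, 224, 225, 230, 231, 234, 235, 236, 237, 240, 246, 250, 252, 255]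

def s0_0 : List ℕ := [144,112,118,237,110,175,45,22]
def s0_1 : List ℕ := [134,118,112,133,110,59,185,22]
def s0_2 : List ℕ := [129,131,133,159,105,59,93,7]

def T0 : List (ℕ × List ℕ × List ℕ) := [
  (6,idL,idL), (7,[1,2,5,8,80,40,64,130],[1,2,5,8,80,40,64,130]),
  (22,[65,8,30,2,16,192,64,96],[65,8,30,2,16,192,64,96]),
  (12,[1,2,14,8,16,104,64,194],[1,2,14,8,16,104,64,194]),
  (87,[65,8,95,2,80,194,64,104],[65,8,95,2,80,194,64,104]),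
  (55,[33,30,41,4,176,36,160,126],[41,95,8,5,80,40,170,104]),
  (179,[165,24,171,18,74,222,90,126],[174,88,15,82,80,207,26,111]),
  (13,[1,2,15,8,80,96,64,192],[1,2,15,8,80,96,64,192]),
  (150,[67,9,159,2,144,194,66,102],[65,8,30,67,112,222,72,96]),
  (28,[65,8,20,2,16,130,64,40],[65,8,20,2,16,130,64,40]),
  (11,[1,4,15,9,144,111,36,160],[1,14,2,9,210,66,102,194]),
  (213,[67,9,220,2,210,192,66,111],[65,8,95,67,56,157,72,104]),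
  (126,[73,8,118,3,120,207,72,96],[65,73,95,2,146,194,66,55]),
  (135,[129,4,131,30,176,222,160,132],[131,5,2,95,80,194,170,130]),
  (249,[255,18,235,24,74,36,90,132],[180,82,85,88,80,117,26,213]),
  (93,[65,8,85,2,80,128,64,32],[65,8,85,2,80,128,64,32]),
  (111,[105,20,123,14,186,194,170,130],[97,85,82,15,80,207,160,213]),
  (117,[105,20,97,14,186,102,170,60],[41,95,82,5,80,135,170,157]),
  (185,[165,24,161,18,74,150,90,60],[174,88,5,82,80,135,26,45]),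
  (45,[33,30,51,4,176,128,160,192],[97,85,8,15,80,96,160,32]),
  (10,[1,4,14,9,180,102,36,164],[1,15,2,9,144,66,111,192]),
  (102,[9,67,37,8,112,40,72,150],[9,67,37,8,112,40,72,150]),
  (96,[231,183,215,24,118,36,66,128],[225,51,85,120,112,117,115,128]),
  (222,[67,9,215,2,210,128,66,36],[65,8,85,67,112,213,72,32]),
  (157,[67,9,148,2,144,130,66,45],[65,8,20,67,56,150,72,40]),
  (60,[73,8,52,3,48,135,72,40],[65,73,20,2,146,130,66,60]),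
  (155,[37,9,146,4,144,132,36,75],[65,20,8,67,56,72,150,40]),
  (75,[65,30,85,67,112,213,222,160],[103,9,215,14,210,164,102,36]),
  (59,[33,8,51,37,112,179,40,64],[67,215,9,2,210,66,128,36]),
  (175,[165,14,161,183,118,55,194,170],[131,219,5,220,210,175,179,40]),
  (132,[3,2,134,73,146,117,66,128],[3,2,134,73,146,117,66,128]),
  (130,[133,4,134,63,148,243,164,128],[131,134,2,95,146,194,245,128]),
  (207,[195,14,193,20,186,150,170,204],[131,5,88,95,80,55,170,45]),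
  (243,[255,18,225,24,74,102,90,204],[180,82,95,88,80,55,26,157]),
  (190,[37,9,183,4,180,128,36,66],[65,85,8,67,112,72,213,32]),
  (104,[110,148,252,15,63,192,175,130],[97,85,82,110,133,157,245,213]),
  (245,[110,146,103,15,95,96,207,217],[41,82,95,44,205,245,213,157]),
  (90,[193,153,195,148,41,22,185,217],[174,5,88,252,125,66,130,45]),
  (40,[37,159,183,4,52,128,164,194],[97,85,8,110,112,104,245,32]),
  (36,[41,95,123,5,250,130,170,194],[97,85,105,15,240,111,160,117]),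
  (72,[67,159,215,2,82,128,194,164],[97,8,85,110,112,245,104,32]),
  (26,[33,8,18,37,88,150,40,72],[67,148,9,2,144,66,130,45]),
  (128,[183,231,103,18,134,222,72,96],[146,120,110,51,112,243,115,6]),
  (194,[159,37,231,30,206,96,190,40],[148,110,67,85,112,213,245,157]),
  (204,[3,2,206,73,208,55,66,194],[3,2,205,73,146,126,66,192]),
  (192,[237,18,210,189,220,213,72,222],[235,144,95,219,146,104,155,157]),
  (217,[44,9,208,5,210,135,45,75],[65,20,73,67,174,11,150,60]),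
  (115,[205,3,112,14,120,102,204,75],[65,67,95,20,56,170,150,157]),
  (66,[73,63,125,74,88,249,243,164],[103,110,215,14,118,164,104,243]),
  (170,[161,15,165,51,240,179,192,175],[131,219,5,95,250,170,104,40]),
  (164,[174,15,171,252,63,126,192,160],[131,219,134,220,97,115,179,243]),
  (32,[44,220,252,5,125,130,175,192],[97,85,105,110,133,6,245,117]),
  (64,[153,193,129,120,123,6,13,155],[153,129,161,120,125,11,6,157]),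
  (160,[30,65,225,159,171,102,93,75],[148,67,110,193,237,155,150,157])]

def L0 : List (List ℕ × List (List ℕ)) := [
  (idL,[]), ([129,131,133,159,105,59,93,7],[s0_2]), ([134,118,112,133,110,59,185,22],[s0_1]),
  ([144,112,118,237,110,175,45,22],[s0_0]), ([1,9,15,3,255,207,75,111],[s0_1,s0_2]),
  ([134,246,240,3,255,204,72,150],[s0_2,s0_0]), ([16,234,236,240,105,204,170,104],[s0_1,s0_0]),
  ([110,15,9,250,255,36,160,111],[s0_0,s0_2]), ([120,236,234,231,1,40,72,104],[s0_0,s0_1]),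
  ([16,234,236,224,1,32,64,104],[s0_1,s0_1]), ([120,236,234,159,105,194,164,104],[s0_0,s0_0]),
  ([134,5,3,118,120,207,175,135],[s0_2,s0_2]), ([144,230,224,125,129,32,164,128],[s0_2,s0_1]),
  ([144,125,123,224,129,64,32,249],[s0_1,s0_2,s0_0]), ([1,5,3,9,255,75,45,135],[s0_0,s0_2,s0_1]),
  ([144,123,125,230,129,164,194,249],[s0_0,s0_1,s0_2]),
  ([105,97,103,20,134,190,60,7],[s0_0,s0_1,s0_1]),
  ([105,125,123,8,120,64,32,249],[s0_1,s0_0,s0_2]),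
  ([16,252,250,224,129,160,192,126],[s0_2,s0_0,s0_0]),
  ([134,3,5,240,255,170,204,135],[s0_1,s0_2,s0_1]),
  ([255,24,30,20,16,190,60,126],[s0_0,s0_2,s0_2]),
  ([110,9,15,148,144,175,45,111],[s0_1,s0_1,s0_0]), ([1,4,2,9,144,66,36,128],[s0_2,s0_2,s0_2]),
  ([1,15,9,2,144,66,192,111],[s0_0,s0_1,s0_0]), ([110,103,97,148,134,59,185,7],[s0_1,s0_1,s0_1]),
  ([120,146,148,159,144,59,93,22],[s0_2,s0_1,s0_1]),
  ([16,230,224,234,1,64,194,128],[s0_2,s0_2,s0_0]),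
  ([110,103,97,250,129,90,222,7],[s0_1,s0_0,s0_1]),
  ([16,246,240,234,105,170,40,150],[s0_2,s0_2,s0_1]),
  ([110,9,15,250,255,160,36,111],[s0_1,s0_0,s0_0]),
  ([16,252,250,240,255,90,60,126],[s0_2,s0_0,s0_1]), ([1,14,8,2,16,64,194,104],[s0_2,s0_0,s0_2]),
  ([1,15,9,3,255,75,207,111],[s0_0,s0_0,s0_0]),
  ([105,123,125,103,129,217,185,249],[s0_0,s0_2,s0_0]),
  ([129,30,24,2,16,66,192,126],[s0_1,s0_2,s0_2]),
  ([144,123,125,118,120,217,185,249],[s0_0,s0_0,s0_2]),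
  ([120,146,148,231,134,175,207,22],[s0_2,s0_1,s0_0]),
  ([105,125,123,97,129,59,93,249],[s0_1,s0_1,s0_2]),
  ([105,97,103,125,129,217,93,7],[s0_0,s0_0,s0_1]),
  ([1,2,4,9,144,36,66,128],[s0_1,s0_0,s0_1,s0_1]),
  ([129,153,159,2,144,194,64,249],[s0_0,s0_2,s0_0,s0_1]),
  ([1,8,14,3,120,204,72,104],[s0_2,s0_1,s0_1,s0_0]),
  ([120,153,159,146,144,93,217,249],[s0_0,s0_1,s0_2,s0_1]),
  ([255,18,20,24,16,60,90,150],[s0_0,s0_1,s0_1,s0_0]),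
  ([255,18,20,231,134,40,72,150],[s0_0,s0_0,s0_1,s0_0]),
  ([129,4,2,159,144,194,164,128],[s0_0,s0_0,s0_1,s0_1]),
  ([134,5,3,240,255,204,170,135],[s0_0,s0_0,s0_0,s0_1]),
  ([134,112,118,3,120,207,75,22],[s0_2,s0_2,s0_2,s0_1]),
  ([134,240,246,131,105,222,90,150],[s0_1,s0_2,s0_2,s0_2]),
  ([105,18,20,97,134,60,90,150],[s0_2,s0_0,s0_0,s0_2]),
  ([110,97,103,250,129,222,90,7],[s0_2,s0_0,s0_1,s0_0]),
  ([144,235,237,112,110,45,75,111],[s0_2,s0_0,s0_2,s0_0]),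
  ([105,103,97,125,129,93,217,7],[s0_2,s0_2,s0_0,s0_2]),
  ([144,123,125,224,129,32,64,249],[s0_0,s0_0,s0_0,s0_0]),
  ([129,24,30,131,110,222,90,126],[s0_0,s0_1,s0_0,s0_2]),
  ([120,146,148,225,134,45,75,22],[s0_0,s0_2,s0_0,s0_2]),
  ([16,246,240,236,105,204,72,150],[s0_0,s0_2,s0_2,s0_2]),
  ([105,14,8,20,16,40,170,104],[s0_2,s0_1,s0_0,s0_1]),
  ([1,3,5,9,255,45,75,135],[s0_1,s0_0,s0_0,s0_1]),
  ([144,237,235,118,110,207,175,111],[s0_1,s0_2,s0_2,s0_1]),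
  ([120,231,225,236,1,204,72,135],[s0_0,s0_1,s0_1,s0_2]),
  ([1,3,5,8,120,40,72,135],[s0_1,s0_1,s0_0,s0_1]),
  ([255,225,231,235,1,207,75,135],[s0_1,s0_1,s0_1,s0_2]),
  ([120,225,231,234,1,40,170,135],[s0_0,s0_0,s0_2,s0_0]),
  ([129,159,153,133,105,185,59,249],[s0_1,s0_0,s0_2,s0_1]),
  ([120,231,225,148,134,45,175,135],[s0_0,s0_0,s0_1,s0_2]),
  ([129,133,131,30,110,222,190,7],[s0_2,s0_2,s0_2,s0_2]),
  ([120,225,231,146,134,207,75,135],[s0_0,s0_1,s0_2,s0_0]),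
  ([105,14,8,125,120,32,164,104],[s0_2,s0_1,s0_1,s0_1]),
  ([129,131,133,24,110,60,90,7],[s0_0,s0_2,s0_2,s0_0]),
  ([120,148,146,231,134,207,175,22],[s0_1,s0_1,s0_2,s0_2]),
  ([255,225,231,20,134,40,170,135],[s0_0,s0_2,s0_0,s0_0]),
  ([255,231,225,18,134,204,72,135],[s0_1,s0_1,s0_2,s0_0]),
  ([120,148,146,159,144,93,59,22],[s0_1,s0_0,s0_2,s0_2]),
  ([105,20,18,103,134,222,190,150],[s0_1,s0_0,s0_1,s0_0]),
  ([105,125,123,103,129,185,217,249],[s0_1,s0_0,s0_0,s0_0]),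
  ([144,123,125,112,120,93,59,249],[s0_0,s0_1,s0_0,s0_0]),
  ([129,159,153,4,144,32,164,249],[s0_1,s0_1,s0_2,s0_1]),
  ([255,231,225,237,1,45,175,135],[s0_1,s0_0,s0_2,s0_0]),
  ([110,97,103,148,134,185,59,7],[s0_2,s0_0,s0_0,s0_0]),
  ([129,153,159,131,105,93,217,249],[s0_2,s0_0,s0_2,s0_2]),
  ([134,133,131,112,110,93,59,7],[s0_1,s0_2,s0_2,s0_0]),
  ([255,235,237,30,110,192,160,111],[s0_0,s0_2,s0_2,s0_1]),
  ([16,224,230,250,129,36,160,128],[s0_1,s0_2,s0_1,s0_0]),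
  ([105,20,18,14,16,204,170,150],[s0_1,s0_1,s0_1,s0_0]),
  ([16,240,246,250,255,222,90,150],[s0_1,s0_2,s0_1,s0_1]),
  ([144,118,112,125,120,93,217,22],[s0_2,s0_2,s0_2,s0_0]),
  ([110,148,146,97,134,93,59,22],[s0_1,s0_2,s0_0,s0_2]),
  ([1,8,14,2,16,194,64,104],[s0_2,s0_1,s0_0,s0_0]),
  ([129,4,2,30,16,192,160,128],[s0_0,s0_1,s0_1,s0_1]),
  ([255,30,24,235,110,36,160,126],[s0_1,s0_1,s0_0,s0_2]),
  ([134,131,133,118,110,185,217,7],[s0_2,s0_0,s0_2,s0_1]),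
  ([110,146,148,103,134,185,217,22],[s0_0,s0_1,s0_2,s0_2]),
  ([255,30,24,20,16,60,190,126],[s0_1,s0_0,s0_0,s0_2]),
  ([105,125,123,14,120,194,164,249],[s0_1,s0_1,s0_0,s0_0]),
  ([120,159,153,148,144,185,59,249],[s0_1,s0_2,s0_0,s0_1]),
  ([110,15,9,148,144,45,175,111],[s0_2,s0_0,s0_0,s0_1]),
  ([110,146,148,9,144,45,75,22],[s0_0,s0_0,s0_2,s0_2]),
  ([129,24,30,2,16,192,66,126],[s0_0,s0_0,s0_0,s0_2]),
  ([105,18,20,8,16,40,72,150],[s0_2,s0_0,s0_1,s0_2]),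
  ([110,252,250,103,129,222,190,126],[s0_2,s0_2,s0_1,s0_1]),
  ([110,252,250,9,255,36,66,126],[s0_2,s0_2,s0_1,s0_0]),
  ([144,237,235,230,1,36,66,111],[s0_2,s0_1,s0_0,s0_2]),
  ([120,153,159,234,105,194,64,249],[s0_0,s0_0,s0_2,s0_1]),
  ([129,30,24,131,110,90,222,126],[s0_0,s0_1,s0_1,s0_0,s0_0]),
  ([144,237,235,112,110,75,45,111],[s0_2,s0_1,s0_0,s0_0,s0_0]),
  ([1,14,8,3,120,72,204,104],[s0_0,s0_0,s0_2,s0_2,s0_1]),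
  ([120,234,236,159,105,164,194,104],[s0_2,s0_0,s0_1,s0_2,s0_2]),
  ([255,231,225,235,1,75,207,135],[s0_1,s0_1,s0_0,s0_0,s0_0]),
  ([105,20,18,8,16,72,40,150],[s0_0,s0_0,s0_1,s0_2,s0_1]),
  ([134,246,240,131,105,90,222,150],[s0_0,s0_0,s0_0,s0_2,s0_2]),
  ([120,236,234,153,105,64,32,104],[s0_1,s0_1,s0_1,s0_0,s0_2]),
  ([255,30,24,18,16,90,222,126],[s0_2,s0_0,s0_0,s0_2,s0_0]),
  ([134,240,246,133,105,190,60,150],[s0_1,s0_1,s0_0,s0_1,s0_1]),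
  ([16,240,246,252,255,190,60,150],[s0_1,s0_1,s0_0,s0_2,s0_2]),
  ([255,237,235,30,110,160,192,111],[s0_0,s0_0,s0_2,s0_2,s0_2]),
  ([110,252,250,97,129,90,60,126],[s0_0,s0_2,s0_2,s0_2,s0_1]),
  ([16,234,236,246,105,72,40,104],[s0_0,s0_1,s0_1,s0_0,s0_2]),
  ([144,125,123,112,120,59,93,249],[s0_1,s0_1,s0_2,s0_1,s0_1]),
  ([134,133,131,240,105,90,60,7],[s0_0,s0_1,s0_1,s0_1,s0_2]),
  ([110,252,250,15,255,160,192,126],[s0_0,s0_2,s0_2,s0_2,s0_0]),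
  ([134,118,112,3,120,75,207,22],[s0_0,s0_0,s0_1,s0_1,s0_0]),
  ([1,5,3,8,120,72,40,135],[s0_0,s0_1,s0_2,s0_1,s0_0]),
  ([129,2,4,159,144,164,194,128],[s0_1,s0_0,s0_2,s0_0,s0_0]),
  ([144,230,224,235,1,160,36,128],[s0_0,s0_0,s0_1,s0_2,s0_2]),
  ([120,159,153,234,105,64,194,249],[s0_1,s0_2,s0_2,s0_1,s0_0]),
  ([110,146,148,15,144,175,207,22],[s0_0,s0_1,s0_0,s0_0,s0_2]),
  ([16,234,236,230,1,164,194,104],[s0_0,s0_0,s0_1,s0_0,s0_2]),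
  ([144,112,118,125,120,217,93,22],[s0_0,s0_0,s0_1,s0_1,s0_1]),
  ([129,4,2,153,144,64,32,128],[s0_1,s0_1,s0_1,s0_2,s0_0]),
  ([134,240,246,3,255,72,204,150],[s0_1,s0_0,s0_0,s0_1,s0_1]),
  ([1,8,14,4,16,164,32,104],[s0_0,s0_2,s0_0,s0_2,s0_0]),
  ([144,235,237,118,110,175,207,111],[s0_0,s0_0,s0_0,s0_2,s0_1]),
  ([16,236,234,224,1,64,32,104],[s0_2,s0_2,s0_2,s0_1,s0_0]),
  ([129,159,153,131,105,217,93,249],[s0_1,s0_1,s0_0,s0_0,s0_1]),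
  ([105,14,8,123,120,64,194,104],[s0_0,s0_2,s0_2,s0_2,s0_2]),
  ([129,133,131,153,105,217,185,7],[s0_1,s0_1,s0_0,s0_2,s0_0]),
  ([129,153,159,133,105,59,185,249],[s0_0,s0_2,s0_2,s0_1,s0_0]),
  ([144,224,230,125,129,164,32,128],[s0_0,s0_0,s0_2,s0_0,s0_2]),
  ([1,3,5,14,120,170,204,135],[s0_1,s0_2,s0_0,s0_1,s0_0]),
  ([134,131,133,112,110,59,93,7],[s0_0,s0_0,s0_0,s0_2,s0_0]),
  ([120,231,225,146,134,75,207,135],[s0_2,s0_1,s0_0,s0_2,s0_1]),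
  ([134,133,131,118,110,217,185,7],[s0_0,s0_0,s0_1,s0_1,s0_2]),
  ([120,159,153,146,144,217,93,249],[s0_2,s0_1,s0_0,s0_2,s0_0]),
  ([134,246,240,5,255,170,40,150],[s0_0,s0_1,s0_0,s0_2,s0_2]),
  ([120,153,159,148,144,59,185,249],[s0_0,s0_0,s0_0,s0_0,s0_1]),
  ([120,225,231,148,134,175,45,135],[s0_0,s0_0,s0_0,s0_0,s0_0]),
  ([134,112,118,131,110,217,93,22],[s0_0,s0_2,s0_0,s0_1,s0_2]),
  ([110,146,148,97,134,59,93,22],[s0_0,s0_0,s0_0,s0_0,s0_2]),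
  ([16,246,240,250,255,90,222,150],[s0_0,s0_0,s0_0,s0_1,s0_1]),
  ([120,225,231,236,1,72,204,135],[s0_0,s0_1,s0_0,s0_0,s0_0]),
  ([134,112,118,5,120,175,45,22],[s0_2,s0_0,s0_2,s0_2,s0_2]),
  ([105,8,14,125,120,164,32,104],[s0_0,s0_0,s0_2,s0_2,s0_0]),
  ([16,240,246,236,105,72,204,150],[s0_1,s0_0,s0_0,s0_2,s0_2]),
  ([1,2,4,14,16,164,194,128],[s0_0,s0_0,s0_1,s0_2,s0_0]),
  ([255,235,237,231,1,175,207,111],[s0_1,s0_2,s0_0,s0_2,s0_2]),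
  ([16,250,252,246,255,190,222,126],[s0_1,s0_2,s0_2,s0_2,s0_0]),
  ([255,231,225,20,134,170,40,135],[s0_1,s0_0,s0_0,s0_0,s0_0]),
  ([255,18,20,225,134,170,204,150],[s0_1,s0_1,s0_1,s0_2,s0_1]),
  ([110,148,146,9,144,75,45,22],[s0_1,s0_2,s0_1,s0_0,s0_1]),
  ([129,2,4,30,16,160,192,128],[s0_1,s0_0,s0_0,s0_1,s0_2]),
  ([129,24,30,4,16,160,36,126],[s0_2,s0_0,s0_0,s0_2,s0_1]),
  ([255,24,30,235,110,160,36,126],[s0_0,s0_1,s0_1,s0_0,s0_1]),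
  ([134,3,5,118,120,175,207,135],[s0_1,s0_1,s0_2,s0_1,s0_0]),
  ([144,118,112,235,110,75,207,22],[s0_1,s0_2,s0_0,s0_1,s0_2]),
  ([1,2,4,15,144,160,192,128],[s0_0,s0_1,s0_1,s0_2,s0_0]),
  ([255,30,24,237,110,66,192,126],[s0_2,s0_0,s0_1,s0_2,s0_0]),
  ([134,5,3,246,255,72,40,135],[s0_0,s0_2,s0_2,s0_0,s0_2]),
  ([134,5,3,112,120,75,45,135],[s0_0,s0_2,s0_0,s0_1,s0_0]),
  ([129,133,131,24,110,90,60,7],[s0_1,s0_0,s0_0,s0_2,s0_0]),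
  ([134,131,133,246,105,190,222,7],[s0_0,s0_1,s0_0,s0_2,s0_0]),
  ([120,236,234,225,1,170,204,104],[s0_1,s0_0,s0_1,s0_0,s0_2]),
  ([255,237,235,225,1,75,45,111],[s0_0,s0_1,s0_2,s0_2,s0_2]),
  ([255,235,237,24,110,66,36,111],[s0_2,s0_1,s0_0,s0_1,s0_0]),
  ([110,250,252,103,129,190,222,126],[s0_1,s0_2,s0_1,s0_1,s0_0]),
  ([120,231,225,234,1,170,40,135],[s0_1,s0_2,s0_2,s0_1,s0_1]),
  ([255,18,20,30,16,190,222,150],[s0_0,s0_2,s0_0,s0_0,s0_1]),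
  ([16,236,234,240,105,170,204,104],[s0_2,s0_2,s0_2,s0_1,s0_1]),
  ([16,224,230,252,129,66,192,128],[s0_1,s0_1,s0_1,s0_2,s0_2]),
  ([120,234,236,231,1,72,40,104],[s0_2,s0_0,s0_0,s0_2,s0_2]),
  ([120,153,159,236,105,164,32,249],[s0_0,s0_1,s0_0,s0_0,s0_1]),
  ([1,8,14,5,120,170,40,104],[s0_1,s0_2,s0_2,s0_2,s0_2]),
  ([16,230,224,250,129,160,36,128],[s0_0,s0_0,s0_0,s0_1,s0_0]),
  ([144,230,224,123,129,64,194,128],[s0_0,s0_1,s0_1,s0_2,s0_2]),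
  ([129,159,153,2,144,64,194,249],[s0_1,s0_0,s0_0,s0_0,s0_1]),
  ([255,20,18,24,16,90,60,150],[s0_1,s0_1,s0_2,s0_0,s0_1]),
  ([144,235,237,230,1,66,36,111],[s0_0,s0_1,s0_0,s0_2,s0_1]),
  ([16,250,252,230,129,66,36,126],[s0_1,s0_2,s0_2,s0_2,s0_1]),
  ([110,148,146,103,134,217,185,22],[s0_1,s0_2,s0_1,s0_0,s0_0]),
  ([105,20,18,97,134,90,60,150],[s0_0,s0_1,s0_1,s0_2,s0_1]),
  ([105,18,20,103,134,190,222,150],[s0_0,s0_0,s0_2,s0_0,s0_1]),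
  ([105,18,20,14,16,170,204,150],[s0_0,s0_1,s0_2,s0_0,s0_1]),
  ([105,123,125,14,120,164,194,249],[s0_0,s0_1,s0_2,s0_1,s0_1]),
  ([105,14,8,18,16,72,204,104],[s0_0,s0_2,s0_0,s0_2,s0_1]),
  ([105,8,14,20,16,170,40,104],[s0_0,s0_1,s0_2,s0_2,s0_0]),
  ([1,4,2,8,16,64,32,128],[s0_0,s0_0,s0_0,s0_1,s0_2]),
  ([129,131,133,30,110,190,222,7],[s0_1,s0_0,s0_1,s0_1,s0_2]),
  ([255,20,18,231,134,72,40,150],[s0_1,s0_0,s0_2,s0_0,s0_1]),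
  ([129,24,30,133,110,190,60,126],[s0_2,s0_0,s0_1,s0_2,s0_1]),
  ([16,224,230,236,1,164,32,128],[s0_0,s0_2,s0_0,s0_0,s0_2]),
  ([129,4,2,24,16,66,36,128],[s0_0,s0_2,s0_0,s0_0,s0_0]),
  ([120,148,146,153,144,217,185,22],[s0_1,s0_1,s0_0,s0_0,s0_2]),
  ([1,3,5,15,255,175,207,135],[s0_1,s0_2,s0_2,s0_0,s0_2]),
  ([144,237,235,224,1,160,192,111],[s0_0,s0_2,s0_0,s0_2,s0_2]),
  ([120,148,146,225,134,75,45,22],[s0_1,s0_0,s0_0,s0_0,s0_2]),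
  ([110,250,252,9,255,66,36,126],[s0_1,s0_2,s0_1,s0_1,s0_1]),
  ([144,224,230,237,1,66,192,128],[s0_0,s0_1,s0_2,s0_0,s0_2]),
  ([255,225,231,237,1,175,45,135],[s0_0,s0_2,s0_2,s0_1,s0_1]),
  ([16,240,246,234,105,40,170,150],[s0_0,s0_0,s0_1,s0_1,s0_2,s0_0]),
  ([105,123,125,8,120,32,64,249],[s0_0,s0_0,s0_0,s0_0,s0_1,s0_1]),
  ([255,235,237,225,1,45,75,111],[s0_0,s0_1,s0_1,s0_0,s0_1,s0_1]),
  ([134,3,5,112,120,45,75,135],[s0_1,s0_0,s0_0,s0_0,s0_1,s0_0]),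
  ([134,240,246,5,255,40,170,150],[s0_0,s0_1,s0_1,s0_0,s0_0,s0_2]),
  ([255,237,235,24,110,36,66,111],[s0_0,s0_1,s0_0,s0_0,s0_2,s0_2]),
  ([110,250,252,15,255,192,160,126],[s0_1,s0_0,s0_0,s0_2,s0_2,s0_0]),
  ([255,237,235,231,1,207,175,111],[s0_0,s0_0,s0_0,s0_0,s0_2,s0_2]),
  ([110,250,252,97,129,60,90,126],[s0_0,s0_2,s0_0,s0_2,s0_2,s0_2]),
  ([105,123,125,97,129,93,59,249],[s0_0,s0_1,s0_0,s0_0,s0_1,s0_1]),
  ([255,24,30,237,110,192,66,126],[s0_0,s0_0,s0_1,s0_2,s0_1,s0_0]),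
  ([16,236,234,230,1,194,164,104],[s0_0,s0_2,s0_0,s0_1,s0_2,s0_1]),
  ([134,3,5,246,255,40,72,135],[s0_1,s0_0,s0_0,s0_2,s0_0,s0_2]),
  ([1,14,8,5,120,40,170,104],[s0_0,s0_0,s0_0,s0_2,s0_2,s0_2]),
  ([129,131,133,153,105,185,217,7],[s0_0,s0_0,s0_1,s0_2,s0_0,s0_2]),
  ([144,125,123,118,120,185,217,249],[s0_1,s0_0,s0_0,s0_0,s0_1,s0_1]),
  ([1,9,15,2,144,192,66,111],[s0_0,s0_0,s0_1,s0_1,s0_0,s0_2]),
  ([16,246,240,252,255,60,190,150],[s0_0,s0_1,s0_0,s0_2,s0_0,s0_0]),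
  ([144,230,224,237,1,192,66,128],[s0_0,s0_1,s0_2,s0_1,s0_0,s0_0]),
  ([134,112,118,133,110,185,59,22],[s0_0,s0_0,s0_0,s0_1,s0_2,s0_1]),
  ([129,133,131,159,105,93,59,7],[s0_0,s0_0,s0_0,s0_1,s0_2,s0_2]),
  ([129,2,4,24,16,36,66,128],[s0_1,s0_0,s0_0,s0_0,s0_0,s0_0]),
  ([144,235,237,224,1,192,160,111],[s0_0,s0_0,s0_2,s0_2,s0_1,s0_0]),
  ([120,234,236,153,105,32,64,104],[s0_0,s0_1,s0_2,s0_0,s0_1,s0_2]),
  ([16,250,252,240,255,60,90,126],[s0_0,s0_0,s0_2,s0_2,s0_2,s0_2]),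
  ([120,146,148,153,144,185,217,22],[s0_0,s0_0,s0_1,s0_2,s0_2,s0_0]),
  ([255,20,18,225,134,204,170,150],[s0_1,s0_1,s0_0,s0_0,s0_0,s0_1]),
  ([129,30,24,133,110,60,190,126],[s0_0,s0_0,s0_1,s0_2,s0_1,s0_1]),
  ([144,224,230,235,1,36,160,128],[s0_0,s0_0,s0_0,s0_0,s0_0,s0_2]),
  ([144,112,118,235,110,207,75,22],[s0_0,s0_0,s0_0,s0_0,s0_1,s0_2]),
  ([134,246,240,133,105,60,190,150],[s0_0,s0_1,s0_2,s0_1,s0_0,s0_1]),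
  ([105,97,103,123,129,185,59,7],[s0_0,s0_2,s0_0,s0_0,s0_2,s0_2]),
  ([144,112,118,123,120,185,59,22],[s0_0,s0_1,s0_0,s0_0,s0_1,s0_2]),
  ([16,230,224,236,1,32,164,128],[s0_0,s0_0,s0_0,s0_2,s0_0,s0_1]),
  ([255,24,30,18,16,222,90,126],[s0_0,s0_1,s0_1,s0_2,s0_1,s0_0]),
  ([129,2,4,153,144,32,64,128],[s0_1,s0_1,s0_0,s0_0,s0_0,s0_0]),
  ([16,252,250,230,129,36,66,126],[s0_0,s0_0,s0_0,s0_2,s0_2,s0_1]),
  ([134,133,131,246,105,222,190,7],[s0_0,s0_1,s0_1,s0_0,s0_0,s0_0]),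
  ([1,4,2,15,144,192,160,128],[s0_0,s0_1,s0_0,s0_0,s0_0,s0_0]),
  ([120,234,236,225,1,204,170,104],[s0_0,s0_0,s0_2,s0_0,s0_1,s0_2]),
  ([105,97,103,18,134,222,90,7],[s0_0,s0_2,s0_2,s0_2,s0_1,s0_0]),
  ([144,118,112,237,110,45,175,22],[s0_0,s0_0,s0_0,s0_1,s0_2,s0_0]),
  ([134,118,112,131,110,93,217,22],[s0_0,s0_0,s0_1,s0_2,s0_0,s0_1]),
  ([110,148,146,15,144,207,175,22],[s0_0,s0_2,s0_0,s0_0,s0_2,s0_0]),
  ([144,125,123,230,129,194,164,249],[s0_1,s0_1,s0_0,s0_0,s0_1,s0_1]),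
  ([1,15,9,5,255,45,175,111],[s0_0,s0_2,s0_0,s0_1,s0_2,s0_2]),
  ([16,252,250,246,255,222,190,126],[s0_0,s0_0,s0_0,s0_2,s0_2,s0_0]),
  ([110,9,15,252,255,192,66,111],[s0_0,s0_1,s0_1,s0_0,s0_2,s0_0]),
  ([1,5,3,14,120,204,170,135],[s0_0,s0_0,s0_0,s0_0,s0_1,s0_0]),
  ([134,131,133,240,105,60,90,7],[s0_0,s0_0,s0_2,s0_2,s0_1,s0_1]),
  ([1,5,3,15,255,207,175,135],[s0_0,s0_0,s0_0,s0_2,s0_0,s0_2]),
  ([105,103,97,20,134,60,190,7],[s0_0,s0_0,s0_0,s0_1,s0_0,s0_2]),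
  ([16,236,234,246,105,40,72,104],[s0_0,s0_2,s0_0,s0_1,s0_2,s0_0]),
  ([16,230,224,252,129,192,66,128],[s0_0,s0_1,s0_0,s0_2,s0_0,s0_1]),
  ([105,8,14,123,120,194,64,104],[s0_0,s0_1,s0_0,s0_0,s0_2,s0_0]),
  ([110,9,15,146,144,207,75,111],[s0_0,s0_0,s0_1,s0_0,s0_2,s0_0]),
  ([129,30,24,4,16,36,160,126],[s0_0,s0_1,s0_1,s0_2,s0_1,s0_1]),
  ([110,103,97,252,129,60,190,7],[s0_0,s0_0,s0_1,s0_2,s0_2,s0_2]),
  ([1,4,2,14,16,194,164,128],[s0_0,s0_0,s0_0,s0_0,s0_0,s0_0]),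
  ([110,103,97,146,134,93,217,7],[s0_0,s0_0,s0_1,s0_0,s0_2,s0_1]),
  ([134,118,112,5,120,45,175,22],[s0_0,s0_1,s0_1,s0_2,s0_0,s0_1]),
  ([105,8,14,18,16,204,72,104],[s0_0,s0_0,s0_0,s0_0,s0_2,s0_0]),
  ([144,224,230,123,129,194,64,128],[s0_0,s0_1,s0_0,s0_0,s0_0,s0_2]),
  ([16,250,252,224,129,192,160,126],[s0_0,s0_1,s0_2,s0_2,s0_2,s0_2]),
  ([1,14,8,4,16,32,164,104],[s0_0,s0_0,s0_0,s0_0,s0_2,s0_1]),
  ([255,20,18,30,16,222,190,150],[s0_1,s0_0,s0_0,s0_0,s0_0,s0_1]),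
  ([16,224,230,234,1,194,64,128],[s0_0,s0_0,s0_1,s0_1,s0_2,s0_1]),
  ([1,15,9,4,144,36,160,111],[s0_0,s0_2,s0_2,s0_2,s0_1,s0_1]),
  ([120,159,153,236,105,32,164,249],[s0_0,s0_1,s0_2,s0_2,s0_0,s0_2]),
  ([129,153,159,4,144,164,32,249],[s0_0,s0_0,s0_0,s0_2,s0_2,s0_2,s0_2]),
  ([110,97,103,252,129,190,60,7],[s0_0,s0_0,s0_0,s0_0,s0_0,s0_2,s0_2]),
  ([255,225,231,18,134,72,204,135],[s0_0,s0_0,s0_1,s0_2,s0_2,s0_2,s0_2]),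
  ([1,9,15,5,255,175,45,111],[s0_0,s0_0,s0_1,s0_2,s0_0,s0_1,s0_2]),
  ([110,15,9,252,255,66,192,111],[s0_0,s0_0,s0_0,s0_0,s0_1,s0_2,s0_2]),
  ([105,103,97,18,134,90,222,7],[s0_0,s0_0,s0_2,s0_0,s0_1,s0_2,s0_1]),
  ([110,15,9,146,144,75,207,111],[s0_0,s0_0,s0_0,s0_2,s0_2,s0_1,s0_1]),
  ([144,118,112,123,120,59,185,22],[s0_0,s0_1,s0_0,s0_0,s0_0,s0_0,s0_0]),
  ([1,9,15,4,144,160,36,111],[s0_0,s0_0,s0_2,s0_0,s0_1,s0_2,s0_0]),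
  ([105,103,97,123,129,59,185,7],[s0_0,s0_0,s0_0,s0_2,s0_0,s0_1,s0_2]),
  ([110,97,103,146,134,217,93,7],[s0_0,s0_0,s0_0,s0_2,s0_2,s0_1,s0_0])]

def W0 : List (ℕ × List (List ℕ)) := [
  (6,[]), (7,[g1]), (22,[g3]), (87,[g1,g3]), (55,[g1,g4]), (179,[g1,g5]), (150,[g3,g0]),
  (213,[g1,g3,g0]), (126,[g1,g3,g2]), (135,[g1,g3,g4]), (249,[g1,g3,g5]), (111,[g1,g4,g5]),
  (102,[g3,g0,g3]), (96,[g3,g0,g5]), (132,[g1,g3,g2,g3]), (130,[g1,g3,g2,g4]), (104,[g1,g4,g5,g0]),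
  (128,[g3,g0,g3,g5])]

def t0 : PtData where
  r := 6
  T := T0
  S := [s0_0, s0_1, s0_2]
  L := L0
  W := W0
  C := [([g0,g1,g2,g3,g5], [g3,g0,g2,g5,g1])]

theorem check0 : PtCheck (confPO83.X ++ confPO83.N ++ confPO83.M) (confPO83.X ++ confPO83.N) t0 := by
  constructor <;> decide +kernel

def s1_0 : List ℕ := [1,4,8,14,16,104,164,32]
def s1_1 : List ℕ := [16,236,240,230,165,102,164,204]
def s1_2 : List ℕ := [255,20,231,30,174,96,190,40]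

def T1 : List (ℕ × List ℕ × List ℕ) := [
  (10,idL,idL), (11,[1,2,4,9,144,36,66,128],[1,2,4,9,144,36,66,128]),
  (26,[33,30,8,4,16,32,160,96],[33,30,8,4,16,32,160,96]),
  (13,[1,4,2,9,144,66,36,128],[1,4,2,9,144,66,36,128]),
  (75,[65,8,30,67,112,222,72,96],[67,9,159,2,144,194,66,102]),
  (59,[33,30,8,37,112,40,190,96],[37,159,9,4,144,36,164,102]),
  (175,[165,24,14,183,118,194,66,102],[161,153,15,146,144,207,217,96]),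
  (12,[1,4,2,8,16,64,32,128],[1,4,2,8,16,64,32,128]),
  (155,[37,159,9,4,144,36,164,102],[33,30,8,37,112,40,190,96]),
  (90,[41,95,8,5,80,40,170,104],[33,30,41,4,176,36,160,126]),
  (157,[67,159,9,2,144,66,194,102],[33,8,30,37,112,190,40,96]),
  (93,[65,30,8,67,112,72,222,96],[37,9,159,4,144,164,36,102]),
  (45,[33,8,30,37,112,190,40,96],[67,159,9,2,144,66,194,102]),
  (185,[165,14,24,183,118,66,194,102],[193,153,15,148,144,175,185,96]),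
  (7,[1,14,2,9,210,66,102,194],[1,4,15,9,144,111,36,160]),
  (72,[67,9,159,65,246,93,75,102],[67,9,159,65,246,93,75,102]),
  (66,[73,8,63,74,88,243,64,104],[67,74,159,2,82,194,64,249]),
  (245,[255,18,20,231,134,40,72,150],[120,146,148,153,144,185,217,22]),
  (40,[37,9,159,33,246,59,45,102],[67,159,9,65,246,75,93,102]),
  (190,[37,159,9,33,246,45,59,102],[37,159,9,33,246,45,59,102]),
  (115,[41,95,8,44,56,32,245,104],[37,159,44,4,52,32,164,249]),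
  (217,[195,24,14,193,118,204,90,102],[37,9,159,146,144,93,75,102]),
  (222,[67,159,9,65,246,75,93,102],[37,9,159,33,246,59,45,102]),
  (170,[161,153,15,51,240,192,64,96],[161,153,15,51,240,192,64,96]),
  (164,[174,88,15,252,63,192,66,111],[161,153,174,146,73,93,217,249]),
  (204,[193,153,15,85,240,160,32,96],[161,15,153,51,240,64,192,96]),
  (28,[65,30,8,2,16,64,192,96],[33,8,30,4,16,160,32,96]),
  (6,[1,14,2,8,16,64,104,194],[1,4,14,8,16,104,32,164]),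
  (64,[123,235,18,171,74,222,160,132],[82,180,51,174,176,243,10,179]),
  (207,[231,215,183,24,118,66,36,128],[225,85,51,120,112,115,117,128]),
  (117,[73,125,3,8,120,72,32,132],[33,37,51,8,112,64,40,179]),
  (213,[67,215,9,2,210,66,128,36],[33,8,51,37,112,179,40,64]),
  (243,[255,20,18,231,134,72,40,150],[120,148,146,153,144,217,185,22]),
  (87,[65,20,8,67,56,72,150,40],[37,9,146,4,144,132,36,75]),
  (36,[41,8,95,44,56,245,32,104],[67,159,74,2,82,64,194,249]),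
  (111,[105,8,20,103,56,190,96,40],[67,159,148,2,144,130,194,59]),
  (60,[161,15,153,51,240,64,192,96],[193,153,15,85,240,160,32,96]),
  (179,[165,4,24,183,52,66,128,36],[193,153,2,148,144,130,185,64]),
  (55,[33,18,30,37,206,190,150,222],[110,146,9,15,144,111,207,75]),
  (160,[171,14,219,174,186,243,164,104],[67,159,74,215,82,243,164,249]),
  (32,[44,9,220,41,189,115,36,111],[67,159,74,65,171,10,93,249]),
  (194,[159,67,37,129,230,155,157,150],[30,65,33,159,246,59,93,22]),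
  (192,[205,3,125,195,252,217,207,132],[67,65,215,159,246,164,93,87]),
  (96,[103,9,215,105,246,115,111,36],[67,159,215,65,246,87,93,164]),
  (150,[67,215,9,65,246,75,87,36],[37,9,183,33,246,55,45,66]),
  (132,[131,219,5,95,250,170,104,40],[161,15,165,51,240,179,192,175]),
  (22,[65,20,8,2,16,64,130,40],[33,8,18,4,16,132,32,72]),
  (135,[231,159,183,24,52,66,102,194],[225,85,30,120,112,126,117,160]),
  (249,[74,250,9,3,255,75,132,36],[33,41,51,37,195,179,13,115]),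
  (126,[73,52,8,74,24,64,179,40],[37,44,146,4,20,132,32,217]),
  (102,[97,8,85,110,112,245,104,32],[67,159,215,2,82,128,194,164]),
  (104,[110,9,148,97,189,59,102,45],[67,159,148,65,171,22,93,59]),
  (128,[215,67,103,195,230,217,213,222],[30,65,255,159,246,249,93,10]),
  (130,[133,3,63,129,252,155,135,204],[67,65,9,159,246,102,93,75])]

def L1 : List (List ℕ × List (List ℕ)) := [
  (idL,[]), ([1,4,8,14,16,104,164,32],[s1_0]), ([255,20,231,30,174,96,190,40],[s1_2]),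
  ([16,236,240,230,165,102,164,204],[s1_1]), ([165,24,171,18,74,222,90,126],[s1_1,s1_1]),
  ([16,240,230,250,165,36,90,102],[s1_0,s1_1]), ([65,85,2,95,80,194,245,128],[s1_2,s1_1]),
  ([255,24,225,18,74,204,90,102],[s1_2,s1_0]), ([255,231,30,237,174,192,175,96],[s1_0,s1_2]),
  ([1,8,14,2,16,194,64,104],[s1_0,s1_0]), ([16,234,252,224,65,192,64,130],[s1_1,s1_0]),
  ([74,73,250,67,165,222,11,126],[s1_2,s1_2]), ([174,15,88,5,80,45,175,111],[s1_1,s1_2]),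
  ([65,67,30,73,174,126,11,222],[s1_2,s1_0,s1_1]),
  ([180,225,236,235,1,132,75,204],[s1_2,s1_1,s1_1]),
  ([65,30,67,20,174,150,190,222],[s1_1,s1_1,s1_0]), ([174,88,5,82,80,135,26,45],[s1_0,s1_1,s1_2]),
  ([16,230,250,236,165,132,164,36],[s1_0,s1_0,s1_1]),
  ([174,82,161,88,74,55,26,157],[s1_2,s1_2,s1_1]),
  ([174,252,161,246,65,150,190,60],[s1_1,s1_0,s1_2]),
  ([80,234,231,224,1,96,64,40],[s1_1,s1_2,s1_1]),
  ([80,176,189,186,180,213,26,157],[s1_1,s1_1,s1_2]),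
  ([255,30,237,20,174,130,190,192],[s1_0,s1_0,s1_2]),
  ([74,176,9,186,180,111,26,45],[s1_2,s1_0,s1_2]), ([1,14,2,4,16,128,164,194],[s1_0,s1_0,s1_0]),
  ([74,3,186,9,180,111,75,207],[s1_1,s1_2,s1_0]), ([165,4,189,14,180,104,164,32],[s1_1,s1_0,s1_1]),
  ([74,67,176,73,174,55,11,157],[s1_1,s1_1,s1_1]),
  ([180,95,82,85,80,213,245,157],[s1_2,s1_2,s1_2]),
  ([165,189,4,183,180,128,245,32],[s1_2,s1_1,s1_0]), ([65,2,95,8,80,104,64,194],[s1_0,s1_2,s1_1]),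
  ([65,8,20,2,16,130,64,40],[s1_2,s1_1,s1_2]), ([165,18,14,24,16,102,90,204],[s1_1,s1_2,s1_2]),
  ([165,171,18,161,74,150,11,222],[s1_0,s1_1,s1_1]),
  ([74,250,67,240,165,150,90,222],[s1_0,s1_2,s1_2]),
  ([255,225,18,235,74,132,75,204],[s1_0,s1_2,s1_0]),
  ([16,252,224,246,65,96,190,192],[s1_0,s1_1,s1_0]),
  ([174,171,246,161,65,150,11,222],[s1_2,s1_2,s1_0]),
  ([80,224,231,234,1,40,64,96],[s1_2,s1_1,s1_0,s1_2]),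
  ([165,189,171,183,65,117,245,213],[s1_2,s1_2,s1_0,s1_2]),
  ([1,9,15,3,255,207,75,111],[s1_2,s1_1,s1_1,s1_2]),
  ([255,235,237,225,1,45,75,111],[s1_2,s1_2,s1_2,s1_1]),
  ([16,224,246,234,65,40,64,96],[s1_0,s1_0,s1_1,s1_0]),
  ([180,230,225,236,1,204,164,102],[s1_1,s1_2,s1_1,s1_0]),
  ([180,82,85,88,80,117,26,213],[s1_0,s1_2,s1_2,s1_2]),
  ([80,237,234,231,1,40,175,130],[s1_2,s1_1,s1_1,s1_0]),
  ([165,14,24,4,16,36,164,102],[s1_0,s1_1,s1_2,s1_2]),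
  ([255,237,20,231,174,40,175,130],[s1_0,s1_0,s1_0,s1_2]),
  ([165,189,14,183,180,194,245,104],[s1_0,s1_1,s1_0,s1_1]),
  ([174,88,15,82,80,207,26,111],[s1_1,s1_1,s1_1,s1_1]),
  ([65,20,2,30,16,192,190,130],[s1_0,s1_2,s1_1,s1_2]),
  ([255,18,235,24,74,36,90,132],[s1_0,s1_0,s1_2,s1_0]),
  ([65,95,8,85,80,32,245,104],[s1_0,s1_0,s1_2,s1_1]),
  ([165,161,183,171,65,117,11,55],[s1_1,s1_0,s1_2,s1_2]),
  ([80,176,183,186,180,117,26,55],[s1_2,s1_2,s1_0,s1_1]),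
  ([165,18,161,24,74,60,90,150],[s1_0,s1_0,s1_1,s1_1]),
  ([80,231,224,237,1,192,175,96],[s1_0,s1_1,s1_2,s1_1]),
  ([180,235,236,225,1,204,75,132],[s1_1,s1_2,s1_0,s1_2]),
  ([74,176,73,186,174,117,26,55],[s1_0,s1_1,s1_1,s1_1]),
  ([80,189,186,183,180,117,245,213],[s1_0,s1_1,s1_1,s1_2]),
  ([65,67,20,73,174,60,11,150],[s1_0,s1_1,s1_1,s1_0]),
  ([174,252,5,246,255,40,190,130],[s1_1,s1_2,s1_0,s1_1]),
  ([165,4,183,14,180,194,164,128],[s1_0,s1_2,s1_1,s1_0]),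
  ([180,85,230,95,165,194,245,128],[s1_1,s1_1,s1_1,s1_2]),
  ([16,230,224,236,1,32,164,128],[s1_1,s1_1,s1_2,s1_2]),
  ([74,9,186,3,180,207,75,111],[s1_0,s1_2,s1_0,s1_2]),
  ([74,240,9,250,255,36,90,102],[s1_1,s1_0,s1_1,s1_1]),
  ([174,161,246,171,65,222,11,150],[s1_0,s1_1,s1_0,s1_2]),
  ([80,183,176,189,180,157,245,55],[s1_2,s1_2,s1_2,s1_0]),
  ([174,161,88,171,74,117,11,55],[s1_0,s1_2,s1_2,s1_1]),
  ([180,95,88,85,80,117,245,55],[s1_1,s1_1,s1_0,s1_1]),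
  ([180,236,235,230,1,36,164,132],[s1_0,s1_2,s1_1,s1_1]),
  ([74,250,73,240,165,60,90,126],[s1_1,s1_0,s1_2,s1_0]),
  ([165,161,18,171,74,222,11,150],[s1_2,s1_0,s1_1,s1_0]),
  ([16,250,236,240,165,204,90,132],[s1_0,s1_0,s1_0,s1_1]),
  ([65,8,95,2,80,194,64,104],[s1_1,s1_0,s1_1,s1_0]),
  ([74,67,240,73,165,60,11,150],[s1_0,s1_0,s1_2,s1_2]),
  ([180,230,85,236,165,32,164,128],[s1_2,s1_1,s1_2,s1_1]),
  ([180,88,95,82,80,157,26,55],[s1_1,s1_1,s1_2,s1_0]),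
  ([65,85,67,95,165,157,245,213],[s1_2,s1_0,s1_1,s1_2]),
  ([74,186,9,176,180,45,26,111],[s1_0,s1_1,s1_2,s1_0]),
  ([174,15,246,5,255,40,175,96],[s1_2,s1_0,s1_2,s1_1]),
  ([1,15,9,5,255,45,175,111],[s1_1,s1_1,s1_2,s1_1]),
  ([16,252,250,246,255,222,190,126],[s1_1,s1_2,s1_1,s1_2]),
  ([80,186,237,176,174,45,26,111],[s1_1,s1_2,s1_2,s1_2]),
  ([65,30,73,20,174,60,190,126],[s1_0,s1_2,s1_0,s1_1]),
  ([174,5,82,15,80,207,175,135],[s1_0,s1_0,s1_1,s1_2]),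
  ([174,246,161,252,65,60,190,150],[s1_0,s1_2,s1_2,s1_0]),
  ([255,30,24,20,16,60,190,126],[s1_2,s1_1,s1_1,s1_1]),
  ([65,67,85,73,165,117,11,213],[s1_1,s1_1,s1_0,s1_2]),
  ([1,4,2,14,16,194,164,128],[s1_1,s1_2,s1_1,s1_1]),
  ([80,237,186,231,174,207,175,111],[s1_2,s1_2,s1_1,s1_1]),
  ([74,9,240,3,255,204,75,102],[s1_2,s1_1,s1_0,s1_1]),
  ([65,20,8,30,16,96,190,40],[s1_2,s1_2,s1_2,s1_1,s1_1]),
  ([165,18,171,24,74,126,90,222],[s1_0,s1_2,s1_0,s1_1,s1_0]),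
  ([180,235,82,225,74,135,75,207],[s1_2,s1_2,s1_1,s1_1,s1_0]),
  ([180,85,236,95,165,104,245,32],[s1_0,s1_2,s1_1,s1_2,s1_1]),
  ([1,9,5,3,255,135,75,45],[s1_0,s1_1,s1_1,s1_2,s1_1]),
  ([16,250,246,240,255,150,90,222],[s1_0,s1_1,s1_2,s1_1,s1_2]),
  ([65,30,2,20,16,130,190,192],[s1_1,s1_0,s1_1,s1_0,s1_2]),
  ([80,186,183,176,180,55,26,117],[s1_0,s1_0,s1_1,s1_1,s1_2]),
  ([65,73,85,67,165,213,11,117],[s1_1,s1_0,s1_2,s1_2,s1_0]),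
  ([174,246,5,252,255,130,190,40],[s1_0,s1_2,s1_0,s1_2,s1_1]),
  ([16,234,246,224,65,96,64,40],[s1_1,s1_1,s1_2,s1_1,s1_1]),
  ([174,88,171,82,74,213,26,117],[s1_0,s1_0,s1_2,s1_2,s1_1]),
  ([180,88,85,82,80,213,26,117],[s1_0,s1_1,s1_1,s1_0,s1_1]),
  ([174,246,171,252,65,126,190,222],[s1_0,s1_0,s1_1,s1_0,s1_2]),
  ([74,250,9,240,255,102,90,36],[s1_1,s1_2,s1_0,s1_1,s1_0]),
  ([80,186,231,176,174,135,26,207],[s1_0,s1_2,s1_2,s1_1,s1_1]),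
  ([1,2,14,8,16,104,64,194],[s1_0,s1_1,s1_2,s1_1,s1_1]),
  ([74,186,73,176,174,55,26,117],[s1_2,s1_0,s1_1,s1_0,s1_1]),
  ([165,189,161,183,65,55,245,157],[s1_1,s1_2,s1_1,s1_2,s1_1]),
  ([16,240,252,250,255,126,90,60],[s1_2,s1_1,s1_1,s1_0,s1_2]),
  ([16,224,236,234,1,104,64,32],[s1_0,s1_1,s1_1,s1_2,s1_2]),
  ([74,9,250,3,255,132,75,36],[s1_0,s1_1,s1_0,s1_1,s1_1]),
  ([74,240,3,250,255,132,90,204],[s1_0,s1_2,s1_1,s1_0,s1_1]),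
  ([180,85,88,95,80,55,245,117],[s1_0,s1_0,s1_2,s1_2,s1_2]),
  ([255,231,20,237,174,130,175,40],[s1_1,s1_2,s1_1,s1_1,s1_2]),
  ([80,231,234,237,1,130,175,40],[s1_0,s1_2,s1_1,s1_0,s1_2]),
  ([65,20,73,30,174,126,190,60],[s1_0,s1_0,s1_1,s1_1,s1_0]),
  ([180,230,235,236,1,132,164,36],[s1_1,s1_0,s1_1,s1_0,s1_1]),
  ([65,2,30,8,16,96,64,192],[s1_0,s1_0,s1_2,s1_1,s1_2]),
  ([80,224,189,234,65,104,64,32],[s1_2,s1_1,s1_2,s1_1,s1_0]),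
  ([65,85,73,95,165,55,245,117],[s1_0,s1_1,s1_1,s1_0,s1_2]),
  ([180,230,95,236,165,104,164,194],[s1_0,s1_1,s1_1,s1_1,s1_2]),
  ([65,95,67,85,165,213,245,157],[s1_2,s1_1,s1_1,s1_1,s1_1]),
  ([174,5,246,15,255,96,175,40],[s1_0,s1_1,s1_2,s1_0,s1_1]),
  ([165,183,14,189,180,104,245,194],[s1_0,s1_0,s1_2,s1_1,s1_0]),
  ([174,252,15,246,255,96,190,192],[s1_1,s1_0,s1_1,s1_1,s1_0]),
  ([180,236,225,230,1,102,164,204],[s1_0,s1_1,s1_2,s1_0,s1_2]),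
  ([255,231,235,237,1,111,175,207],[s1_1,s1_1,s1_2,s1_0,s1_1]),
  ([165,161,24,171,74,126,11,60],[s1_0,s1_0,s1_0,s1_1,s1_1]),
  ([1,5,9,15,255,111,175,45],[s1_1,s1_2,s1_1,s1_0,s1_2]),
  ([80,183,186,189,180,213,245,117],[s1_0,s1_2,s1_2,s1_0,s1_1]),
  ([255,18,225,24,74,102,90,204],[s1_1,s1_1,s1_2,s1_1,s1_2]),
  ([174,161,252,171,65,126,11,60],[s1_0,s1_0,s1_2,s1_2,s1_0]),
  ([180,82,235,88,74,111,26,207],[s1_1,s1_2,s1_2,s1_2,s1_0]),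
  ([165,14,183,4,180,128,164,194],[s1_0,s1_0,s1_1,s1_0,s1_1]),
  ([180,225,88,235,74,111,75,45],[s1_2,s1_0,s1_1,s1_2,s1_1]),
  ([255,235,24,225,74,102,75,36],[s1_0,s1_0,s1_0,s1_2,s1_0]),
  ([255,24,20,18,16,150,90,60],[s1_0,s1_2,s1_1,s1_1,s1_1]),
  ([74,9,176,3,180,135,75,45],[s1_0,s1_0,s1_1,s1_2,s1_0]),
  ([16,246,250,252,255,126,190,222],[s1_2,s1_1,s1_0,s1_2,s1_2]),
  ([165,171,183,161,65,55,11,117],[s1_0,s1_2,s1_2,s1_0,s1_2]),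
  ([1,8,5,2,80,130,64,40],[s1_1,s1_1,s1_1,s1_2,s1_2]),
  ([16,240,236,250,165,132,90,204],[s1_1,s1_2,s1_1,s1_1,s1_1]),
  ([16,230,234,236,1,104,164,194],[s1_2,s1_2,s1_0,s1_1,s1_2]),
  ([65,8,85,2,80,128,64,32],[s1_0,s1_0,s1_0,s1_2,s1_1]),
  ([16,234,230,224,1,128,64,194],[s1_2,s1_2,s1_2,s1_0,s1_2]),
  ([180,88,225,82,74,135,26,45],[s1_1,s1_0,s1_1,s1_1,s1_2]),
  ([74,73,240,67,165,150,11,60],[s1_0,s1_1,s1_0,s1_2,s1_0]),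
  ([180,82,95,88,80,55,26,157],[s1_1,s1_0,s1_2,s1_0,s1_2]),
  ([74,186,3,176,180,135,26,207],[s1_0,s1_0,s1_2,s1_0,s1_2]),
  ([165,161,189,171,65,213,11,157],[s1_1,s1_1,s1_0,s1_2,s1_0]),
  ([165,24,4,18,16,132,90,36],[s1_0,s1_0,s1_1,s1_2,s1_2]),
  ([165,183,171,189,65,213,245,117],[s1_0,s1_1,s1_0,s1_2,s1_2]),
  ([80,237,176,231,174,135,175,45],[s1_0,s1_1,s1_2,s1_2,s1_2]),
  ([165,14,18,4,16,132,164,204],[s1_1,s1_1,s1_1,s1_1,s1_2]),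
  ([255,237,225,231,1,135,175,45],[s1_0,s1_2,s1_2,s1_2,s1_1]),
  ([74,240,73,250,165,126,90,60],[s1_0,s1_0,s1_0,s1_2,s1_2]),
  ([65,73,20,67,174,150,11,60],[s1_0,s1_0,s1_2,s1_0,s1_1]),
  ([255,20,24,30,16,126,190,60],[s1_1,s1_2,s1_0,s1_2,s1_1]),
  ([174,82,15,88,80,111,26,207],[s1_0,s1_0,s1_0,s1_1,s1_2]),
  ([65,85,8,95,80,104,245,32],[s1_1,s1_1,s1_0,s1_2,s1_2]),
  ([174,15,252,5,255,130,175,192],[s1_2,s1_1,s1_0,s1_1,s1_0]),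
  ([80,224,237,234,1,130,64,192],[s1_0,s1_0,s1_1,s1_2,s1_1]),
  ([80,234,183,224,65,128,64,194],[s1_2,s1_0,s1_2,s1_1,s1_1]),
  ([174,161,82,171,74,213,11,157],[s1_1,s1_0,s1_2,s1_0,s1_1]),
  ([1,8,4,2,16,128,64,32],[s1_1,s1_2,s1_1,s1_1,s1_0]),
  ([255,235,231,225,1,135,75,207],[s1_1,s1_1,s1_0,s1_1,s1_1]),
  ([74,73,186,67,174,213,11,117],[s1_0,s1_0,s1_1,s1_1,s1_1]),
  ([255,18,30,24,16,126,90,222],[s1_1,s1_2,s1_1,s1_0,s1_1]),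
  ([16,246,234,252,65,130,190,40],[s1_0,s1_0,s1_0,s1_1,s1_0]),
  ([80,183,234,189,65,104,245,194],[s1_1,s1_0,s1_2,s1_2,s1_2]),
  ([1,3,15,9,255,111,75,207],[s1_1,s1_1,s1_2,s1_1,s1_0]),
  ([65,95,2,85,80,128,245,194],[s1_0,s1_1,s1_0,s1_1,s1_0]),
  ([174,15,82,5,80,135,175,207],[s1_0,s1_1,s1_1,s1_1,s1_1]),
  ([80,189,224,183,65,128,245,32],[s1_1,s1_1,s1_1,s1_2,s1_0]),
  ([74,3,240,9,255,102,75,204],[s1_2,s1_0,s1_2,s1_1,s1_0]),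
  ([1,5,8,15,80,96,175,40],[s1_1,s1_2,s1_2,s1_2,s1_1]),
  ([65,67,95,73,165,55,11,157],[s1_0,s1_2,s1_0,s1_1,s1_2]),
  ([1,15,3,5,255,135,175,207],[s1_0,s1_2,s1_1,s1_1,s1_2]),
  ([180,235,230,225,1,102,75,36],[s1_0,s1_0,s1_2,s1_1,s1_1]),
  ([1,14,9,4,180,36,164,102],[s1_1,s1_0,s1_1,s1_1,s1_2,s1_2]),
  ([174,82,5,88,80,45,26,135],[s1_0,s1_0,s1_1,s1_1,s1_1,s1_1]),
  ([16,230,240,236,165,204,164,102],[s1_1,s1_1,s1_2,s1_1,s1_1,s1_0]),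
  ([174,171,252,161,65,60,11,126],[s1_0,s1_0,s1_0,s1_1,s1_0,s1_2]),
  ([65,95,73,85,165,117,245,55],[s1_0,s1_0,s1_2,s1_0,s1_1,s1_2]),
  ([165,18,4,24,16,36,90,132],[s1_0,s1_1,s1_1,s1_1,s1_1,s1_2]),
  ([174,246,15,252,255,192,190,96],[s1_0,s1_0,s1_1,s1_2,s1_0,s1_1]),
  ([255,237,235,231,1,207,175,111],[s1_1,s1_0,s1_2,s1_0,s1_2,s1_1]),
  ([80,234,189,224,65,32,64,104],[s1_0,s1_1,s1_0,s1_2,s1_2,s1_2]),
  ([16,246,224,252,65,192,190,96],[s1_0,s1_1,s1_1,s1_2,s1_1,s1_1]),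
  ([255,18,20,24,16,60,90,150],[s1_1,s1_0,s1_1,s1_0,s1_1,s1_1]),
  ([180,235,88,225,74,45,75,111],[s1_0,s1_1,s1_2,s1_2,s1_2,s1_0]),
  ([165,14,189,4,180,32,164,104],[s1_0,s1_0,s1_0,s1_2,s1_1,s1_0]),
  ([16,236,234,230,1,194,164,104],[s1_0,s1_0,s1_1,s1_1,s1_2,s1_2]),
  ([1,4,3,14,180,204,164,132],[s1_1,s1_2,s1_2,s1_2,s1_0,s1_2]),
  ([1,3,4,9,180,36,75,132],[s1_1,s1_0,s1_2,s1_2,s1_2,s1_1]),
  ([165,171,189,161,65,157,11,213],[s1_0,s1_0,s1_1,s1_0,s1_2,s1_2]),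
  ([16,246,240,252,255,60,190,150],[s1_0,s1_0,s1_1,s1_2,s1_1,s1_2]),
  ([80,189,234,183,65,194,245,104],[s1_0,s1_2,s1_1,s1_2,s1_1,s1_0]),
  ([74,176,3,186,180,207,26,135],[s1_0,s1_0,s1_0,s1_1,s1_2,s1_0]),
  ([180,88,235,82,74,207,26,111],[s1_0,s1_2,s1_0,s1_1,s1_2,s1_1]),
  ([1,3,5,9,255,45,75,135],[s1_0,s1_0,s1_2,s1_1,s1_1,s1_2]),
  ([165,171,24,161,74,60,11,126],[s1_0,s1_0,s1_2,s1_0,s1_1,s1_0]),
  ([16,250,252,240,255,60,90,126],[s1_0,s1_2,s1_1,s1_0,s1_2,s1_2]),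
  ([255,225,231,235,1,207,75,135],[s1_0,s1_0,s1_2,s1_2,s1_2,s1_1]),
  ([65,73,30,67,174,222,11,126],[s1_0,s1_0,s1_0,s1_1,s1_1,s1_0]),
  ([16,234,236,224,1,32,64,104],[s1_0,s1_2,s1_2,s1_0,s1_1,s1_2]),
  ([165,183,4,189,180,32,245,128],[s1_0,s1_0,s1_0,s1_1,s1_0,s1_1]),
  ([174,252,171,246,65,222,190,126],[s1_0,s1_0,s1_0,s1_2,s1_2,s1_0]),
  ([255,225,24,235,74,36,75,102],[s1_0,s1_1,s1_1,s1_2,s1_1,s1_2]),
  ([80,234,237,224,1,192,64,130],[s1_0,s1_0,s1_2,s1_1,s1_0,s1_2]),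
  ([255,24,30,18,16,222,90,126],[s1_0,s1_1,s1_2,s1_0,s1_2,s1_1]),
  ([180,225,82,235,74,207,75,135],[s1_0,s1_1,s1_0,s1_1,s1_1,s1_2]),
  ([74,240,67,250,165,222,90,150],[s1_0,s1_0,s1_1,s1_0,s1_2,s1_0]),
  ([74,186,67,176,174,157,26,213],[s1_0,s1_0,s1_0,s1_1,s1_1,s1_1]),
  ([174,88,161,82,74,157,26,55],[s1_2,s1_1,s1_1,s1_0,s1_2,s1_2]),
  ([255,20,237,30,174,192,190,130],[s1_0,s1_1,s1_2,s1_1,s1_1,s1_2]),
  ([174,5,252,15,255,192,175,130],[s1_0,s1_0,s1_2,s1_0,s1_2,s1_1]),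
  ([1,8,15,2,80,192,64,96],[s1_0,s1_1,s1_2,s1_2,s1_2,s1_1]),
  ([80,176,231,186,174,207,26,135],[s1_0,s1_0,s1_1,s1_2,s1_2,s1_2]),
  ([1,9,14,3,180,204,75,102],[s1_1,s1_1,s1_1,s1_2,s1_0,s1_1]),
  ([65,73,95,67,165,157,11,55],[s1_0,s1_0,s1_1,s1_1,s1_0,s1_2]),
  ([74,73,176,67,174,157,11,55],[s1_0,s1_2,s1_0,s1_1,s1_0,s1_1]),
  ([65,8,30,2,16,192,64,96],[s1_0,s1_2,s1_2,s1_2,s1_1,s1_1]),
  ([74,3,176,9,180,45,75,135],[s1_0,s1_0,s1_0,s1_2,s1_0,s1_2]),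
  ([65,2,20,8,16,40,64,130],[s1_0,s1_1,s1_0,s1_1,s1_0,s1_2]),
  ([255,231,225,237,1,45,175,135],[s1_0,s1_1,s1_1,s1_0,s1_1,s1_1]),
  ([1,5,2,15,80,192,175,130],[s1_0,s1_1,s1_1,s1_1,s1_2,s1_2]),
  ([80,231,176,237,174,45,175,135],[s1_0,s1_0,s1_2,s1_2,s1_1,s1_1]),
  ([174,82,171,88,74,117,26,213],[s1_0,s1_1,s1_0,s1_2,s1_0,s1_1]),
  ([165,4,18,14,16,204,164,132],[s1_0,s1_0,s1_0,s1_1,s1_2,s1_2]),
  ([180,236,95,230,165,194,164,104],[s1_0,s1_0,s1_2,s1_1,s1_2,s1_1]),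
  ([16,252,234,246,65,40,190,130],[s1_1,s1_1,s1_2,s1_1,s1_0,s1_1]),
  ([255,235,18,225,74,204,75,132],[s1_1,s1_1,s1_2,s1_1,s1_0,s1_2]),
  ([174,171,82,161,74,157,11,213],[s1_0,s1_0,s1_0,s1_2,s1_2,s1_1]),
  ([180,82,225,88,74,45,26,135],[s1_0,s1_2,s1_2,s1_1,s1_1,s1_0]),
  ([65,2,85,8,80,32,64,128],[s1_0,s1_0,s1_1,s1_0,s1_1,s1_0]),
  ([65,20,67,30,174,222,190,150],[s1_0,s1_0,s1_0,s1_2,s1_0,s1_1]),
  ([16,240,246,250,255,222,90,150],[s1_2,s1_1,s1_0,s1_2,s1_2,s1_0]),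
  ([1,5,3,15,255,207,175,135],[s1_0,s1_0,s1_1,s1_1,s1_2,s1_1]),
  ([180,225,230,235,1,36,75,102],[s1_0,s1_0,s1_1,s1_2,s1_0,s1_2]),
  ([65,30,8,20,16,40,190,96],[s1_0,s1_0,s1_0,s1_2,s1_1,s1_2]),
  ([16,236,250,230,165,36,164,132],[s1_0,s1_1,s1_2,s1_1,s1_1,s1_1]),
  ([74,3,250,9,255,36,75,132],[s1_0,s1_0,s1_2,s1_1,s1_0,s1_1]),
  ([180,95,236,85,165,32,245,104],[s1_0,s1_0,s1_1,s1_1,s1_1,s1_2]),
  ([74,250,3,240,255,204,90,132],[s1_0,s1_0,s1_1,s1_0,s1_1,s1_1]),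
  ([80,186,189,176,180,157,26,213],[s1_0,s1_0,s1_2,s1_2,s1_0,s1_1]),
  ([165,24,14,18,16,204,90,102],[s1_2,s1_2,s1_2,s1_1,s1_1,s1_0]),
  ([255,30,231,20,174,40,190,96],[s1_1,s1_2,s1_1,s1_1,s1_0,s1_2]),
  ([180,85,82,95,80,157,245,213],[s1_0,s1_0,s1_1,s1_1,s1_0,s1_1]),
  ([165,183,161,189,65,157,245,55],[s1_0,s1_0,s1_2,s1_2,s1_0,s1_2]),
  ([1,14,8,4,16,32,164,104],[s1_0,s1_0,s1_1,s1_2,s1_1,s1_1]),
  ([255,20,18,30,16,222,190,150],[s1_0,s1_0,s1_2,s1_1,s1_1,s1_1]),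
  ([80,224,183,234,65,194,64,128],[s1_0,s1_1,s1_1,s1_1,s1_2,s1_0]),
  ([16,224,230,234,1,194,64,128],[s1_1,s1_2,s1_2,s1_2,s1_1,s1_1]),
  ([80,183,224,189,65,32,245,128],[s1_0,s1_2,s1_0,s1_2,s1_1,s1_1]),
  ([165,24,161,18,74,150,90,60],[s1_0,s1_0,s1_0,s1_2,s1_0,s1_1,s1_0]),
  ([174,171,88,161,74,55,11,117],[s1_0,s1_0,s1_1,s1_0,s1_2,s1_0,s1_1]),
  ([1,14,3,4,180,132,164,204],[s1_0,s1_1,s1_1,s1_1,s1_2,s1_0,s1_1]),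
  ([1,9,4,3,180,132,75,36],[s1_0,s1_1,s1_0,s1_1,s1_1,s1_2,s1_2]),
  ([174,5,88,15,80,111,175,45],[s1_0,s1_0,s1_0,s1_1,s1_1,s1_1,s1_1]),
  ([74,67,250,73,165,126,11,222],[s1_0,s1_0,s1_0,s1_1,s1_0,s1_2,s1_0]),
  ([1,3,14,9,180,102,75,204],[s1_0,s1_1,s1_2,s1_2,s1_2,s1_0,s1_2]),
  ([180,95,230,85,165,128,245,194],[s1_0,s1_0,s1_0,s1_2,s1_1,s1_2,s1_1]),
  ([80,237,224,231,1,96,175,192],[s1_0,s1_0,s1_0,s1_2,s1_1,s1_0,s1_2]),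
  ([255,30,18,20,16,150,190,222],[s1_0,s1_0,s1_1,s1_2,s1_0,s1_2,s1_1]),
  ([16,250,230,240,165,102,90,36],[s1_0,s1_0,s1_1,s1_2,s1_1,s1_1,s1_1]),
  ([16,252,240,246,255,150,190,60],[s1_0,s1_0,s1_2,s1_1,s1_0,s1_2,s1_2]),
  ([80,231,186,237,174,111,175,207],[s1_0,s1_0,s1_0,s1_1,s1_2,s1_2,s1_2]),
  ([1,4,9,14,180,102,164,36],[s1_0,s1_1,s1_0,s1_2,s1_2,s1_2,s1_1]),
  ([1,15,2,5,80,130,175,192],[s1_0,s1_0,s1_1,s1_2,s1_2,s1_2,s1_1]),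
  ([165,4,24,14,16,102,164,36],[s1_0,s1_0,s1_1,s1_1,s1_1,s1_1,s1_2]),
  ([74,176,67,186,174,213,26,157],[s1_0,s1_0,s1_2,s1_0,s1_1,s1_0,s1_1]),
  ([255,24,235,18,74,132,90,36],[s1_0,s1_0,s1_1,s1_1,s1_2,s1_1,s1_2]),
  ([255,225,237,235,1,111,75,45],[s1_0,s1_0,s1_1,s1_1,s1_0,s1_1,s1_1]),
  ([16,236,224,230,1,128,164,32],[s1_0,s1_0,s1_2,s1_2,s1_0,s1_1,s1_2]),
  ([80,189,176,183,180,55,245,157],[s1_0,s1_0,s1_0,s1_2,s1_2,s1_0,s1_1]),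
  ([180,236,85,230,165,128,164,32],[s1_0,s1_0,s1_0,s1_1,s1_1,s1_1,s1_2]),
  ([16,224,252,234,65,130,64,192],[s1_0,s1_0,s1_1,s1_1,s1_2,s1_1,s1_1]),
  ([80,176,237,186,174,111,26,45],[s1_0,s1_0,s1_0,s1_2,s1_2,s1_1,s1_1]),
  ([255,237,30,231,174,96,175,192],[s1_0,s1_0,s1_1,s1_2,s1_1,s1_1,s1_2]),
  ([1,2,15,8,80,96,64,192],[s1_0,s1_0,s1_1,s1_1,s1_1,s1_2,s1_2]),
  ([1,15,8,5,80,40,175,96],[s1_0,s1_0,s1_0,s1_1,s1_1,s1_1,s1_2,s1_2]),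
  ([1,2,5,8,80,40,64,130],[s1_0,s1_0,s1_0,s1_1,s1_2,s1_2,s1_2,s1_1]),
  ([74,67,186,73,174,117,11,213],[s1_0,s1_0,s1_0,s1_2,s1_0,s1_1,s1_0,s1_1])]

def W1 : List (ℕ × List (List ℕ)) := [
  (10,[]), (11,[g0]), (26,[g4]), (75,[g0,g3]), (59,[g0,g4]), (175,[g0,g5]), (155,[g4,g0]),
  (90,[g4,g1]), (72,[g0,g3,g0]), (66,[g0,g3,g2]), (245,[g0,g3,g5]), (190,[g0,g4,g0]),
  (115,[g0,g4,g1]), (170,[g0,g5,g0]), (164,[g0,g5,g1]), (217,[g4,g0,g1]), (64,[g4,g1,g5]),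
  (160,[g0,g5,g0,g1])]

def t1 : PtData where
  r := 10
  T := T1
  S := [s1_0, s1_1, s1_2]
  L := L1
  W := W1
  C := [([g0,g1,g2,g3,g5], [g3,g0,g2,g5,g1])]

theorem check1 : PtCheck (confPO83.X ++ confPO83.N ++ confPO83.M) (confPO83.X ++ confPO83.N) t1 := by
  constructor <;> decide +kernel

def s2_0 : List ℕ := [1,5,2,14,210,194,170,130]
def s2_1 : List ℕ := [44,41,252,240,195,60,90,126]
def s2_2 : List ℕ := [255,225,20,24,44,60,102,170]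

def T2 : List (ℕ × List ℕ × List ℕ) := [
  (12,idL,idL), (13,[1,2,4,9,144,36,66,128],[1,2,4,9,144,36,66,128]),
  (28,[65,8,30,2,16,192,64,96],[65,8,30,2,16,192,64,96]),
  (11,[1,4,2,9,144,66,36,128],[1,4,2,9,144,66,36,128]),
  (6,[1,2,14,8,16,104,64,194],[1,2,14,8,16,104,64,194]),
  (93,[65,8,30,67,112,222,72,96],[67,9,159,2,144,194,66,102]),
  (45,[33,30,8,37,112,40,190,96],[37,159,9,4,144,36,164,102]),
  (185,[165,24,14,183,118,194,66,102],[161,153,15,146,144,207,217,96]),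
  (10,[1,4,2,8,16,64,32,128],[1,4,2,8,16,64,32,128]),
  (7,[1,2,14,9,210,102,66,194],[1,2,15,9,144,111,66,192]),
  (157,[67,9,159,2,144,194,66,102],[65,8,30,67,112,222,72,96]),
  (60,[73,8,63,3,48,204,72,104],[65,73,30,2,208,192,66,126]),
  (155,[37,9,159,4,144,164,36,102],[65,30,8,67,112,72,222,96]),
  (22,[65,8,20,2,16,130,64,40],[65,8,20,2,16,130,64,40]),
  (75,[65,30,8,67,112,72,222,96],[37,9,159,4,144,164,36,102]),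
  (59,[33,8,30,37,112,190,40,96],[67,159,9,2,144,66,194,102]),
  (175,[165,14,24,183,118,66,194,102],[193,153,15,148,144,175,185,96]),
  (222,[67,9,159,65,246,93,75,102],[67,9,159,65,246,93,75,102]),
  (117,[73,8,63,74,88,243,64,104],[67,74,159,2,82,194,64,249]),
  (243,[255,18,20,231,134,40,72,150],[120,146,148,153,144,185,217,22]),
  (190,[37,9,159,33,246,59,45,102],[67,159,9,65,246,75,93,102]),
  (87,[65,8,20,67,56,150,72,40],[67,9,148,2,144,130,66,45]),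
  (40,[37,159,9,33,246,45,59,102],[37,159,9,33,246,45,59,102]),
  (36,[41,95,8,44,56,32,245,104],[37,159,44,4,52,32,164,249]),
  (207,[195,24,14,193,118,204,90,102],[37,9,159,146,144,93,75,102]),
  (72,[67,159,9,65,246,75,93,102],[37,9,159,33,246,59,45,102]),
  (111,[105,20,8,103,56,96,190,40],[37,159,146,4,144,132,164,93]),
  (90,[193,153,15,85,240,160,32,96],[161,15,153,51,240,64,192,96]),
  (179,[165,24,4,183,52,128,66,36],[161,153,4,146,144,132,217,32]),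
  (26,[33,8,30,4,16,160,32,96],[65,30,8,2,16,64,192,96]),
  (55,[33,30,18,37,206,150,190,222],[110,148,9,15,144,111,175,45]),
  (213,[67,9,215,2,210,128,66,36],[65,8,85,67,112,213,72,32]),
  (204,[3,2,133,73,208,60,66,130],[3,2,133,73,208,60,66,130]),
  (192,[237,18,125,189,220,32,72,132],[225,210,85,153,208,32,217,213]),
  (217,[44,9,220,5,210,175,45,111],[65,30,73,67,174,11,222,126]),
  (126,[73,8,125,3,120,132,72,32],[65,73,85,2,208,128,66,117]),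
  (115,[205,3,125,14,120,164,204,132],[65,67,85,30,112,160,222,213]),
  (150,[67,9,148,2,144,130,66,45],[65,8,20,67,56,150,72,40]),
  (66,[73,63,8,74,88,64,243,104],[37,44,159,4,52,164,32,249]),
  (245,[255,20,18,231,134,72,40,150],[120,148,146,153,144,217,185,22]),
  (170,[161,15,153,51,240,64,192,96],[193,153,15,85,240,160,32,96]),
  (164,[174,15,88,252,63,66,192,111],[193,153,206,148,41,59,185,249]),
  (194,[159,37,67,129,230,157,155,150],[30,33,65,159,246,93,59,22]),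
  (249,[255,18,30,231,206,96,72,222],[120,146,159,153,144,249,217,93]),
  (135,[129,4,24,159,52,102,164,36],[193,15,2,148,144,130,175,192]),
  (32,[44,220,9,41,189,36,115,111],[37,159,44,33,205,12,59,249]),
  (96,[103,215,9,105,246,111,115,36],[37,159,183,33,246,55,59,194]),
  (64,[74,186,9,73,219,66,117,111],[37,44,159,33,205,59,12,249]),
  (102,[97,85,8,110,112,104,245,32],[37,159,183,4,52,128,164,194]),
  (104,[110,148,9,97,189,102,59,45],[37,159,146,33,205,22,59,93]),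
  (132,[3,2,205,73,146,126,66,192],[3,2,206,73,208,55,66,194]),
  (130,[237,18,63,189,148,104,72,204],[225,210,30,153,208,96,217,222]),
  (160,[171,219,14,174,186,164,243,104],[37,159,44,183,52,245,194,249]),
  (128,[215,103,67,195,230,213,217,222],[30,33,255,159,246,249,59,12])]

def L2 : List (List ℕ × List (List ℕ)) := [
  (idL,[]), ([255,225,20,24,44,60,102,170],[s2_2]), ([1,5,2,14,210,194,170,130],[s2_0]),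
  ([44,41,252,240,195,60,90,126],[s2_1]), ([206,15,56,52,48,28,175,111],[s2_2,s2_2]),
  ([206,205,52,56,44,28,115,179],[s2_1,s2_0]), ([1,3,5,9,255,45,75,135],[s2_0,s2_0]),
  ([210,52,63,51,48,243,179,155],[s2_2,s2_1]), ([44,208,41,37,206,13,155,87],[s2_0,s2_1]),
  ([255,235,225,237,1,45,111,75],[s2_0,s2_2]), ([48,219,208,220,210,28,179,155],[s2_1,s2_2]),
  ([48,235,208,220,206,28,111,75],[s2_2,s2_0]), ([48,224,215,219,33,243,64,128],[s2_1,s2_1]),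
  ([16,246,224,236,33,32,72,96],[s2_2,s2_0,s2_2]), ([255,18,24,20,16,60,150,90],[s2_2,s2_1,s2_0]),
  ([1,9,15,3,255,207,75,111],[s2_2,s2_2,s2_1]), ([16,224,250,246,33,222,96,160],[s2_2,s2_0,s2_0]),
  ([48,224,219,215,33,243,128,64],[s2_0,s2_1,s2_2]), ([33,63,4,8,48,32,104,164],[s2_1,s2_0,s2_2]),
  ([33,18,8,4,16,32,132,72],[s2_2,s2_2,s2_2]), ([44,5,208,220,210,28,175,135],[s2_0,s2_0,s2_1]),
  ([16,240,250,246,255,222,150,90],[s2_1,s2_2,s2_0]),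
  ([16,230,224,236,1,32,164,128],[s2_1,s2_2,s2_2]),
  ([210,237,52,56,44,28,111,175],[s2_0,s2_2,s2_1]),
  ([206,246,15,3,255,207,72,96],[s2_0,s2_2,s2_2]), ([255,24,30,18,16,222,90,126],[s2_1,s2_1,s2_1]),
  ([33,37,18,30,206,222,190,150],[s2_1,s2_0,s2_0]),
  ([16,240,234,230,195,194,102,170],[s2_1,s2_1,s2_2]),
  ([1,4,3,15,48,207,160,132],[s2_0,s2_0,s2_0]), ([206,250,205,193,33,13,90,126],[s2_0,s2_1,s2_0]),
  ([33,8,30,18,16,222,72,96],[s2_2,s2_2,s2_0]), ([255,30,235,231,206,207,96,160],[s2_0,s2_0,s2_2]),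
  ([255,18,231,235,206,207,132,72],[s2_1,s2_2,s2_1]),
  ([206,3,246,250,255,222,132,72],[s2_2,s2_1,s2_1]),
  ([48,231,224,236,1,32,72,96],[s2_0,s2_1,s2_1]), ([1,4,2,14,16,194,164,128],[s2_2,s2_1,s2_2]),
  ([255,237,231,235,1,207,111,175],[s2_2,s2_0,s2_1]),
  ([48,224,235,231,1,207,96,160],[s2_0,s2_2,s2_0]),
  ([16,234,252,240,195,60,170,130],[s2_1,s2_1,s2_0]),
  ([195,205,24,20,44,60,190,126],[s2_1,s2_2,s2_2,s2_1]),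
  ([44,220,37,41,206,13,115,179],[s2_1,s2_2,s2_0,s2_2]),
  ([255,231,18,30,206,222,96,72],[s2_0,s2_2,s2_1,s2_0]),
  ([44,5,240,252,255,60,130,170],[s2_1,s2_2,s2_2,s2_2]),
  ([1,3,4,8,48,32,72,132],[s2_0,s2_2,s2_1,s2_2]),
  ([16,234,240,252,195,60,130,170],[s2_0,s2_1,s2_2,s2_0]),
  ([210,237,234,230,1,194,66,130],[s2_1,s2_2,s2_2,s2_0]),
  ([48,235,224,236,1,32,132,160],[s2_0,s2_0,s2_1,s2_2]),
  ([210,230,237,225,1,45,102,66],[s2_0,s2_0,s2_2,s2_1]),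
  ([33,41,18,30,206,222,126,90],[s2_0,s2_2,s2_2,s2_2]),
  ([195,24,193,205,44,13,126,90],[s2_2,s2_2,s2_0,s2_2]),
  ([16,234,224,236,1,32,104,64],[s2_0,s2_2,s2_0,s2_0]),
  ([206,205,250,246,33,222,190,126],[s2_1,s2_2,s2_1,s2_2]),
  ([33,4,63,51,48,243,128,164],[s2_2,s2_1,s2_1,s2_0]),
  ([255,24,237,225,44,45,102,66],[s2_0,s2_2,s2_0,s2_1]),
  ([16,236,234,230,1,194,164,104],[s2_0,s2_1,s2_1,s2_0]),
  ([195,193,215,219,33,243,155,87],[s2_1,s2_0,s2_0,s2_0]),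
  ([206,56,3,15,48,207,111,75],[s2_0,s2_2,s2_1,s2_1]),
  ([195,2,20,24,16,60,66,130],[s2_1,s2_0,s2_2,s2_2]),
  ([44,220,9,5,210,45,175,111],[s2_1,s2_1,s2_2,s2_2]),
  ([255,225,24,20,44,60,170,102],[s2_0,s2_1,s2_1,s2_1]),
  ([16,250,240,252,255,60,126,90],[s2_0,s2_1,s2_1,s2_2]),
  ([195,219,2,14,210,194,104,64],[s2_1,s2_2,s2_0,s2_1]),
  ([195,219,193,205,33,13,179,155],[s2_1,s2_1,s2_2,s2_1]),
  ([33,51,37,41,195,13,115,179],[s2_0,s2_1,s2_0,s2_0]),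
  ([210,234,51,63,195,243,104,64],[s2_2,s2_0,s2_0,s2_0]),
  ([255,20,225,237,44,45,130,170],[s2_2,s2_1,s2_2,s2_2]),
  ([1,15,8,4,48,32,160,96],[s2_2,s2_2,s2_1,s2_0]),
  ([44,41,240,252,195,60,126,90],[s2_2,s2_0,s2_2,s2_2]),
  ([33,30,41,37,206,13,190,126],[s2_2,s2_1,s2_1,s2_2]),
  ([44,252,41,37,195,13,190,126],[s2_2,s2_1,s2_2,s2_1]),
  ([48,208,231,235,206,207,75,135],[s2_0,s2_0,s2_1,s2_1]),
  ([16,246,252,240,255,60,150,190],[s2_1,s2_0,s2_2,s2_1]),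
  ([255,20,30,18,16,222,150,190],[s2_0,s2_0,s2_0,s2_2]),
  ([1,2,5,9,210,45,66,130],[s2_2,s2_1,s2_2,s2_0]),
  ([210,234,225,237,1,45,130,170],[s2_1,s2_2,s2_1,s2_1]),
  ([210,225,52,56,44,28,75,135],[s2_1,s2_1,s2_0,s2_0]),
  ([44,240,37,41,195,13,90,150],[s2_2,s2_0,s2_0,s2_2]),
  ([44,9,208,220,210,28,111,75],[s2_1,s2_1,s2_0,s2_2]),
  ([206,52,193,205,44,13,179,155],[s2_1,s2_1,s2_1,s2_2]),
  ([44,252,5,9,255,45,66,130],[s2_0,s2_0,s2_0,s2_1]),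
  ([48,215,236,224,33,32,128,164],[s2_1,s2_2,s2_1,s2_0]),
  ([33,63,8,4,48,32,164,104],[s2_0,s2_2,s2_2,s2_0]),
  ([48,231,236,224,1,32,96,72],[s2_2,s2_0,s2_1,s2_0]),
  ([48,219,224,236,33,32,104,64],[s2_0,s2_0,s2_2,s2_0]),
  ([210,56,225,237,44,45,111,75],[s2_1,s2_1,s2_2,s2_0]),
  ([195,215,14,2,210,194,128,164],[s2_2,s2_2,s2_2,s2_0]),
  ([255,24,18,30,16,222,126,90],[s2_0,s2_1,s2_2,s2_1]),
  ([33,37,63,51,195,243,179,155],[s2_0,s2_1,s2_0,s2_2]),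
  ([16,240,246,250,255,222,90,150],[s2_0,s2_2,s2_0,s2_2]),
  ([195,24,2,14,16,194,102,66],[s2_1,s2_0,s2_2,s2_0]),
  ([206,193,246,250,33,222,90,150],[s2_0,s2_0,s2_2,s2_2]),
  ([210,63,234,230,195,194,164,104],[s2_2,s2_0,s2_2,s2_0]),
  ([210,56,51,63,48,243,87,115],[s2_1,s2_2,s2_0,s2_0]),
  ([48,220,219,215,210,243,115,179],[s2_1,s2_1,s2_1,s2_0]),
  ([1,14,9,5,210,45,170,102],[s2_0,s2_2,s2_2,s2_1]),
  ([195,14,24,20,16,60,170,102],[s2_2,s2_0,s2_2,s2_1]),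
  ([206,3,250,246,255,222,72,132],[s2_0,s2_0,s2_1,s2_0]),
  ([195,14,219,215,210,243,164,104],[s2_2,s2_2,s2_0,s2_0]),
  ([1,5,14,2,210,194,130,170],[s2_2,s2_1,s2_1,s2_1]),
  ([16,240,230,234,195,194,170,102],[s2_0,s2_1,s2_2,s2_2]),
  ([195,215,205,193,33,13,87,115],[s2_1,s2_0,s2_0,s2_2]),
  ([48,215,220,208,210,28,87,115],[s2_2,s2_1,s2_0,s2_0]),
  ([210,51,230,234,195,194,64,128],[s2_1,s2_1,s2_1,s2_1]),
  ([210,52,225,237,44,45,175,135],[s2_1,s2_0,s2_2,s2_0,s2_2]),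
  ([16,252,246,250,255,222,126,190],[s2_2,s2_1,s2_0,s2_0,s2_0]),
  ([255,235,237,225,1,45,75,111],[s2_2,s2_1,s2_1,s2_1,s2_2]),
  ([33,37,51,63,195,243,155,179],[s2_1,s2_2,s2_1,s2_2,s2_0]),
  ([206,52,205,193,44,13,155,179],[s2_0,s2_1,s2_2,s2_1,s2_2]),
  ([44,240,5,9,255,45,102,170],[s2_1,s2_2,s2_0,s2_1,s2_0]),
  ([195,2,219,215,210,243,128,64],[s2_0,s2_1,s2_1,s2_2,s2_1]),
  ([1,9,14,2,210,194,66,102],[s2_2,s2_0,s2_0,s2_0,s2_2]),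
  ([255,30,20,24,16,60,126,190],[s2_0,s2_2,s2_1,s2_2,s2_2]),
  ([210,225,234,230,1,194,102,170],[s2_0,s2_2,s2_0,s2_0,s2_0]),
  ([1,14,5,9,210,45,102,170],[s2_1,s2_1,s2_1,s2_1,s2_2]),
  ([210,51,56,52,48,28,179,115],[s2_0,s2_1,s2_1,s2_2,s2_0]),
  ([16,236,230,234,1,194,104,164],[s2_1,s2_1,s2_1,s2_0,s2_2]),
  ([33,30,4,8,16,32,96,160],[s2_0,s2_2,s2_1,s2_1,s2_0]),
  ([1,3,8,4,48,32,132,72],[s2_1,s2_1,s2_1,s2_2,s2_1]),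
  ([16,252,230,234,195,194,130,66],[s2_1,s2_2,s2_1,s2_0,s2_0]),
  ([44,208,37,41,206,13,87,155],[s2_2,s2_1,s2_1,s2_1,s2_1]),
  ([16,250,236,224,33,32,160,132],[s2_0,s2_0,s2_1,s2_1,s2_0]),
  ([195,20,2,14,16,194,170,130],[s2_2,s2_1,s2_1,s2_0,s2_2]),
  ([206,193,250,246,33,222,150,90],[s2_2,s2_0,s2_0,s2_0,s2_1]),
  ([195,14,215,219,210,243,104,164],[s2_0,s2_1,s2_0,s2_0,s2_2]),
  ([48,219,236,224,33,32,64,104],[s2_2,s2_0,s2_0,s2_2,s2_1]),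
  ([16,246,240,252,255,60,190,150],[s2_0,s2_0,s2_1,s2_2,s2_2]),
  ([195,20,193,205,44,13,190,150],[s2_0,s2_1,s2_0,s2_0,s2_0]),
  ([33,41,63,51,195,243,115,87],[s2_0,s2_0,s2_2,s2_2,s2_0]),
  ([48,215,224,236,33,32,164,128],[s2_2,s2_1,s2_2,s2_1,s2_1]),
  ([210,225,56,52,44,28,135,75],[s2_0,s2_1,s2_2,s2_0,s2_0]),
  ([195,193,219,215,33,243,87,155],[s2_0,s2_1,s2_2,s2_0,s2_1]),
  ([206,56,15,3,48,207,75,111],[s2_2,s2_1,s2_2,s2_2,s2_2]),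
  ([206,3,56,52,48,28,135,75],[s2_1,s2_2,s2_2,s2_2,s2_0]),
  ([210,56,63,51,48,243,115,87],[s2_0,s2_2,s2_0,s2_2,s2_0]),
  ([16,250,252,240,255,60,90,126],[s2_2,s2_0,s2_1,s2_0,s2_2]),
  ([195,193,24,20,44,60,150,90],[s2_0,s2_1,s2_0,s2_2,s2_0]),
  ([195,24,14,2,16,194,66,102],[s2_0,s2_2,s2_2,s2_0,s2_0]),
  ([210,56,237,225,44,45,75,111],[s2_0,s2_1,s2_2,s2_2,s2_0]),
  ([210,234,237,225,1,45,170,130],[s2_2,s2_2,s2_2,s2_0,s2_2]),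
  ([16,236,246,250,33,222,132,72],[s2_0,s2_1,s2_0,s2_2,s2_1]),
  ([206,205,56,52,44,28,179,115],[s2_0,s2_0,s2_2,s2_1,s2_1]),
  ([16,234,236,224,1,32,64,104],[s2_2,s2_1,s2_0,s2_0,s2_2]),
  ([210,237,230,234,1,194,130,66],[s2_2,s2_2,s2_0,s2_0,s2_2]),
  ([1,3,9,5,255,45,135,75],[s2_1,s2_2,s2_2,s2_0,s2_2]),
  ([210,52,51,63,48,243,155,179],[s2_0,s2_1,s2_1,s2_1,s2_1]),
  ([206,56,193,205,44,13,115,87],[s2_0,s2_0,s2_0,s2_2,s2_2]),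
  ([255,225,235,231,1,207,135,75],[s2_1,s2_2,s2_1,s2_1,s2_0]),
  ([48,220,215,219,210,243,179,115],[s2_0,s2_1,s2_2,s2_1,s2_0]),
  ([44,220,41,37,206,13,179,115],[s2_0,s2_2,s2_0,s2_2,s2_2]),
  ([206,52,3,15,48,207,175,135],[s2_0,s2_0,s2_0,s2_1,s2_0]),
  ([206,15,250,246,255,222,96,160],[s2_1,s2_1,s2_0,s2_2,s2_0]),
  ([195,219,205,193,33,13,155,179],[s2_0,s2_1,s2_2,s2_2,s2_1]),
  ([48,219,220,208,210,28,155,179],[s2_2,s2_0,s2_2,s2_2,s2_2]),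
  ([210,234,63,51,195,243,64,104],[s2_1,s2_0,s2_0,s2_2,s2_2]),
  ([206,193,52,56,44,28,87,155],[s2_1,s2_2,s2_1,s2_1,s2_1]),
  ([210,63,52,56,48,28,87,155],[s2_1,s2_0,s2_2,s2_1,s2_0]),
  ([44,9,220,208,210,28,75,111],[s2_0,s2_1,s2_2,s2_0,s2_2]),
  ([48,235,220,208,206,28,75,111],[s2_0,s2_1,s2_1,s2_1,s2_0]),
  ([44,240,41,37,195,13,150,90],[s2_1,s2_1,s2_2,s2_1,s2_0]),
  ([195,2,24,20,16,60,130,66],[s2_0,s2_2,s2_2,s2_0,s2_2]),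
  ([210,63,230,234,195,194,104,164],[s2_0,s2_0,s2_0,s2_2,s2_1]),
  ([33,18,41,37,206,13,150,90],[s2_1,s2_1,s2_1,s2_2,s2_0]),
  ([210,230,225,237,1,45,66,102],[s2_0,s2_1,s2_1,s2_0,s2_0]),
  ([1,2,9,5,210,45,130,66],[s2_2,s2_0,s2_2,s2_0,s2_2]),
  ([195,219,14,2,210,194,64,104],[s2_0,s2_2,s2_0,s2_2,s2_1]),
  ([48,220,231,235,206,207,111,175],[s2_0,s2_2,s2_0,s2_1,s2_0]),
  ([255,231,225,237,1,45,175,135],[s2_0,s2_0,s2_1,s2_1,s2_1]),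
  ([255,235,18,30,206,222,160,132],[s2_1,s2_1,s2_0,s2_0,s2_0]),
  ([255,237,24,20,44,60,130,66],[s2_0,s2_0,s2_1,s2_2,s2_1]),
  ([44,252,9,5,255,45,130,66],[s2_0,s2_1,s2_1,s2_0,s2_2]),
  ([195,215,2,14,210,194,164,128],[s2_0,s2_1,s2_0,s2_2,s2_2]),
  ([44,37,220,208,206,28,155,179],[s2_0,s2_1,s2_1,s2_2,s2_2]),
  ([1,15,4,8,48,32,96,160],[s2_1,s2_1,s2_0,s2_0,s2_2]),
  ([255,24,225,237,44,45,66,102],[s2_2,s2_0,s2_2,s2_0,s2_0]),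
  ([33,51,41,37,195,13,179,115],[s2_0,s2_0,s2_2,s2_2,s2_2]),
  ([1,5,3,15,255,207,175,135],[s2_0,s2_0,s2_2,s2_1,s2_2]),
  ([48,215,208,220,210,28,115,87],[s2_0,s2_0,s2_0,s2_1,s2_1]),
  ([44,252,37,41,195,13,126,190],[s2_1,s2_0,s2_0,s2_2,s2_0]),
  ([1,8,14,2,16,194,64,104],[s2_0,s2_0,s2_2,s2_2,s2_1]),
  ([16,230,240,252,195,60,66,102],[s2_0,s2_0,s2_2,s2_0,s2_2]),
  ([33,4,51,63,48,243,164,128],[s2_0,s2_0,s2_1,s2_0,s2_0]),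
  ([210,51,234,230,195,194,128,64],[s2_0,s2_1,s2_2,s2_1,s2_1]),
  ([48,208,235,231,206,207,135,75],[s2_0,s2_0,s2_0,s2_1,s2_2]),
  ([1,8,15,3,48,207,72,96],[s2_1,s2_1,s2_2,s2_0,s2_2]),
  ([210,230,51,63,195,243,164,128],[s2_1,s2_1,s2_2,s2_1,s2_2]),
  ([195,205,215,219,33,243,179,115],[s2_0,s2_2,s2_2,s2_2,s2_0]),
  ([206,15,52,56,48,28,111,175],[s2_0,s2_1,s2_1,s2_1,s2_2]),
  ([33,30,37,41,206,13,126,190],[s2_0,s2_0,s2_1,s2_0,s2_2]),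
  ([48,236,231,235,1,207,132,72],[s2_1,s2_1,s2_2,s2_2,s2_2]),
  ([44,5,252,240,255,60,170,130],[s2_0,s2_2,s2_1,s2_2,s2_1]),
  ([33,63,37,41,195,13,87,155],[s2_1,s2_2,s2_1,s2_2,s2_2]),
  ([44,220,5,9,210,45,111,175],[s2_0,s2_1,s2_2,s2_2,s2_2]),
  ([33,51,8,4,48,32,128,64],[s2_2,s2_2,s2_0,s2_2,s2_1]),
  ([48,235,236,224,1,32,160,132],[s2_1,s2_2,s2_0,s2_2,s2_1]),
  ([44,41,208,220,206,28,115,87],[s2_1,s2_0,s2_2,s2_1,s2_2]),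
  ([1,15,5,9,255,45,111,175],[s2_0,s2_2,s2_1,s2_1,s2_1]),
  ([44,9,240,252,255,60,66,102],[s2_0,s2_2,s2_0,s2_0,s2_2]),
  ([48,236,215,219,33,243,104,164],[s2_0,s2_2,s2_1,s2_0,s2_0]),
  ([48,208,219,215,210,243,87,155],[s2_0,s2_0,s2_0,s2_2,s2_0]),
  ([206,246,193,205,33,13,190,150],[s2_1,s2_2,s2_0,s2_2,s2_0]),
  ([255,20,237,225,44,45,170,130],[s2_1,s2_1,s2_1,s2_1,s2_0]),
  ([16,224,234,230,1,194,128,64],[s2_0,s2_0,s2_1,s2_2,s2_0]),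
  ([195,193,20,24,44,60,90,150],[s2_0,s2_2,s2_1,s2_1,s2_0,s2_2]),
  ([44,37,208,220,206,28,179,155],[s2_1,s2_1,s2_1,s2_1,s2_2,s2_1]),
  ([44,41,220,208,206,28,87,115],[s2_0,s2_0,s2_1,s2_2,s2_2,s2_2]),
  ([1,9,3,15,255,207,111,75],[s2_0,s2_1,s2_1,s2_1,s2_2,s2_1]),
  ([44,9,252,240,255,60,102,66],[s2_0,s2_1,s2_0,s2_0,s2_2,s2_0]),
  ([255,237,235,231,1,207,175,111],[s2_0,s2_1,s2_1,s2_0,s2_0,s2_0]),
  ([255,18,235,231,206,207,72,132],[s2_0,s2_2,s2_1,s2_1,s2_1,s2_2]),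
  ([33,4,30,18,16,222,132,160],[s2_0,s2_0,s2_0,s2_1,s2_0,s2_2]),
  ([255,18,20,24,16,60,90,150],[s2_0,s2_1,s2_1,s2_1,s2_1,s2_0]),
  ([1,9,2,14,210,194,102,66],[s2_1,s2_0,s2_0,s2_2,s2_2,s2_2]),
  ([206,15,246,250,255,222,160,96],[s2_0,s2_1,s2_2,s2_0,s2_2,s2_0]),
  ([44,240,9,5,255,45,170,102],[s2_0,s2_0,s2_1,s2_2,s2_0,s2_2]),
  ([1,8,2,14,16,194,104,64],[s2_0,s2_2,s2_0,s2_2,s2_0,s2_2]),
  ([210,225,230,234,1,194,170,102],[s2_0,s2_1,s2_1,s2_2,s2_1,s2_2]),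
  ([206,56,205,193,44,13,87,115],[s2_1,s2_1,s2_2,s2_1,s2_0,s2_0]),
  ([210,230,63,51,195,243,128,164],[s2_0,s2_1,s2_0,s2_2,s2_1,s2_0]),
  ([48,236,235,231,1,207,72,132],[s2_0,s2_0,s2_1,s2_1,s2_1,s2_0]),
  ([255,237,20,24,44,60,66,130],[s2_1,s2_1,s2_2,s2_1,s2_2,s2_0]),
  ([48,231,220,208,206,28,135,175],[s2_0,s2_0,s2_1,s2_2,s2_1,s2_0]),
  ([206,3,52,56,48,28,75,135],[s2_0,s2_0,s2_1,s2_2,s2_1,s2_2]),
  ([16,230,252,240,195,60,102,66],[s2_0,s2_2,s2_1,s2_0,s2_0,s2_0]),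
  ([195,205,219,215,33,243,115,179],[s2_0,s2_0,s2_2,s2_0,s2_2,s2_1]),
  ([210,51,52,56,48,28,115,179],[s2_0,s2_1,s2_0,s2_2,s2_0,s2_2]),
  ([255,225,231,235,1,207,75,135],[s2_2,s2_0,s2_2,s2_0,s2_2,s2_2]),
  ([1,4,15,3,48,207,132,160],[s2_0,s2_0,s2_2,s2_1,s2_1,s2_1]),
  ([48,220,235,231,206,207,175,111],[s2_0,s2_1,s2_2,s2_0,s2_2,s2_1]),
  ([16,236,250,246,33,222,72,132],[s2_0,s2_2,s2_0,s2_1,s2_0,s2_2]),
  ([1,5,15,3,255,207,135,175],[s2_0,s2_1,s2_1,s2_0,s2_0,s2_2]),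
  ([48,236,219,215,33,243,164,104],[s2_0,s2_2,s2_0,s2_2,s2_2,s2_2]),
  ([33,37,30,18,206,222,150,190],[s2_0,s2_0,s2_2,s2_1,s2_1,s2_0]),
  ([44,37,252,240,195,60,150,190],[s2_0,s2_0,s2_1,s2_1,s2_0,s2_2]),
  ([33,8,18,30,16,222,96,72],[s2_0,s2_1,s2_1,s2_1,s2_2,s2_0]),
  ([33,41,51,63,195,243,87,115],[s2_0,s2_2,s2_2,s2_0,s2_2,s2_1]),
  ([16,224,246,250,33,222,160,96],[s2_0,s2_0,s2_0,s2_1,s2_2,s2_2]),
  ([33,18,4,8,16,32,72,132],[s2_0,s2_0,s2_0,s2_1,s2_0,s2_0]),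
  ([16,252,234,230,195,194,66,130],[s2_0,s2_2,s2_1,s2_0,s2_0,s2_2]),
  ([195,20,205,193,44,13,150,190],[s2_0,s2_0,s2_2,s2_2,s2_2,s2_0]),
  ([206,250,193,205,33,13,126,90],[s2_0,s2_1,s2_2,s2_1,s2_1,s2_1]),
  ([206,246,205,193,33,13,150,190],[s2_0,s2_0,s2_0,s2_2,s2_1,s2_1]),
  ([48,224,231,235,1,207,160,96],[s2_1,s2_0,s2_2,s2_1,s2_2,s2_1]),
  ([195,2,215,219,210,243,64,128],[s2_1,s2_2,s2_1,s2_2,s2_2,s2_2]),
  ([33,18,37,41,206,13,90,150],[s2_0,s2_1,s2_2,s2_1,s2_2,s2_0]),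
  ([206,246,3,15,255,207,96,72],[s2_0,s2_1,s2_2,s2_2,s2_2,s2_0]),
  ([1,4,14,2,16,194,128,164],[s2_0,s2_1,s2_1,s2_1,s2_1,s2_2]),
  ([210,52,237,225,44,45,135,175],[s2_0,s2_2,s2_2,s2_0,s2_0,s2_2]),
  ([255,30,231,235,206,207,160,96],[s2_0,s2_0,s2_0,s2_1,s2_1,s2_1]),
  ([206,52,15,3,48,207,135,175],[s2_0,s2_1,s2_1,s2_0,s2_2,s2_0]),
  ([48,208,215,219,210,243,155,87],[s2_0,s2_2,s2_1,s2_2,s2_1,s2_1]),
  ([1,15,9,5,255,45,175,111],[s2_0,s2_2,s2_0,s2_0,s2_0,s2_2]),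
  ([16,246,236,224,33,32,96,72],[s2_0,s2_1,s2_1,s2_1,s2_0,s2_2]),
  ([1,8,3,15,48,207,96,72],[s2_0,s2_1,s2_2,s2_2,s2_0,s2_2]),
  ([16,252,250,246,255,222,190,126],[s2_0,s2_0,s2_0,s2_1,s2_1,s2_0]),
  ([16,250,224,236,33,32,132,160],[s2_0,s2_0,s2_0,s2_1,s2_2,s2_0]),
  ([255,231,237,225,1,45,135,175],[s2_0,s2_0,s2_0,s2_1,s2_2,s2_1]),
  ([33,8,51,63,48,243,104,64],[s2_0,s2_0,s2_0,s2_2,s2_2,s2_2]),
  ([206,250,15,3,255,207,132,160],[s2_0,s2_0,s2_1,s2_1,s2_1,s2_2]),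
  ([255,30,24,20,16,60,190,126],[s2_0,s2_2,s2_0,s2_2,s2_0,s2_0]),
  ([206,193,56,52,44,28,155,87],[s2_0,s2_2,s2_1,s2_2,s2_2,s2_2]),
  ([210,63,56,52,48,28,155,87],[s2_0,s2_0,s2_1,s2_2,s2_2,s2_0]),
  ([33,63,41,37,195,13,155,87],[s2_1,s2_2,s2_0,s2_2,s2_0,s2_0]),
  ([195,20,14,2,16,194,130,170],[s2_0,s2_0,s2_1,s2_0,s2_0,s2_2]),
  ([33,51,4,8,48,32,64,128],[s2_1,s2_2,s2_1,s2_1,s2_1,s2_2]),
  ([210,237,56,52,44,28,175,111],[s2_0,s2_0,s2_2,s2_0,s2_2,s2_0]),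
  ([44,5,220,208,210,28,135,175],[s2_0,s2_0,s2_2,s2_0,s2_2,s2_2]),
  ([16,230,236,224,1,32,128,164],[s2_0,s2_0,s2_1,s2_0,s2_2,s2_1]),
  ([33,30,8,4,16,32,160,96],[s2_1,s2_2,s2_2,s2_2,s2_0,s2_2]),
  ([1,14,8,4,16,32,164,104],[s2_0,s2_1,s2_1,s2_2,s2_0,s2_2]),
  ([44,208,5,9,210,45,75,135],[s2_0,s2_0,s2_2,s2_1,s2_2,s2_1]),
  ([16,224,230,234,1,194,64,128],[s2_0,s2_0,s2_0,s2_2,s2_0,s2_2]),
  ([255,235,30,18,206,222,132,160],[s2_0,s2_0,s2_2,s2_1,s2_2,s2_2]),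
  ([33,41,30,18,206,222,90,126],[s2_0,s2_1,s2_2,s2_2,s2_2,s2_0,s2_2]),
  ([195,205,20,24,44,60,126,190],[s2_0,s2_0,s2_0,s2_1,s2_0,s2_0,s2_2]),
  ([206,250,3,15,255,207,160,132],[s2_0,s2_0,s2_0,s2_1,s2_2,s2_1,s2_2]),
  ([195,215,193,205,33,13,115,87],[s2_0,s2_0,s2_2,s2_1,s2_1,s2_0,s2_2]),
  ([195,24,205,193,44,13,90,126],[s2_0,s2_0,s2_0,s2_2,s2_0,s2_2,s2_1]),
  ([33,4,18,30,16,222,160,132],[s2_0,s2_0,s2_1,s2_2,s2_1,s2_2,s2_0]),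
  ([1,2,8,4,16,32,128,64],[s2_0,s2_0,s2_1,s2_2,s2_2,s2_0,s2_2]),
  ([1,14,4,8,16,32,104,164],[s2_0,s2_0,s2_0,s2_2,s2_1,s2_1,s2_1]),
  ([44,37,240,252,195,60,190,150],[s2_0,s2_0,s2_0,s2_1,s2_2,s2_0,s2_2]),
  ([33,8,63,51,48,243,64,104],[s2_0,s2_1,s2_2,s2_0,s2_2,s2_0,s2_0]),
  ([44,208,9,5,210,45,135,75],[s2_0,s2_0,s2_1,s2_0,s2_0,s2_2,s2_0]),
  ([195,14,20,24,16,60,102,170],[s2_0,s2_0,s2_0,s2_2,s2_2,s2_2,s2_0]),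
  ([48,231,208,220,206,28,175,135],[s2_0,s2_0,s2_2,s2_1,s2_2,s2_1,s2_1]),
  ([206,205,246,250,33,222,126,190],[s2_0,s2_0,s2_1,s2_2,s2_2,s2_2,s2_0]),
  ([255,20,18,30,16,222,190,150],[s2_0,s2_0,s2_2,s2_1,s2_1,s2_1,s2_2]),
  ([255,231,30,18,206,222,72,96],[s2_0,s2_0,s2_2,s2_0,s2_2,s2_0,s2_0])]

def W2 : List (ℕ × List (List ℕ)) := [
  (12,[]), (13,[g0]), (28,[g3]), (93,[g0,g3]), (45,[g0,g4]), (185,[g0,g5]), (157,[g3,g0]),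
  (60,[g3,g2]), (222,[g0,g3,g0]), (117,[g0,g3,g2]), (243,[g0,g3,g5]), (40,[g0,g4,g0]),
  (36,[g0,g4,g1]), (207,[g3,g0,g5]), (204,[g3,g2,g3]), (192,[g3,g2,g5]), (194,[g0,g3,g0,g4]),
  (32,[g0,g4,g0,g1])]

def t2 : PtData where
  r := 12
  T := T2
  S := [s2_0, s2_1, s2_2]
  L := L2
  W := W2
  C := [([g0,g1,g2,g3,g5], [g3,g0,g2,g5,g1])]

theorem check2 : PtCheck (confPO83.X ++ confPO83.N ++ confPO83.M) (confPO83.X ++ confPO83.N) t2 := by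
  constructor <;> decide +kernel

theorem cover : ∀ n ∈ List.range 256, n ≠ 0 → qs (vec n) = 0 → n ∈ orb ∨ n ∈ t0.W.map (fun w => w.1) ∨ n ∈ t1.W.map (fun w => w.1) ∨ n ∈ t2.W.map (fun w => w.1) := by
  decide +kernel

/-- every conjugate of `z` in `Q` lies over a point of `orb` -/
theorem pts [Finite G] (p : Pair Q z A a) (φ : Coord p.lz) (hc : IsConf p φ confPO83) (x : Q)
    (hx : IsConj z (x : G)) (hx0 : p.lz.pr x ≠ 0) : ∃ n ∈ orb, φ.e (p.lz.pr x) = vec n := by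
  obtain ⟨n, hn, hnv⟩ := exists_code (φ.e (p.lz.pr x))
  obtain ⟨A', p', hp'⟩ := pair_of_isConj p x hx hx0
  have hq0 : qs (vec n) = 0 := by rw [← hnv, ← φ.q]; exact hp' ▸ p'.q_D p'.va_mem_D
  have hn0 : n ≠ 0 := by
    rintro rfl
    rw [vec_zero] at hnv
    exact hx0 (φ.e.map_eq_zero_iff.1 hnv)
  rcases cover n (List.mem_range.2 hn) hn0 hq0 with h1 | h1 | h1 | h1
  · exact ⟨n, h1, hnv⟩
  · exfalso
    obtain ⟨w, hw, rfl⟩ := List.mem_map.1 h1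
    exact no_pair p φ hc check0 p' ⟨w, hw, by rw [hp', hnv]⟩
  · exfalso
    obtain ⟨w, hw, rfl⟩ := List.mem_map.1 h1
    exact no_pair p φ hc check1 p' ⟨w, hw, by rw [hp', hnv]⟩
  · exfalso
    obtain ⟨w, hw, rfl⟩ := List.mem_map.1 h1
    exact no_pair p φ hc check2 p' ⟨w, hw, by rw [hp', hnv]⟩

end Cfsg.Agent.LargeExtra.KillNine.PtsPO83
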