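import Cfsg.Agent.LargeExtra.KillNine.Pts

/-!
# The conjugates of `z` in `Q` for `confTh`: all 135 singular vectors (helper441)
-/

set_option autoImplicit false
set_option maxRecDepth 100000

namespace Cfsg.Agent.LargeExtra.KillNine.PtsTh

open Cfsg.Agent.Co2Type.Quad Cfsg.Agent.LargeExtra.Base Cfsg.Agent.LargeExtra.Nine
open Cfsg.Agent.LargeExtra.KillNine.Pts Cfsg.Agent.LargeExtra.KillNine.Codes

variable {G : Type*} [Group G] {Q A : Subgroup G} {z a : G}

/-- the points of `confTh` -/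
def orb : List ℕ := [
    1, 2, 3, 4, 5, 6, 7, 8, 9, 10, 11, 12, 13, 14, 15, 16, 18, 20, 22, 24, 26, 28, 30, 32, 33, 36,
    37, 40, 41, 44, 45, 48, 51, 52, 55, 56, 59, 60, 63, 64, 65, 66, 67, 72, 73, 74, 75, 80, 82, 85,
    87, 88, 90, 93, 95, 96, 97, 102, 103, 104, 105, 110, 111, 112, 115, 117, 118, 120, 123, 125,
    126, 128, 129, 130, 131, 132, 133, 134, 135, 144, 146, 148, 150, 153, 155, 157, 159, 160, 161,
    164, 165, 170, 171, 174, 175, 176, 179, 180, 183, 185, 186, 189, 190, 192, 193, 194, 195, 204,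
    205, 206, 207, 208, 210, 213, 215, 217, 219, 220, 222, 224, 225, 230, 231, 234, 235, 236, 237,
    240, 243, 245, 246, 249, 250, 252, 255]

theorem cover : ∀ n ∈ List.range 256, n ≠ 0 → qs (vec n) = 0 → n ∈ orb := by
  decide +kernel

/-- every conjugate of `z` in `Q` lies over a singular point (any configuration) -/
theorem pts (p : Pair Q z A a) (φ : Coord p.lz) (x : Q)
    (hx : IsConj z (x : G)) (hx0 : p.lz.pr x ≠ 0) : ∃ n ∈ orb, φ.e (p.lz.pr x) = vec n := by
  obtain ⟨n, hn, hnv⟩ := exists_code (φ.e (p.lz.pr x))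
  obtain ⟨A', p', hp'⟩ := pair_of_isConj p x hx hx0
  have hq0 : qs (vec n) = 0 := by rw [← hnv, ← φ.q]; exact hp' ▸ p'.q_D p'.va_mem_D
  have hn0 : n ≠ 0 := by
    rintro rfl
    rw [vec_zero] at hnv
    exact hx0 (φ.e.map_eq_zero_iff.1 hnv)
  exact ⟨n, cover n (List.mem_range.2 hn) hn0 hq0, hnv⟩

end Cfsg.Agent.LargeExtra.KillNine.PtsTh
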